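import Cfsg.Agent.Lib.Solv.Special.Alg648Signs

/-!
The scalar equations for `3³ : S₄`.
-/

set_option autoImplicit false
set_option maxHeartbeats 800000

namespace Cfsg.Agent.Solv.Special.Alg648

section

variable {a b c d K : ℝ}

variable {x1 q xe : ℝ}

/-- The equations after a shift and a scaling. -/
theorem core (hK : 0 < K) (ha : a ≠ 0) (hb : b ≠ 0) (hc : c ≠ 0) (hd : d ≠ 0) (hcd : c + d ≠ 0)
    (hP : b + c + d ≠ 0) (hM : 1 + b + d ≠ 0) (hM' : 1 + b + 2 * c + d ≠ 0)
    (e1 : c * d = K * (c + d))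
    (e2 : (b + c + d) * (b * q ^ 2 + d) - (b * q + d) ^ 2 = 2 * K * (b + c + d))
    (e4 : (1 + b + d) * (x1 ^ 2 + b * q ^ 2 + d) - (x1 + b * q + d) ^ 2 = 5 * K * (1 + b + d))
    (e6 : (1 + b + 2 * c + d) * (x1 ^ 2 + b * q ^ 2 + d) - (x1 + b * q + d) ^ 2 =
      5 * K * (1 + b + 2 * c + d))
    (e3 : (a + b + c) * (a * xe ^ 2 + b * q ^ 2) - (a * xe + b * q) ^ 2 = K * (a + b + c))
    (e5 : (1 + a + c + d) * (x1 ^ 2 + a * xe ^ 2 + d) - (x1 + a * xe + d) ^ 2 =
      5 * K * (1 + a + c + d))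
    (e7 : (a + b + c + 2 * d) * (a * xe ^ 2 + b * q ^ 2 + 2 * d) - (a * xe + b * q + 2 * d) ^ 2 =
      3 * K * (a + b + c + 2 * d))
    (hM18 : 1 + b + c + d < 0 → 1 + b + c + d ≤ -18) (hM1 : c + d < 0 → c + d ≤ -1) :
    0 < c ∧ c ≤ 3 := by
  set P := b + c + d with hPdef
  set u := (b * q + d) / P with hu
  have huP : b * q + d = u * P := by rw [hu]; field_simp
  have hsum : x1 ^ 2 + b * q ^ 2 + d = 5 * K := by
    have : c * (x1 ^ 2 + b * q ^ 2 + d - 5 * K) = 0 := by linear_combination (e6 - e4) / 2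
    exact sub_eq_zero.1 ((mul_eq_zero.1 this).resolve_left hc)
  have hx1 : x1 = -(u * P) := by
    have : (x1 + b * q + d) ^ 2 = 0 := by linear_combination -e4 + (1 + b + d) * hsum
    linarith [pow_eq_zero_iff (n := 2) two_ne_zero |>.1 this]
  subst hx1
  have hB2 : b * q ^ 2 + d = 2 * K + P * u ^ 2 := by
    have : P * (b * q ^ 2 + d - (2 * K + P * u ^ 2)) = 0 := by
      linear_combination e2 + (b * q + d + u * P) * huP
    exact sub_eq_zero.1 ((mul_eq_zero.1 this).resolve_left hP)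
  have huK : u ^ 2 * P * (P + 1) = 3 * K := by linear_combination hsum - hB2
  have hq : b * q = u * P - d := by linarith
  set r := (c + d) * u - d with hr
  have hr2 : r ^ 2 * P = b * c * d := by
    linear_combination (-(b * q + (P * u - d)) * (c + d)) * hq + (b * (c + d)) * hB2 -
      (2 * b) * e1
  have hu0 : u ≠ 0 := fun h => by rw [h] at huK; nlinarith
  set γ := c / d with hγ
  set t := r / d with ht
  set g := γ + 1 with hg
  set Q := γ - t ^ 2 with hQ
  set M := P + 1 with hM_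
  have hcγ : c = γ * d := by rw [hγ]; field_simp
  have hrt : r = t * d := by rw [ht]; field_simp
  have hs : 1 + t = g * u := by
    rw [ht, hg, hγ, hr]; field_simp; ring
  have hg0 : g ≠ 0 := fun h => hcd (by rw [hcγ]; linear_combination d * h)
  have hs0 : 1 + t ≠ 0 := hs ▸ mul_ne_zero hg0 hu0
  have hPt : P * t ^ 2 = b * γ := by
    have : d ^ 2 * (P * t ^ 2 - b * γ) = 0 := by
      rw [hcγ, hrt] at hr2
      linear_combination hr2
    exact sub_eq_zero.1 ((mul_eq_zero.1 this).resolve_left (pow_ne_zero 2 hd))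
  have hPQ : P * Q = γ * g * d := by
    rw [hQ, hg]
    have hP' : P = b + γ * d + d := by rw [hPdef, hcγ]
    linear_combination -hPt + γ * hP'
  have hKg : K * g = γ * d := by
    have : d * (K * g - γ * d) = 0 := by rw [hg]; linear_combination -e1 + (d - K) * hcγ
    exact sub_eq_zero.1 ((mul_eq_zero.1 this).resolve_left hd)
  have hMQ : M * (1 + t) ^ 2 = 3 * Q := by
    have : P * (M * (1 + t) ^ 2 - 3 * Q) = 0 := by
      rw [hs, hM_]
      linear_combination g ^ 2 * huK + (3 * g) * hKg - 3 * hPQ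
    exact sub_eq_zero.1 ((mul_eq_zero.1 this).resolve_left hP)
  set e := xe - u with he
  set A := a * e with hA
  set Me := a + b + c + d with hMe
  set Z := a * e ^ 2 + 2 * A * u + Me * u ^ 2 with hZ_
  set Y := A + Me * u with hY
  have E3 : (Me - d) * (Z + K - d) = (Y - d) ^ 2 + 0 := by
    have h1 : a * xe + b * q = Y - d := by rw [hY, hA, hMe, he]; linear_combination hq + u * hPdef
    have h2 : a * xe ^ 2 + b * q ^ 2 = Z + 2 * K - d := by
      rw [hZ_, hA, hMe, he]; linear_combination hB2 + u ^ 2 * hPdef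
    rw [h1, h2] at e3
    rw [hMe]
    linear_combination e3
  have E7 : (Me + d) * (Z - K + d) = (Y + d) ^ 2 + 0 := by
    have h1 : a * xe + b * q + 2 * d = Y + d := by
      rw [hY, hA, hMe, he]; linear_combination hq + u * hPdef
    have h2 : a * xe ^ 2 + b * q ^ 2 + 2 * d = Z + 2 * K + d := by
      rw [hZ_, hA, hMe, he]; linear_combination hB2 + u ^ 2 * hPdef
    rw [h1, h2] at e7
    rw [hMe]
    linear_combination e7
  have hae : a * P * e ^ 2 = K * d := by
    rw [hZ_, hY] at E3 E7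
    rw [hA, hMe] at E3 E7
    linear_combination (E3 + E7) / 2 + (a * e ^ 2) * hPdef
  have hlin : d * Z + Me * (d - K) - 2 * Y * d = 0 := by linear_combination (E7 - E3) / 2
  set B := A * g with hB
  have hB2' : B ^ 2 = a * Q * d := by
    have : P * (B ^ 2 - a * Q * d) = 0 := by
      rw [hB, hA]
      linear_combination (a * g ^ 2) * hae + (a * d * g) * hKg - (a * d) * hPQ
    exact sub_eq_zero.1 ((mul_eq_zero.1 this).resolve_left hP)
  have hae' : a * e ^ 2 * g ^ 2 = Q * d := by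
    have : a * (a * e ^ 2 * g ^ 2 - Q * d) = 0 := by rw [hB, hA] at hB2'; linear_combination hB2'
    exact sub_eq_zero.1 ((mul_eq_zero.1 this).resolve_left ha)
  have E1 : Me * ((γ - t) ^ 2 - γ * g) - 2 * B * (γ - t) + Q * d = 0 := by
    have h1 : γ - t = g * (1 - u) := by linear_combination -hs - hg
    have : d * (Me * ((γ - t) ^ 2 - γ * g) - 2 * B * (γ - t) + Q * d) = 0 := by
      rw [h1, hB]
      rw [hZ_, hY] at hlin
      linear_combination g ^ 2 * hlin + (Me * g) * hKg - d * hae'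
    exact (mul_eq_zero.1 this).resolve_left hd
  have hZ0 : 0 ≤ g * t * (t ^ 2 - γ * t - γ) := by
    set Φ := (γ - t) ^ 2 - γ * g with hΦ
    have hMe' : Me = a + P := by rw [hMe, hPdef]; ring
    have hQ0 : Q ≠ 0 := fun h => by
      rw [h] at hMQ
      rcases mul_eq_zero.1 (show M * (1 + t) ^ 2 = 0 by linarith) with h' | h'
      · rw [show u ^ 2 * P * (P + 1) = 0 by rw [hM_] at h'; rw [h', mul_zero]] at huK; linarith
      · exact hs0 (pow_eq_zero_iff two_ne_zero |>.1 h')
    have hsq : (Φ * B - (γ - t) * (Q * d)) ^ 2 = d ^ 2 * (γ * g * (Q ^ 2 - Φ ^ 2)) := by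
      linear_combination (Φ ^ 2) * hB2' + (Φ * Q * d) * E1 - (Φ ^ 2 * Q * d) * hMe' -
        (Φ ^ 2 * d) * hPQ - (Q ^ 2 * d ^ 2) * hΦ
    have h1 : d ^ 2 * (γ * g * (Q ^ 2 - Φ ^ 2)) =
        4 * (γ * d) ^ 2 * (g * t * (t ^ 2 - γ * t - γ)) := by
      rw [hΦ, hQ, hg]; ring
    have hpos : 0 < 4 * (γ * d) ^ 2 := by
      rw [← hcγ]; positivity
    rw [h1] at hsq
    by_contra h
    push Not at h
    have h3 := sq_nonneg (Φ * B - (γ - t) * (Q * d))
    rw [hsq] at h3
    exact absurd h3 (not_le.2 (mul_neg_of_pos_of_neg hpos h))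
  refine signs (a := a) (B := B) (R := M * (1 + t) + t * (c + d)) (W := 1 + c + d)
    (P := P) (M := M) hd ?_ hcγ hg hQ (by rw [hM_]; ring) hPQ hMQ hs0 hB2' rfl rfl ?_ ?_ hZ0 ?_ ?_ hM1
  · intro h
    rw [h] at hPt
    have : γ = 0 := ((mul_eq_zero.1 (show b * γ = 0 by linarith)).resolve_left hb)
    exact hc (by rw [hcγ, this, zero_mul])
  · have hu' : g * u = 1 + t := hs.symm
    have hdg : c + d = g * d := by rw [hg, hcγ]; ring
    set s := 1 + t with hs'
    have h5 : (1 + a + c + d) * (-2 * γ * (g * d) - P * s ^ 2 + Q * d + 2 * B * s + a * s ^ 2 + d * g ^ 2) =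
        (B + s * (a - P) + d * g) ^ 2 := by
      rw [← hu', hB]
      rw [hA]
      rw [he]
      linear_combination g ^ 2 * e5 + (2 * g * (1 + a + c + d)) * hKg -
        (g ^ 2 * (1 + a + c + d)) * huK - (1 + a + c + d) * hae'
    rw [hcγ] at h5 ⊢
    rw [hM_] at hMQ ⊢
    rw [hs'] at h5 hMQ ⊢
    rw [hQ, hg] at h5
    rw [hQ]
    rw [hQ] at hMQ
    linear_combination (-1) * h5 + (1 + γ * d + d + a) * hMQ
  · rw [e1, mul_assoc]
    exact mul_pos hK (mul_self_pos.2 hcd)
  · have h : 0 < u ^ 2 * (P * M) := by rw [hM_, ← mul_assoc, huK]; linarith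
    exact (mul_pos_iff_of_pos_left (by positivity)).1 h
  · intro h
    rw [hM_, hPdef] at h ⊢
    linarith [hM18 (by linarith)]

end

end Cfsg.Agent.Solv.Special.Alg648
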