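import Mathlib

/-!
The scalar equations for `3³ : S₄`.
-/

set_option autoImplicit false
set_option maxHeartbeats 800000

namespace Cfsg.Agent.Solv.Special.Alg648

section

variable {a b c d x u K γ t g Q M P B R W : ℝ}

/-- The sign analysis in the reduced variables. -/
theorem signs (hd : d ≠ 0) (ht : t ≠ 0) (hc : c = γ * d) (hg : g = γ + 1) (hQ : Q = γ - t ^ 2)
    (hP : P = M - 1) (hPQ : P * Q = γ * g * d) (hMQ : M * (1 + t) ^ 2 = 3 * Q) (hs : 1 + t ≠ 0)
    (hB : B ^ 2 = a * Q * d) (hW : W = 1 + c + d) (hR : R = M * (1 + t) + t * (c + d))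
    (hV : (B - R) ^ 2 = (3 - c) * Q * (W + a)) (hKpos : 0 < c * d * (c + d))
    (hZ : 0 ≤ g * t * (t ^ 2 - γ * t - γ)) (hPP : 0 < P * M)
    (hM18 : M < 0 → M ≤ -18) (hM1 : c + d < 0 → c + d ≤ -1) :
    0 < c ∧ c ≤ 3 := by
  have hs2 : (0 : ℝ) < (1 + t) ^ 2 := by positivity
  have hneg : M < 0 → t ^ 2 - γ ≥ 6 * (1 + t) ^ 2 := fun h => by
    nlinarith [hM18 h, mul_le_mul_of_nonneg_right (hM18 h) hs2.le]
  rcases lt_trichotomy c 0 with hc0 | hc0 | hc0
  · exfalso
    rcases lt_trichotomy d 0 with hd0 | hd0 | hd0
    · nlinarith [mul_pos_of_neg_of_neg hc0 hd0]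
    · exact hd hd0
    · have hγ : γ < 0 := by
        by_contra h
        push Not at h
        nlinarith [mul_nonneg h hd0.le]
      have hM0 : c + d < 0 := by
        by_contra h
        push Not at h
        nlinarith [mul_nonneg h (le_of_lt (mul_pos_of_neg_of_neg hc0 (neg_lt_zero.2 hd0)))]
      have hn := hM1 hM0
      have hQ0 : Q < 0 := by
        by_contra h
        push Not at h
        nlinarith [sq_nonneg t]
      have hM0' : M < 0 := by
        by_contra h
        push Not at h
        nlinarith [mul_nonneg h hs2.le]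
      have h18 := hM18 hM0'
      obtain ⟨n, rfl⟩ : ∃ n, n = -(c + d) := ⟨_, rfl⟩
      set n := -(c + d) with hn'
      set m := -M / 3 with hm
      set s := 1 + t with hs'
      have hm6 : 6 ≤ m := by rw [hm]; linarith
      have hQm : Q = -(m * s ^ 2) := by rw [hm]; linarith
      have hdisc : 0 ≤ R ^ 2 + (c + d - 3) * (Q * W) := by
        have hk : ((c + d - 3) * B - d * R) ^ 2 = d * (3 - c) * (R ^ 2 + (c + d - 3) * (Q * W)) := by
          linear_combination ((c + d - 3) * d) * hV + ((c + d - 3) * (c - 3)) * hB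
        have hpos : 0 < d * (3 - c) := mul_pos hd0 (by linarith)
        by_contra h
        push Not at h
        nlinarith [mul_neg_of_pos_of_neg hpos h, sq_nonneg ((c + d - 3) * B - d * R)]
      have hrel : n * (m * s ^ 2 - t ^ 2) = m * s ^ 2 * (3 * m + 1) := by
        have e1 : γ * g * d = γ * -n := by rw [hn', hc, hg]; ring
        have e2 : P = -3 * m - 1 := by rw [hP, hm]; ring
        have e3 : γ = t ^ 2 - m * s ^ 2 := by linarith
        rw [e1, e2, hQm, e3] at hPQ
        linarith
      have hlt : 0 < m * s ^ 2 - t ^ 2 := by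
        by_contra h
        push Not at h
        nlinarith [mul_pos (mul_pos (show (0 : ℝ) < m by linarith) hs2) (show (0 : ℝ) < 3 * m + 1 by linarith),
          mul_nonpos_iff.2 (Or.inl ⟨(show 0 ≤ n by linarith), h⟩)]
      have hn19 : 3 * m + 1 ≤ n := by
        by_contra h
        push Not at h
        have h1 : n * (m * s ^ 2 - t ^ 2) < (3 * m + 1) * (m * s ^ 2 - t ^ 2) :=
          mul_lt_mul_of_pos_right h hlt
        nlinarith [mul_nonneg (show (0 : ℝ) ≤ 3 * m + 1 by linarith) (sq_nonneg t)]
      have hRe : R = -3 * m * s - n * t := by rw [hR, hm, hn']; ring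
      have hWe : W = 1 - n := by rw [hW, hn']; ring
      rw [hRe, hQm, hWe, show c + d = -n by rw [hn']; ring] at hdisc
      have key : 0 ≤ m * (6 * n * (s * t) + 9 * m * s ^ 2 + 3 * s ^ 2 - n * (3 * m + 3) * s ^ 2) := by
        linear_combination hdisc - n * hrel
      have key' : n * (3 * m + 3) * s ^ 2 ≤ 6 * n * (s * t) + 9 * m * s ^ 2 + 3 * s ^ 2 := by
        have := (mul_nonneg_iff_of_pos_left (show (0 : ℝ) < m by linarith)).1 key
        linarith
      have hst : 6 * (s * t) ≤ (9 + m) * s ^ 2 := by nlinarith [sq_nonneg (t - 3 * s)]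
      have h2 : n * (2 * m - 6) * s ^ 2 ≤ (9 * m + 3) * s ^ 2 := by
        nlinarith [mul_le_mul_of_nonneg_left hst (show 0 ≤ n by linarith)]
      have h3 : n * (2 * m - 6) ≤ 9 * m + 3 := le_of_mul_le_mul_right h2 hs2
      nlinarith [mul_le_mul hn19 (show (6 : ℝ) ≤ 2 * m - 6 by linarith) (by norm_num) (by linarith)]
  · rw [hc0] at hKpos; simp at hKpos
  · rcases lt_trichotomy d 0 with hd0 | hd0 | hd0
    · exfalso
      have hγ : γ < 0 := by
        by_contra h
        push Not at h
        nlinarith [mul_nonpos_iff.2 (Or.inl ⟨h, hd0.le⟩)]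
      have hM0 : c + d < 0 := by
        by_contra h
        push Not at h
        nlinarith [mul_nonneg h (le_of_lt (mul_pos hc0 (neg_pos.2 hd0)))]
      have hg0 : 0 < g := by
        by_contra h
        push Not at h
        nlinarith [mul_nonneg_of_nonpos_of_nonpos h hd0.le]
      have hM0' : M < 0 := by
        by_contra h
        push Not at h
        nlinarith [mul_nonneg h hs2.le, sq_nonneg t]
      have h6 := hneg hM0'
      have hgam : -1 < γ := by linarith
      rcases lt_trichotomy t 0 with h | h | h
      · have hz : t ^ 2 - γ * t - γ ≤ 0 := by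
          by_contra h'
          push Not at h'
          nlinarith [mul_pos (mul_pos hg0 (neg_pos.2 h)) h']
        nlinarith [mul_pos_of_neg_of_neg hγ h, sq_nonneg (t + 1 / 2), sq_nonneg (1 + t),
          mul_nonneg (show (0 : ℝ) ≤ γ + 1 by linarith) (sq_nonneg t)]
      · exact ht h
      · nlinarith [sq_nonneg t]
    · exact absurd hd0 hd
    · refine ⟨hc0, ?_⟩
      have hγ : 0 < γ := by
        by_contra h
        push Not at h
        nlinarith [mul_nonpos_iff.2 (Or.inr ⟨h, hd0.le⟩)]
      rcases lt_or_ge 0 M with hM | hM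
      · have hQ0 : 0 < Q := by nlinarith [mul_pos hM hs2]
        have ha : 0 ≤ a := by
          by_contra h
          push Not at h
          nlinarith [mul_neg_of_neg_of_pos h (mul_pos hQ0 hd0), sq_nonneg B]
        by_contra h
        push Not at h
        nlinarith [mul_pos (mul_pos (sub_pos.2 h) hQ0) (show 0 < W + a by linarith),
          sq_nonneg (B - R)]
      · exfalso
        have hM' : M < 0 := lt_of_le_of_ne hM fun h => by rw [h, mul_zero] at hPP; exact lt_irrefl _ hPP
        have h6 := hneg hM'
        rcases lt_trichotomy t 0 with h | h | h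
        · have hz : 0 < t ^ 2 - γ * t - γ := by
            have := mul_pos hγ (neg_pos.2 h)
            linarith
          have := mul_pos (mul_pos (show 0 < g by linarith) (neg_pos.2 h)) hz
          linarith
        · exact ht h
        · have : t ^ 2 < 6 * (1 + t) ^ 2 := by nlinarith only [h]
          linarith

end

end Cfsg.Agent.Solv.Special.Alg648
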