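import Cfsg.Agent.Lib.Solv.Special.Alg648

/-!
The two possible configurations for `3³ : S₄`.
-/

set_option autoImplicit false

namespace Cfsg.Agent.Solv.Special.Alg648

theorem sq_mul_div {b : ℝ} (hb : b ≠ 0) (y : ℝ) : (b * y) ^ 2 / b = b * y ^ 2 := by
  field_simp

/-- The first four equations, normalised. -/
theorem normalise {b c d N Ub Uc Ud K : ℝ} (hK : 0 < K) (hb : b ≠ 0) (hc : c ≠ 0) (hd : d ≠ 0)
    (hcd : c + d ≠ 0) (hP : b + c + d ≠ 0) (hM : 1 + b + d ≠ 0) (hM' : 1 + b + 2 * c + d ≠ 0)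
    (f1 : (Uc + Ud) ^ 2 / (c + d) - Uc ^ 2 / c - Ud ^ 2 / d = -K)
    (f2 : (Ub + Uc + Ud) ^ 2 / (b + c + d) - Ub ^ 2 / b - Uc ^ 2 / c - Ud ^ 2 / d = -(2 * K))
    (f4 : (N + Ub + Ud) ^ 2 / (1 + b + d) - Ub ^ 2 / b - Ud ^ 2 / d = N ^ 2 - 5 * K)
    (f6 : (N + Ub + 2 * Uc + Ud) ^ 2 / (1 + b + 2 * c + d) - Ub ^ 2 / b - 2 * (Uc ^ 2 / c) -
      Ud ^ 2 / d = N ^ 2 - 5 * K) :
    ∃ h δ K' x1 q : ℝ, δ ≠ 0 ∧ 0 < K' ∧ K = δ ^ 2 * K' ∧ N = h + δ * x1 ∧ Ub = b * (h + δ * q) ∧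
      Uc = c * h ∧ Ud = d * (h + δ) ∧ c * d = K' * (c + d) ∧
      (b + c + d) * (b * q ^ 2 + d) - (b * q + d) ^ 2 = 2 * K' * (b + c + d) ∧
      (1 + b + d) * (x1 ^ 2 + b * q ^ 2 + d) - (x1 + b * q + d) ^ 2 = 5 * K' * (1 + b + d) ∧
      (1 + b + 2 * c + d) * (x1 ^ 2 + b * q ^ 2 + d) - (x1 + b * q + d) ^ 2 =
        5 * K' * (1 + b + 2 * c + d) := by
  set h := Uc / c with hh
  set δ := Ud / d - h with hδ
  have hUc : Uc = c * h := by rw [hh]; field_simp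
  have hUd : Ud = d * (h + δ) := by rw [hδ]; field_simp; ring
  have g1 : (Uc + Ud) ^ 2 = (Uc ^ 2 / c + Ud ^ 2 / d - K) * (c + d) :=
    (div_eq_iff hcd).1 (by linarith)
  rw [hUc, hUd, sq_mul_div hc, sq_mul_div hd] at g1
  have hδ0 : δ ≠ 0 := fun z => by
    rw [z] at g1
    have : K * (c + d) = 0 := by linear_combination g1
    exact (mul_ne_zero hK.ne' hcd) this
  have hδ2 : (0 : ℝ) < δ ^ 2 := by positivity
  obtain ⟨x1, rfl⟩ : ∃ x1, N = h + δ * x1 := ⟨(N - h) / δ, by field_simp; ring⟩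
  obtain ⟨q, rfl⟩ : ∃ q, Ub = b * (h + δ * q) := ⟨(Ub / b - h) / δ, by field_simp; ring⟩
  obtain ⟨K', rfl⟩ : ∃ K', K = δ ^ 2 * K' := ⟨K / δ ^ 2, by field_simp⟩
  have g2 : (b * (h + δ * q) + Uc + Ud) ^ 2 =
      ((b * (h + δ * q)) ^ 2 / b + Uc ^ 2 / c + Ud ^ 2 / d - 2 * (δ ^ 2 * K')) * (b + c + d) :=
    (div_eq_iff hP).1 (by linarith)
  have g4 : (h + δ * x1 + b * (h + δ * q) + Ud) ^ 2 =
      ((b * (h + δ * q)) ^ 2 / b + Ud ^ 2 / d + (h + δ * x1) ^ 2 - 5 * (δ ^ 2 * K')) * (1 + b + d) :=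
    (div_eq_iff hM).1 (by linarith)
  have g6 : (h + δ * x1 + b * (h + δ * q) + 2 * Uc + Ud) ^ 2 =
      ((b * (h + δ * q)) ^ 2 / b + 2 * (Uc ^ 2 / c) + Ud ^ 2 / d + (h + δ * x1) ^ 2 -
        5 * (δ ^ 2 * K')) * (1 + b + 2 * c + d) :=
    (div_eq_iff hM').1 (by linarith)
  rw [hUc, hUd, sq_mul_div hb, sq_mul_div hc, sq_mul_div hd] at g2 g6
  rw [hUd, sq_mul_div hb, sq_mul_div hd] at g4
  have cancel : ∀ {X Y : ℝ}, δ ^ 2 * X = δ ^ 2 * Y → X = Y := fun e => mul_left_cancel₀ hδ2.ne' e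
  exact ⟨h, δ, K', x1, q, hδ0, pos_of_mul_pos_right hK hδ2.le, rfl, rfl, rfl, hUc, hUd,
    cancel (by linear_combination -g1), cancel (by linear_combination -g2),
    cancel (by linear_combination -g4), cancel (by linear_combination -g6)⟩

/-- The intended configuration. -/
theorem first {a b c d : ℤ} {N Ua Ub Uc Ud K : ℝ} (hK : 0 < K) (ha : a ≠ 0) (hb : b ≠ 0)
    (hc : c ≠ 0) (hd : d ≠ 0) (hcd : c + d ≠ 0) (hP : b + c + d ≠ 0) (hM : 1 + b + d ≠ 0)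
    (hM' : 1 + b + 2 * c + d ≠ 0) (h3 : a + b + c ≠ 0) (h5 : 1 + a + c + d ≠ 0)
    (h7 : a + b + c + 2 * d ≠ 0) (cb : (27 : ℤ) ∣ b - 2) (cc : (27 : ℤ) ∣ c - 3) (cd : (27 : ℤ) ∣ d - 3)
    (f1 : (Uc + Ud) ^ 2 / ((c : ℝ) + d) - Uc ^ 2 / c - Ud ^ 2 / d = -K)
    (f2 : (Ub + Uc + Ud) ^ 2 / ((b : ℝ) + c + d) - Ub ^ 2 / b - Uc ^ 2 / c - Ud ^ 2 / d = -(2 * K))
    (f4 : (N + Ub + Ud) ^ 2 / (1 + (b : ℝ) + d) - Ub ^ 2 / b - Ud ^ 2 / d = N ^ 2 - 5 * K)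
    (f6 : (N + Ub + 2 * Uc + Ud) ^ 2 / (1 + (b : ℝ) + 2 * c + d) - Ub ^ 2 / b - 2 * (Uc ^ 2 / c) -
      Ud ^ 2 / d = N ^ 2 - 5 * K)
    (f3 : (Ua + Ub + Uc) ^ 2 / ((a : ℝ) + b + c) - Ua ^ 2 / a - Ub ^ 2 / b - Uc ^ 2 / c = -K)
    (f5 : (N + Ua + Uc + Ud) ^ 2 / (1 + (a : ℝ) + c + d) - Ua ^ 2 / a - Uc ^ 2 / c - Ud ^ 2 / d =
      N ^ 2 - 5 * K)
    (f7 : (Ua + Ub + Uc + 2 * Ud) ^ 2 / ((a : ℝ) + b + c + 2 * d) - Ua ^ 2 / a - Ub ^ 2 / b -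
      Uc ^ 2 / c - 2 * (Ud ^ 2 / d) = -(3 * K)) :
    c = 3 := by
  have ha' : (a : ℝ) ≠ 0 := Int.cast_ne_zero.2 ha
  have hb' : (b : ℝ) ≠ 0 := Int.cast_ne_zero.2 hb
  have hc' : (c : ℝ) ≠ 0 := Int.cast_ne_zero.2 hc
  have hd' : (d : ℝ) ≠ 0 := Int.cast_ne_zero.2 hd
  have hcd' : (c : ℝ) + d ≠ 0 := by exact_mod_cast hcd
  have hP' : (b : ℝ) + c + d ≠ 0 := by exact_mod_cast hP
  have hMr : 1 + (b : ℝ) + d ≠ 0 := by exact_mod_cast hM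
  have hM'r : 1 + (b : ℝ) + 2 * c + d ≠ 0 := by exact_mod_cast hM'
  have h3' : (a : ℝ) + b + c ≠ 0 := by exact_mod_cast h3
  have h5' : 1 + (a : ℝ) + c + d ≠ 0 := by exact_mod_cast h5
  have h7' : (a : ℝ) + b + c + 2 * d ≠ 0 := by exact_mod_cast h7
  obtain ⟨h, δ, K', x1, q, hδ, hK', rfl, rfl, rfl, rfl, rfl, e1, e2, e4, e6⟩ :=
    normalise hK hb' hc' hd' hcd' hP' hMr hM'r f1 f2 f4 f6
  obtain ⟨xe, rfl⟩ : ∃ xe, Ua = a * (h + δ * xe) := ⟨(Ua / a - h) / δ, by field_simp; ring⟩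
  rw [sq_mul_div ha', sq_mul_div hb', sq_mul_div hc'] at f3
  rw [sq_mul_div ha', sq_mul_div hc', sq_mul_div hd'] at f5
  rw [sq_mul_div ha', sq_mul_div hb', sq_mul_div hc', sq_mul_div hd'] at f7
  rw [sub_sub, sub_sub, sub_eq_iff_eq_add, div_eq_iff h3'] at f3
  rw [sub_sub, sub_sub, sub_eq_iff_eq_add, div_eq_iff h5'] at f5
  rw [sub_sub, sub_sub, sub_sub, sub_eq_iff_eq_add, div_eq_iff h7'] at f7
  have hδ2 : δ ^ 2 ≠ 0 := pow_ne_zero 2 hδ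
  have e3 : ((a : ℝ) + b + c) * (a * xe ^ 2 + b * q ^ 2) - (a * xe + b * q) ^ 2 =
      K' * (a + b + c) := mul_left_cancel₀ hδ2 (by linear_combination -f3)
  have e5 : (1 + (a : ℝ) + c + d) * (x1 ^ 2 + a * xe ^ 2 + d) - (x1 + a * xe + d) ^ 2 =
      5 * K' * (1 + a + c + d) := mul_left_cancel₀ hδ2 (by linear_combination -f5)
  have e7 : ((a : ℝ) + b + c + 2 * d) * (a * xe ^ 2 + b * q ^ 2 + 2 * d) -
      (a * xe + b * q + 2 * d) ^ 2 = 3 * K' * (a + b + c + 2 * d) :=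
    mul_left_cancel₀ hδ2 (by linear_combination -f7)
  have h18 : 1 + (b : ℝ) + c + d < 0 → 1 + (b : ℝ) + c + d ≤ -18 := fun hlt => by
    have h1 : 1 + b + c + d < 0 := by exact_mod_cast hlt
    have h2 : 1 + b + c + d ≤ -18 := by omega
    exact_mod_cast h2
  have h1 : (c : ℝ) + d < 0 → (c : ℝ) + d ≤ -1 := fun hlt => by
    have h1 : c + d < 0 := by exact_mod_cast hlt
    have h2 : c + d ≤ -1 := by omega
    exact_mod_cast h2
  obtain ⟨hc0, hc3⟩ := core hK' ha' hb' hc' hd' hcd' hP' hMr hM'r e1 e2 e4 e6 e3 e5 e7 h18 h1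
  have hc0' : 0 < c := by exact_mod_cast hc0
  have hc3' : c ≤ 3 := by exact_mod_cast hc3
  omega

/-- No solution in integers. -/
theorem no_int (i j k : ℤ) :
    let b := 2 + 27 * i
    let c := 3 + 27 * j
    let d := 3 + 27 * k
    let M := 1 + b + c + d
    let D := 2 * (b + c + d) * M * (c + d)
    (-((c + d) * ((1 + c) * M * (c + d) + 3 * c * (M + c - d))) - d * D) ^ 2 * (b + c + d) ≠
      b * c * d * D ^ 2 := by
  intro b c d M D h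
  set m := 1 + 3 * (i + j + k)
  set n := 2 + 9 * (j + k)
  set c' := 1 + 9 * j
  set d' := 1 + 9 * k
  set P := 8 + 27 * (i + j + k)
  set D' := 2 * P * m * n
  set nu := (1 + 3 * c') * m * n + 3 * c' * (m + 3 * (j - k))
  have e : 6561 * ((n * nu + d' * D') ^ 2 * P) = 6561 * (b * c' * d' * D' ^ 2) := by
    simp only [b, c, d, M, D, m, n, c', d', P, D', nu] at h ⊢
    linear_combination h
  have e' := congrArg (Int.cast : ℤ → ZMod 3) (mul_left_cancel₀ (show (6561 : ℤ) ≠ 0 by norm_num) e)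
  have h27 : (27 : ZMod 3) = 0 := by decide
  have h9 : (9 : ZMod 3) = 0 := by decide
  have h30 : (3 : ZMod 3) = 0 := by decide
  simp only [b, m, n, c', d', P, D', nu] at e'
  push_cast at e'
  simp only [h27, h9, h30, zero_mul, add_zero, mul_one] at e'
  exact absurd e' (by decide)

/-- The other configuration is impossible. -/
theorem second {b c d : ℤ} {N Ub Uc Ud K : ℝ} (hK : 0 < K) (hb : b ≠ 0)
    (hc : c ≠ 0) (hd : d ≠ 0) (hcd : c + d ≠ 0) (hP : b + c + d ≠ 0) (hM : 1 + b + d ≠ 0)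
    (hM' : 1 + b + 2 * c + d ≠ 0) (h9 : 1 + c - d ≠ 0)
    (cb : (27 : ℤ) ∣ b - 2) (cc : (27 : ℤ) ∣ c - 3) (cd : (27 : ℤ) ∣ d - 3)
    (f1 : (Uc + Ud) ^ 2 / ((c : ℝ) + d) - Uc ^ 2 / c - Ud ^ 2 / d = -K)
    (f2 : (Ub + Uc + Ud) ^ 2 / ((b : ℝ) + c + d) - Ub ^ 2 / b - Uc ^ 2 / c - Ud ^ 2 / d = -(2 * K))
    (f4 : (N + Ub + Ud) ^ 2 / (1 + (b : ℝ) + d) - Ub ^ 2 / b - Ud ^ 2 / d = N ^ 2 - 5 * K)
    (f6 : (N + Ub + 2 * Uc + Ud) ^ 2 / (1 + (b : ℝ) + 2 * c + d) - Ub ^ 2 / b - 2 * (Uc ^ 2 / c) -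
      Ud ^ 2 / d = N ^ 2 - 5 * K)
    (f9 : (N + Uc - Ud) ^ 2 / (1 + (c : ℝ) - d) - Uc ^ 2 / c + Ud ^ 2 / d = N ^ 2 - 3 * K) :
    False := by
  have hb' : (b : ℝ) ≠ 0 := Int.cast_ne_zero.2 hb
  have hc' : (c : ℝ) ≠ 0 := Int.cast_ne_zero.2 hc
  have hd' : (d : ℝ) ≠ 0 := Int.cast_ne_zero.2 hd
  have hcd' : (c : ℝ) + d ≠ 0 := by exact_mod_cast hcd
  have hP' : (b : ℝ) + c + d ≠ 0 := by exact_mod_cast hP
  have hMr : 1 + (b : ℝ) + d ≠ 0 := by exact_mod_cast hM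
  have hM'r : 1 + (b : ℝ) + 2 * c + d ≠ 0 := by exact_mod_cast hM'
  have h9' : 1 + (c : ℝ) - d ≠ 0 := by exact_mod_cast h9
  obtain ⟨h, δ, K', x1, q, hδ, hK', rfl, rfl, rfl, rfl, rfl, e1, e2, e4, e6⟩ :=
    normalise hK hb' hc' hd' hcd' hP' hMr hM'r f1 f2 f4 f6
  rw [sq_mul_div hc', sq_mul_div hd'] at f9
  have g9 : (h + δ * x1 + c * h - d * (h + δ)) ^ 2 =
      ((h + δ * x1) ^ 2 - 3 * (δ ^ 2 * K') + c * h ^ 2 - d * (h + δ) ^ 2) * (1 + c - d) :=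
    (div_eq_iff h9').1 (by linarith)
  have e9 : (x1 - d) ^ 2 = (x1 ^ 2 - d - 3 * K') * (1 + c - d) :=
    mul_left_cancel₀ (pow_ne_zero 2 hδ) (by linear_combination g9)
  set u := (b * q + d) / ((b : ℝ) + c + d) with hu
  have huP : b * q + d = u * (b + c + d) := by rw [hu]; field_simp
  have hsum : x1 ^ 2 + b * q ^ 2 + d = 5 * K' := by
    have : (c : ℝ) * (x1 ^ 2 + b * q ^ 2 + d - 5 * K') = 0 := by linear_combination (e6 - e4) / 2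
    exact sub_eq_zero.1 ((mul_eq_zero.1 this).resolve_left hc')
  have hx1 : x1 = -(u * (b + c + d)) := by
    have : (x1 + b * q + d) ^ 2 = 0 := by linear_combination -e4 + (1 + (b : ℝ) + d) * hsum
    linarith [pow_eq_zero_iff (n := 2) two_ne_zero |>.1 this]
  subst hx1
  have hB2 : b * q ^ 2 + d = 2 * K' + (b + c + d) * u ^ 2 := by
    have : ((b : ℝ) + c + d) * (b * q ^ 2 + d - (2 * K' + (b + c + d) * u ^ 2)) = 0 := by
      linear_combination e2 + (b * q + d + u * (b + c + d)) * huP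
    exact sub_eq_zero.1 ((mul_eq_zero.1 this).resolve_left hP')
  have huK : u ^ 2 * (b + c + d) * (b + c + d + 1) = 3 * K' := by linear_combination hsum - hB2
  set P : ℝ := (b : ℝ) + c + d with hPdef
  have hq : (b : ℝ) * q = u * P - d := by linarith
  have hr2 : ((c + d) * u - d) ^ 2 * P = b * c * d := by
    linear_combination (-(b * q + (P * u - d)) * ((c : ℝ) + d)) * hq + ((b : ℝ) * (c + d)) * hB2 -
      (2 * (b : ℝ)) * e1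
  set M : ℝ := P + 1 with hMdef
  set D : ℝ := 2 * P * M * (c + d) with hD
  have hDu : D * u = -((1 + c) * M * (c + d) + 3 * c * (M + c - d)) := by
    have : (d : ℝ) * (D * u + ((1 + c) * M * (c + d) + 3 * c * (M + c - d))) = 0 := by
      rw [hD, hMdef]
      linear_combination (M * (c + d)) * e9 + ((c + d) * P * ((c : ℝ) - d)) * huK +
        (3 * (M + c - d)) * e1
    have h := (mul_eq_zero.1 this).resolve_left hd'
    linarith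
  have key : (-((c + d) * ((1 + c) * M * (c + d) + 3 * c * (M + c - d))) - d * D) ^ 2 * P =
      b * c * d * D ^ 2 := by
    have h1 : -((c + d) * ((1 + c) * M * (c + d) + 3 * c * (M + c - d))) - d * D =
        D * ((c + d) * u - d) := by linear_combination -((c : ℝ) + d) * hDu
    rw [h1]
    linear_combination D ^ 2 * hr2
  obtain ⟨i, hi⟩ := cb
  obtain ⟨j, hj⟩ := cc
  obtain ⟨k, hk⟩ := cd
  obtain rfl : b = 2 + 27 * i := by omega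
  obtain rfl : c = 3 + 27 * j := by omega
  obtain rfl : d = 3 + 27 * k := by omega
  refine no_int i j k ?_
  have hP2 : P = ((2 + 27 * i + (3 + 27 * j) + (3 + 27 * k) : ℤ) : ℝ) := by rw [hPdef]; push_cast; ring
  rw [hD, hMdef, hP2] at key
  rw [show (1 : ℤ) + (2 + 27 * i) + (3 + 27 * j) + (3 + 27 * k) =
    (2 + 27 * i + (3 + 27 * j) + (3 + 27 * k)) + 1 by ring]
  exact_mod_cast key

end Cfsg.Agent.Solv.Special.Alg648
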