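import Cfsg.Agent.Lib.Solv.Special.Main648

/-!
The three-dimensional character.
-/

set_option autoImplicit false
set_option maxRecDepth 100000
set_option linter.unusedSectionVars false

namespace Cfsg.Agent.Solv.Special.W648

open Cfsg Cfsg.Agent.Char Cfsg.Agent.Solv.Special
open scoped ComplexConjugate

universe u

theorem config0 {L W : Fin 13 → ℤ} {N : ℤ} {K : ℝ} (hK : 0 < K) (hne : ∀ j, L j ≠ 0)
    (cb : (27 : ℤ) ∣ L 8 - 52) (cc : (27 : ℤ) ∣ L 11 - 78) (cd : (27 : ℤ) ∣ L 12 - 78)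
    (l0 : L 10 + L 11 + L 12 = 0)
    (w0 : W 10 + W 11 + W 12 = 0)
    (q0 : ((W 10 : ℝ) ^ 2 / (L 10 : ℝ)) + ((W 11 : ℝ) ^ 2 / (L 11 : ℝ)) + ((W 12 : ℝ) ^ 2 / (L 12 : ℝ)) = 0 - 1 * K)
    (l3 : L 6 + L 8 + L 11 + L 12 = 0)
    (w3 : W 6 + W 8 + W 11 + W 12 = 0)
    (q3 : ((W 6 : ℝ) ^ 2 / (L 6 : ℝ)) + ((W 8 : ℝ) ^ 2 / (L 8 : ℝ)) + ((W 11 : ℝ) ^ 2 / (L 11 : ℝ)) + ((W 12 : ℝ) ^ 2 / (L 12 : ℝ)) = 0 - 2 * K)
    (l2 : L 7 + L 8 + L 12 = 1)
    (w2 : W 7 + W 8 + W 12 = N)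
    (q2 : ((W 7 : ℝ) ^ 2 / (L 7 : ℝ)) + ((W 8 : ℝ) ^ 2 / (L 8 : ℝ)) + ((W 12 : ℝ) ^ 2 / (L 12 : ℝ)) = (N : ℝ) ^ 2 - 5 * K)
    (l7 : L 1 + L 8 + 2 * L 11 + L 12 = 1)
    (w7 : W 1 + W 8 + 2 * W 11 + W 12 = N)
    (q7 : ((W 1 : ℝ) ^ 2 / (L 1 : ℝ)) + ((W 8 : ℝ) ^ 2 / (L 8 : ℝ)) + 2 * ((W 11 : ℝ) ^ 2 / (L 11 : ℝ)) + ((W 12 : ℝ) ^ 2 / (L 12 : ℝ)) = (N : ℝ) ^ 2 - 5 * K)
    (l8 : L 0 + L 4 + L 8 + L 11 = 0)
    (w8 : W 0 + W 4 + W 8 + W 11 = 0)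
    (q8 : ((W 0 : ℝ) ^ 2 / (L 0 : ℝ)) + ((W 4 : ℝ) ^ 2 / (L 4 : ℝ)) + ((W 8 : ℝ) ^ 2 / (L 8 : ℝ)) + ((W 11 : ℝ) ^ 2 / (L 11 : ℝ)) = 0 - 1 * K)
    (l5 : L 3 + L 4 + L 11 + L 12 = 1)
    (w5 : W 3 + W 4 + W 11 + W 12 = N)
    (q5 : ((W 3 : ℝ) ^ 2 / (L 3 : ℝ)) + ((W 4 : ℝ) ^ 2 / (L 4 : ℝ)) + ((W 11 : ℝ) ^ 2 / (L 11 : ℝ)) + ((W 12 : ℝ) ^ 2 / (L 12 : ℝ)) = (N : ℝ) ^ 2 - 5 * K)
    (l6 : L 2 + L 4 + L 8 + L 11 + 2 * L 12 = 0)
    (w6 : W 2 + W 4 + W 8 + W 11 + 2 * W 12 = 0)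
    (q6 : ((W 2 : ℝ) ^ 2 / (L 2 : ℝ)) + ((W 4 : ℝ) ^ 2 / (L 4 : ℝ)) + ((W 8 : ℝ) ^ 2 / (L 8 : ℝ)) + ((W 11 : ℝ) ^ 2 / (L 11 : ℝ)) + 2 * ((W 12 : ℝ) ^ 2 / (L 12 : ℝ)) = 0 - 3 * K) :
    L 11 = -3 := by
  obtain ⟨a, ha⟩ : ∃ a, a = -L 4 := ⟨_, rfl⟩
  obtain ⟨b, hb⟩ : ∃ b, b = -L 8 := ⟨_, rfl⟩
  obtain ⟨c, hc⟩ : ∃ c, c = -L 11 := ⟨_, rfl⟩
  obtain ⟨d, hd⟩ : ∃ d, d = -L 12 := ⟨_, rfl⟩
  have hLa : L 4 = -a := by omega
  have hLb : L 8 = -b := by omega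
  have hLc : L 11 = -c := by omega
  have hLd : L 12 = -d := by omega
  obtain ⟨Ua, hUa⟩ : ∃ U : ℤ, W 4 = -U := ⟨-W 4, by ring⟩
  obtain ⟨Ub, hUb⟩ : ∃ U : ℤ, W 8 = -U := ⟨-W 8, by ring⟩
  obtain ⟨Uc, hUc⟩ : ∃ U : ℤ, W 11 = -U := ⟨-W 11, by ring⟩
  obtain ⟨Ud, hUd⟩ : ∃ U : ℤ, W 12 = -U := ⟨-W 12, by ring⟩
  have hL0 : L 10 = c + d := by omega
  have hW0 : W 10 = Uc + Ud := by omega
  have n0 : c + d ≠ 0 := hL0 ▸ hne 10
  rw [hL0, hW0, hLc, hUc, hLd, hUd] at q0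
  push_cast at q0
  simp only [neg_sq, div_neg] at q0
  have hL3 : L 6 = b + c + d := by omega
  have hW3 : W 6 = Ub + Uc + Ud := by omega
  have n3 : b + c + d ≠ 0 := hL3 ▸ hne 6
  rw [hL3, hW3, hLb, hUb, hLc, hUc, hLd, hUd] at q3
  push_cast at q3
  simp only [neg_sq, div_neg] at q3
  have hL2 : L 7 = 1 + b + d := by omega
  have hW2 : W 7 = N + Ub + Ud := by omega
  have n2 : 1 + b + d ≠ 0 := hL2 ▸ hne 7
  rw [hL2, hW2, hLb, hUb, hLd, hUd] at q2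
  push_cast at q2
  simp only [neg_sq, div_neg] at q2
  have hL7 : L 1 = 1 + b + 2 * c + d := by omega
  have hW7 : W 1 = N + Ub + 2 * Uc + Ud := by omega
  have n7 : 1 + b + 2 * c + d ≠ 0 := hL7 ▸ hne 1
  rw [hL7, hW7, hLb, hUb, hLc, hUc, hLd, hUd] at q7
  push_cast at q7
  simp only [neg_sq, div_neg] at q7
  have hL8 : L 0 = a + b + c := by omega
  have hW8 : W 0 = Ua + Ub + Uc := by omega
  have n8 : a + b + c ≠ 0 := hL8 ▸ hne 0
  rw [hL8, hW8, hLa, hUa, hLb, hUb, hLc, hUc] at q8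
  push_cast at q8
  simp only [neg_sq, div_neg] at q8
  have hL5 : L 3 = 1 + a + c + d := by omega
  have hW5 : W 3 = N + Ua + Uc + Ud := by omega
  have n5 : 1 + a + c + d ≠ 0 := hL5 ▸ hne 3
  rw [hL5, hW5, hLa, hUa, hLc, hUc, hLd, hUd] at q5
  push_cast at q5
  simp only [neg_sq, div_neg] at q5
  have hL6 : L 2 = a + b + c + 2 * d := by omega
  have hW6 : W 2 = Ua + Ub + Uc + 2 * Ud := by omega
  have n6 : a + b + c + 2 * d ≠ 0 := hL6 ▸ hne 2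
  rw [hL6, hW6, hLa, hUa, hLb, hUb, hLc, hUc, hLd, hUd] at q6
  push_cast at q6
  simp only [neg_sq, div_neg] at q6
  have := Alg648.first hK (a := a) (b := b) (c := c) (d := d) (N := N) (Ua := Ua) (Ub := Ub) (Uc := Uc)
    (Ud := Ud) (fun z => hne 4 (by omega)) (fun z => hne 8 (by omega)) (fun z => hne 11 (by omega))
    (fun z => hne 12 (by omega)) n0 n3 n2 n7 n8 n5 n6 (by omega) (by omega) (by omega)
    (by linarith) (by linarith) (by linarith) (by linarith) (by linarith) (by linarith) (by linarith)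
  omega

theorem config1 {L W : Fin 12 → ℤ} {N : ℤ} {K : ℝ} (hK : 0 < K) (hne : ∀ j, L j ≠ 0)
    (cb : (27 : ℤ) ∣ L 7 - 52) (cc : (27 : ℤ) ∣ L 10 - 78) (cd : (27 : ℤ) ∣ L 11 - 78)
    (l0 : L 9 + L 10 + L 11 = 0)
    (w0 : W 9 + W 10 + W 11 = 0)
    (q0 : ((W 9 : ℝ) ^ 2 / (L 9 : ℝ)) + ((W 10 : ℝ) ^ 2 / (L 10 : ℝ)) + ((W 11 : ℝ) ^ 2 / (L 11 : ℝ)) = 0 - 1 * K)
    (l3 : L 5 + L 7 + L 10 + L 11 = 0)
    (w3 : W 5 + W 7 + W 10 + W 11 = 0)
    (q3 : ((W 5 : ℝ) ^ 2 / (L 5 : ℝ)) + ((W 7 : ℝ) ^ 2 / (L 7 : ℝ)) + ((W 10 : ℝ) ^ 2 / (L 10 : ℝ)) + ((W 11 : ℝ) ^ 2 / (L 11 : ℝ)) = 0 - 2 * K)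
    (l2 : L 6 + L 7 + L 11 = 1)
    (w2 : W 6 + W 7 + W 11 = N)
    (q2 : ((W 6 : ℝ) ^ 2 / (L 6 : ℝ)) + ((W 7 : ℝ) ^ 2 / (L 7 : ℝ)) + ((W 11 : ℝ) ^ 2 / (L 11 : ℝ)) = (N : ℝ) ^ 2 - 5 * K)
    (l7 : L 0 + L 7 + 2 * L 10 + L 11 = 1)
    (w7 : W 0 + W 7 + 2 * W 10 + W 11 = N)
    (q7 : ((W 0 : ℝ) ^ 2 / (L 0 : ℝ)) + ((W 7 : ℝ) ^ 2 / (L 7 : ℝ)) + 2 * ((W 10 : ℝ) ^ 2 / (L 10 : ℝ)) + ((W 11 : ℝ) ^ 2 / (L 11 : ℝ)) = (N : ℝ) ^ 2 - 5 * K)
    (l8 : L 1 + L 2 + L 7 + L 10 = 0)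
    (w8 : W 1 + W 2 + W 7 + W 10 = 0)
    (q8 : ((W 1 : ℝ) ^ 2 / (L 1 : ℝ)) + ((W 2 : ℝ) ^ 2 / (L 2 : ℝ)) + ((W 7 : ℝ) ^ 2 / (L 7 : ℝ)) + ((W 10 : ℝ) ^ 2 / (L 10 : ℝ)) = 0 - 1 * K)
    (l5 : L 2 + L 3 + L 10 + L 11 = 1)
    (w5 : W 2 + W 3 + W 10 + W 11 = N)
    (q5 : ((W 2 : ℝ) ^ 2 / (L 2 : ℝ)) + ((W 3 : ℝ) ^ 2 / (L 3 : ℝ)) + ((W 10 : ℝ) ^ 2 / (L 10 : ℝ)) + ((W 11 : ℝ) ^ 2 / (L 11 : ℝ)) = (N : ℝ) ^ 2 - 5 * K)
    (l6 : L 1 + L 3 + L 7 + L 10 + 2 * L 11 = 0)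
    (w6 : W 1 + W 3 + W 7 + W 10 + 2 * W 11 = 0)
    (q6 : ((W 1 : ℝ) ^ 2 / (L 1 : ℝ)) + ((W 3 : ℝ) ^ 2 / (L 3 : ℝ)) + ((W 7 : ℝ) ^ 2 / (L 7 : ℝ)) + ((W 10 : ℝ) ^ 2 / (L 10 : ℝ)) + 2 * ((W 11 : ℝ) ^ 2 / (L 11 : ℝ)) = 0 - 3 * K) :
    False := by
  obtain ⟨b, hb⟩ : ∃ b, b = -L 7 := ⟨_, rfl⟩
  obtain ⟨c, hc⟩ : ∃ c, c = -L 10 := ⟨_, rfl⟩
  obtain ⟨d, hd⟩ : ∃ d, d = -L 11 := ⟨_, rfl⟩
  have hLb : L 7 = -b := by omega
  have hLc : L 10 = -c := by omega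
  have hLd : L 11 = -d := by omega
  obtain ⟨Ub, hUb⟩ : ∃ U : ℤ, W 7 = -U := ⟨-W 7, by ring⟩
  obtain ⟨Uc, hUc⟩ : ∃ U : ℤ, W 10 = -U := ⟨-W 10, by ring⟩
  obtain ⟨Ud, hUd⟩ : ∃ U : ℤ, W 11 = -U := ⟨-W 11, by ring⟩
  have hL0 : L 9 = c + d := by omega
  have hW0 : W 9 = Uc + Ud := by omega
  have n0 : c + d ≠ 0 := hL0 ▸ hne 9
  rw [hL0, hW0, hLc, hUc, hLd, hUd] at q0
  push_cast at q0
  simp only [neg_sq, div_neg] at q0
  have hL3 : L 5 = b + c + d := by omega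
  have hW3 : W 5 = Ub + Uc + Ud := by omega
  have n3 : b + c + d ≠ 0 := hL3 ▸ hne 5
  rw [hL3, hW3, hLb, hUb, hLc, hUc, hLd, hUd] at q3
  push_cast at q3
  simp only [neg_sq, div_neg] at q3
  have hL2 : L 6 = 1 + b + d := by omega
  have hW2 : W 6 = N + Ub + Ud := by omega
  have n2 : 1 + b + d ≠ 0 := hL2 ▸ hne 6
  rw [hL2, hW2, hLb, hUb, hLd, hUd] at q2
  push_cast at q2
  simp only [neg_sq, div_neg] at q2
  have hL7 : L 0 = 1 + b + 2 * c + d := by omega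
  have hW7 : W 0 = N + Ub + 2 * Uc + Ud := by omega
  have n7 : 1 + b + 2 * c + d ≠ 0 := hL7 ▸ hne 0
  rw [hL7, hW7, hLb, hUb, hLc, hUc, hLd, hUd] at q7
  push_cast at q7
  simp only [neg_sq, div_neg] at q7
  have hZ : 2 * L 2 = 1 + c - d := by omega
  have hWZ : 2 * W 2 = N + Uc - Ud := by omega
  have n9 : 1 + c - d ≠ 0 := fun z => hne 2 (by omega)
  rw [hLb, hUb, hLc, hUc] at q8
  rw [hLc, hUc, hLd, hUd] at q5
  rw [hLb, hUb, hLc, hUc, hLd, hUd] at q6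
  push_cast at q8 q5 q6
  simp only [neg_sq, div_neg] at q8 q5 q6
  have h9 : ((N : ℝ) + Uc - Ud) ^ 2 / (1 + (c : ℝ) - d) = 2 * ((W 2 : ℝ) ^ 2 / (L 2 : ℝ)) := by
    rw [show (N : ℝ) + Uc - Ud = 2 * (W 2 : ℝ) by exact_mod_cast hWZ.symm,
      show 1 + (c : ℝ) - d = 2 * (L 2 : ℝ) by exact_mod_cast hZ.symm]
    have := (Int.cast_ne_zero (α := ℝ)).2 (hne 2)
    field_simp
  exact Alg648.second hK (b := b) (c := c) (d := d) (N := N) (Ub := Ub) (Uc := Uc) (Ud := Ud)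
    (fun z => hne 7 (by omega)) (fun z => hne 10 (by omega)) (fun z => hne 11 (by omega))
    n0 n3 n2 n7 n9 (by omega) (by omega) (by omega)
    (by linarith) (by linarith) (by linarith) (by linarith) (by linarith)

variable {G : Type u} [Group G] [Finite G] [Fintype G] [DecidableEq G] {H J : Subgroup G} [Fintype H] [Fintype J]
  {e : H ≃* M648} (h : Emb H J e)

include h

theorem Emb.exists_char : ∃ χ : IrrCharacter G, (χ : G → ℂ) 1 = 3 ∧ (∀ j ∈ J, (χ : G → ℂ) j = 3) ∧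
    ∃ x : H, overV (e x) ∧ (χ : G → ℂ) (x : G) ≠ 3 := by
  classical
  choose z hzc hzs hzi hze h1 h2 h3 using fun r => h.exists_vec r
  set e1 : IrrCharacter G := ⟨fun _ => 1, isIrrCharacter_one⟩ with he1
  set κ : Fin 9 → ℤ := fun r => Tbl.kap.getD r 0 with hκ
  have hz1 : ∀ r, z r e1 = -κ r := fun r => by
    have h' := hzi r e1
    rw [show (fun x : H => (e1 : G → ℂ) (x : G)) = fun x : H => toR (one2 (e x)) by
        funext x; simp [he1, one2, toR_apply], show fH e r = fun x : H => toR (fn r (e x)) from rfl,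
      inner_eq e (fn r) one2, dot_one r, toR_apply] at h'
    have : ((z r e1 : ℤ) : ℂ) = ((-κ r : ℤ) : ℂ) := by
      rw [← h']; simp [hκ, Tbl.kap]; ring
    exact_mod_cast this
  set zs : Fin 9 → IrrCharacter G → ℤ := fun r i => if i = e1 then 0 else z r i with hzs'
  have hdecomp : ∀ r i, zs r i = z r i + if i = e1 then κ r else 0 := fun r i => by
    simp only [hzs']
    split_ifs with hi
    · rw [hi, hz1]; ring
    · ring
  have hsum : ∀ r (F : IrrCharacter G → ℂ),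
      ∑ i, (zs r i : ℂ) * F i = ∑ i, (z r i : ℂ) * F i + (κ r : ℂ) * F e1 := fun r F => by
    simp only [hdecomp, Int.cast_add, add_mul, Finset.sum_add_distrib]
    simp
  have hgram : ∀ r s : Fin 9, s ≤ r →
      ∑ i, zs s i * zs r i = (gram.getD s []).getD r 0 - κ s * κ r := by
    intro r s hsr
    have h' := coords_inner (hze s) (hze r) h.ctl (hzs s) (hzs r) (hzc r)
    rw [show fH e s = fun x : H => toR (fn s (e x)) from rfl,
      show fH e r = fun x : H => toR (fn r (e x)) from rfl, inner_eq e (fn s) (fn r), dot_fn r s hsr,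
      toR_apply] at h'
    have h'' : ∑ i, z s i * z r i = (gram.getD s []).getD r 0 := by
      have : ((∑ i, z s i * z r i : ℤ) : ℂ) = (((gram.getD s []).getD r 0 : ℤ) : ℂ) := by
        rw [h']; simp
      exact_mod_cast this
    have e' : ∀ i, zs s i * zs r i = z s i * z r i +
        if i = e1 then (z s i * κ r + κ s * z r i + κ s * κ r) else 0 := fun i => by
      rw [hdecomp, hdecomp]
      split_ifs <;> ring
    simp only [e', Finset.sum_add_distrib, Finset.sum_ite_eq', Finset.mem_univ, if_true, h'', hz1]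
    ring
  set zz : ℕ → IrrCharacter G → ℤ := fun n => if hn : n < 9 then zs ⟨n, hn⟩ else 0 with hzz
  have hzz' : ∀ r : Fin 9, zz r = zs r := fun r => by simp [hzz, r.2]
  have hinv : ∀ χ : IrrCharacter G, ∃ S : ℤ, invSum (χ : G → ℂ) = S := by
    intro χ
    choose s hs using fun g : {g // g ∈ invs G} =>
      char_involution_int (irr_isCharacter χ.2) (t := (g : G)) (by rw [pow_two]; exact mem_invs.1 g.2)
    exact ⟨∑ g ∈ (invs G).attach, s g, by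
      rw [invSum, ← Finset.sum_attach, Int.cast_sum]; exact Finset.sum_congr rfl fun g _ => hs g⟩
  choose S hS using hinv
  set D : IrrCharacter G → ℤ := fun χ => (deg (χ : G → ℂ) : ℤ) with hD
  have hDeq : ∀ χ : IrrCharacter G, (χ : G → ℂ) 1 = (D χ : ℂ) := fun χ => by
    rw [char_one_eq_deg (irr_isCharacter χ.2), hD, Int.cast_natCast]
  have hDne : ∀ χ, D χ ≠ 0 := fun χ => (Int.natCast_pos.2 (deg_pos χ.2)).ne'
  set N : ℤ := ((invs G).card : ℤ) with hN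
  have hDe : D e1 = 1 := by
    have := hDeq e1
    simp only [he1] at this
    exact_mod_cast this.symm
  have hSe : S e1 = N := by
    have h' := hS e1
    rw [show (e1 : G → ℂ) = fun _ => (1 : ℂ) from rfl, invSum_one] at h'
    exact_mod_cast h'.symm
  have rd : ∀ r, ∑ i, (zs r i : ℂ) * (D i : ℂ) = (κ r : ℂ) := fun r => by
    rw [hsum, hDe]; simp only [← hDeq]; rw [h1]; simp
  have rS : ∀ r, ∑ i, (zs r i : ℂ) * (S i : ℂ) = (κ r : ℂ) * (N : ℂ) := fun r => by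
    rw [hsum, hSe]; simp only [← hS]; rw [h2]; simp
  have rQ : ∀ r, ∑ i, (zs r i : ℂ) * ((S i : ℂ) ^ 2 / (D i : ℂ)) =
      (κ r : ℂ) * (N : ℂ) ^ 2 - (mult.getD r 0 : ℂ) * (1944 * (H.index : ℂ)) := fun r => by
    rw [hsum, hSe, hDe]; simp only [← hS, ← hDeq]; rw [h3]; push_cast; ring
  have hd0 : ∀ i, (D i : ℂ) ≠ 0 := fun i => Int.cast_ne_zero.2 (hDne i)
  have hk : ∀ r < 9, ∑ i, (zz r i : ℂ) * (D i : ℂ) = (Tbl.kap.getD r 0 : ℂ) := fun r hr => by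
    rw [show zz r = zs ⟨r, hr⟩ from hzz' ⟨r, hr⟩, rd]
  have hg : ∀ r s : ℕ, ∀ hr : r < 9, ∀ hs : s ≤ r, ∑ i, zz s i * zz r i =
      (gram.getD s []).getD r 0 - Tbl.kap.getD s 0 * Tbl.kap.getD r 0 := fun r s hr hs => by
    rw [show zz r = zs ⟨r, hr⟩ from hzz' ⟨r, hr⟩,
      show zz s = zs ⟨s, hs.trans_lt hr⟩ from hzz' ⟨s, hs.trans_lt hr⟩, hgram _ _ hs]
  have g1 : ∃ c ∈ Tbl.st1, Gram.Real 1 zz c := Gram.step Tbl.chk0
    (Gram.real_zero zz)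
    ((hg 0 0 (by norm_num) le_rfl).trans (by decide)) (fun r hr => by
      rw [hg 0 r (by norm_num) hr.le]
      exact (show ∀ r < 0, (gram.getD r []).getD 0 0 - Tbl.kap.getD r 0 * Tbl.kap.getD 0 0 =
        Tbl.need0.getD r 0 by decide) r hr)
    hd0 (fun r hr => hk r (by omega))
  have g2 : ∃ c ∈ Tbl.st2, Gram.Real 2 zz c := Gram.step Tbl.chk1
    g1
    ((hg 1 1 (by norm_num) le_rfl).trans (by decide)) (fun r hr => by
      rw [hg 1 r (by norm_num) hr.le]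
      exact (show ∀ r < 1, (gram.getD r []).getD 1 0 - Tbl.kap.getD r 0 * Tbl.kap.getD 1 0 =
        Tbl.need1.getD r 0 by decide) r hr)
    hd0 (fun r hr => hk r (by omega))
  have g3 : ∃ c ∈ Tbl.st3, Gram.Real 3 zz c := Gram.step Tbl.chk2
    g2
    ((hg 2 2 (by norm_num) le_rfl).trans (by decide)) (fun r hr => by
      rw [hg 2 r (by norm_num) hr.le]
      exact (show ∀ r < 2, (gram.getD r []).getD 2 0 - Tbl.kap.getD r 0 * Tbl.kap.getD 2 0 =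
        Tbl.need2.getD r 0 by decide) r hr)
    hd0 (fun r hr => hk r (by omega))
  have g4 : ∃ c ∈ Tbl.st4, Gram.Real 4 zz c := Gram.step Tbl.chk3
    g3
    ((hg 3 3 (by norm_num) le_rfl).trans (by decide)) (fun r hr => by
      rw [hg 3 r (by norm_num) hr.le]
      exact (show ∀ r < 3, (gram.getD r []).getD 3 0 - Tbl.kap.getD r 0 * Tbl.kap.getD 3 0 =
        Tbl.need3.getD r 0 by decide) r hr)
    hd0 (fun r hr => hk r (by omega))
  have g5 : ∃ c ∈ Tbl.st5, Gram.Real 5 zz c := Gram.step Tbl.chk4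
    g4
    ((hg 4 4 (by norm_num) le_rfl).trans (by decide)) (fun r hr => by
      rw [hg 4 r (by norm_num) hr.le]
      exact (show ∀ r < 4, (gram.getD r []).getD 4 0 - Tbl.kap.getD r 0 * Tbl.kap.getD 4 0 =
        Tbl.need4.getD r 0 by decide) r hr)
    hd0 (fun r hr => hk r (by omega))
  have g6 : ∃ c ∈ Tbl.st6, Gram.Real 6 zz c := Gram.step Tbl.chk5
    g5
    ((hg 5 5 (by norm_num) le_rfl).trans (by decide)) (fun r hr => by
      rw [hg 5 r (by norm_num) hr.le]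
      exact (show ∀ r < 5, (gram.getD r []).getD 5 0 - Tbl.kap.getD r 0 * Tbl.kap.getD 5 0 =
        Tbl.need5.getD r 0 by decide) r hr)
    hd0 (fun r hr => hk r (by omega))
  have g7 : ∃ c ∈ Tbl.st7, Gram.Real 7 zz c := Gram.step Tbl.chk6
    g6
    ((hg 6 6 (by norm_num) le_rfl).trans (by decide)) (fun r hr => by
      rw [hg 6 r (by norm_num) hr.le]
      exact (show ∀ r < 6, (gram.getD r []).getD 6 0 - Tbl.kap.getD r 0 * Tbl.kap.getD 6 0 =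
        Tbl.need6.getD r 0 by decide) r hr)
    hd0 (fun r hr => hk r (by omega))
  have g8 : ∃ c ∈ Tbl.st8, Gram.Real 8 zz c := Gram.step Tbl.chk7
    g7
    ((hg 7 7 (by norm_num) le_rfl).trans (by decide)) (fun r hr => by
      rw [hg 7 r (by norm_num) hr.le]
      exact (show ∀ r < 7, (gram.getD r []).getD 7 0 - Tbl.kap.getD r 0 * Tbl.kap.getD 7 0 =
        Tbl.need7.getD r 0 by decide) r hr)
    hd0 (fun r hr => hk r (by omega))
  have g9 : ∃ c ∈ Tbl.st9, Gram.Real 9 zz c := Gram.step Tbl.chk8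
    g8
    ((hg 8 8 (by norm_num) le_rfl).trans (by decide)) (fun r hr => by
      rw [hg 8 r (by norm_num) hr.le]
      exact (show ∀ r < 8, (gram.getD r []).getD 8 0 - Tbl.kap.getD r 0 * Tbl.kap.getD 8 0 =
        Tbl.need8.getD r 0 by decide) r hr)
    hd0 (fun r hr => hk r (by omega))
  obtain ⟨c, hc, P, hnd, hs, hcols, h0⟩ := g9
  have hne1 : ∀ p ∈ P, ∀ r : Fin 9, (Gram.colOf zz 9 p).getD r 0 ≠ 0 → p.1 ≠ e1 := by
    intro p _ r hr z1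
    apply hr
    rw [Gram.colOf_getD zz r.2, hzz', z1]
    simp [hzs']
  have hsd : ∀ p ∈ P, ∀ F : IrrCharacter G → ℂ, ∀ r : Fin 9,
      ((Gram.colOf zz 9 p).getD r 0 : ℂ) * ((p.2 : ℂ) * F p.1) = (zs r p.1 : ℂ) * F p.1 := by
    intro p hp F r
    rw [Gram.colOf_getD zz r.2, hzz']
    have : (p.2 : ℂ) * (p.2 : ℂ) = 1 := by exact_mod_cast hs p hp
    push_cast
    linear_combination ((zs r p.1 : ℂ) * F p.1) * this
  have rowK : ∀ (r : Fin 9) (F : IrrCharacter G → ℂ), ∑ i, (zs r i : ℂ) * F i =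
      (List.zipWith (fun (c : List ℤ) (y : ℂ) => (c.getD r 0 : ℂ) * y) c
        (P.map fun p => (p.2 : ℂ) * F p.1)).sum := fun r F => by
    rw [← hzz' r]
    exact Gram.row_sum hnd hs hcols r.2 (h0 r r.2) F
  have hsq : ∀ p ∈ P, (p.2 : ℂ) * ((S p.1 : ℂ) ^ 2 / (D p.1 : ℂ)) =
      ((p.2 * S p.1 : ℤ) : ℂ) ^ 2 / ((p.2 * D p.1 : ℤ) : ℂ) := by
    intro p hp
    rcases mul_self_eq_one_iff.1 (hs p hp) with h' | h' <;> rw [h'] <;> push_cast <;>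
      simp [div_neg, neg_div]
  have hIpos : (0 : ℝ) < 1944 * (H.index : ℝ) := by
    have : 0 < H.index := Nat.pos_of_ne_zero Subgroup.index_ne_zero_of_finite
    positivity
  have hdeg : ∀ χ : IrrCharacter G, χ ≠ e1 → ∃ k : ℕ, (∑ j : J, (χ : G → ℂ) j) = 27 * (k : ℂ) ∧
      D χ = ∑ r : Fin 9, deg9.getD r 0 * zs r χ + 27 * k := by
    intro χ hχ
    obtain ⟨k, hk1, hk2⟩ := h.sum_deg χ (fun r => z r χ) (fun r => hzi r χ)
    refine ⟨k, hk1, hk2.trans ?_⟩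
    congr 1
    exact Finset.sum_congr rfl fun r _ => by simp only [hzs', if_neg hχ]
  have hcong : ∀ p ∈ P, (∃ r : Fin 9, (Gram.colOf zz 9 p).getD r 0 ≠ 0) →
      (27 : ℤ) ∣ p.2 * D p.1 - ∑ r : Fin 9, deg9.getD r 0 * (Gram.colOf zz 9 p).getD r 0 := by
    rintro p hp ⟨r, hr⟩
    obtain ⟨k, -, hk2⟩ := hdeg p.1 (hne1 p hp r hr)
    refine ⟨p.2 * k, ?_⟩
    rw [hk2, mul_add, Finset.mul_sum]
    have : ∀ r : Fin 9, deg9.getD r 0 * (Gram.colOf zz 9 p).getD r 0 =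
        p.2 * (deg9.getD r 0 * zs r p.1) := fun r => by rw [Gram.colOf_getD zz r.2, hzz']; ring
    rw [Finset.sum_congr rfl fun r _ => this r]
    ring
  fin_cases hc
  · obtain ⟨p0, p1, p2, p3, p4, p5, p6, p7, p8, p9, p10, p11, p12, rfl⟩ : ∃ p0 p1 p2 p3 p4 p5 p6 p7 p8 p9 p10 p11 p12, P = [p0, p1, p2, p3, p4, p5, p6, p7, p8, p9, p10, p11, p12] := by
      have hlen := congrArg List.length hcols
      simp only [List.length_map, List.length_cons, List.length_nil] at hlen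
      match P, hlen with
      | [p0, p1, p2, p3, p4, p5, p6, p7, p8, p9, p10, p11, p12], _ => exact ⟨p0, p1, p2, p3, p4, p5, p6, p7, p8, p9, p10, p11, p12, rfl⟩
    simp only [List.map_cons, List.map_nil, List.cons.injEq, and_true] at hcols
    obtain ⟨c0, c1, c2, c3, c4, c5, c6, c7, c8, c9, c10, c11, c12⟩ := hcols
    have l0 : (p10.2 * D p10.1) + (p11.2 * D p11.1) + (p12.2 * D p12.1) = 0 := by
      have e' := (rowK 0 fun i => (D i : ℂ)).symm.trans (rd 0)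
      simp [hκ, Tbl.kap] at e'
      exact_mod_cast (by push_cast; linear_combination e' : (((p10.2 * D p10.1) + (p11.2 * D p11.1) + (p12.2 * D p12.1) : ℤ) : ℂ) = ((0 : ℤ) : ℂ))
    have w0 : (p10.2 * S p10.1) + (p11.2 * S p11.1) + (p12.2 * S p12.1) = 0 := by
      have e' := (rowK 0 fun i => (S i : ℂ)).symm.trans (rS 0)
      simp [hκ, Tbl.kap] at e'
      exact_mod_cast (by push_cast; linear_combination e' :
        (((p10.2 * S p10.1) + (p11.2 * S p11.1) + (p12.2 * S p12.1) : ℤ) : ℂ) = ((0 : ℤ) : ℂ))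
    have q0 : (((p10.2 * S p10.1 : ℤ) : ℝ) ^ 2 / ((p10.2 * D p10.1 : ℤ) : ℝ)) + (((p11.2 * S p11.1 : ℤ) : ℝ) ^ 2 / ((p11.2 * D p11.1 : ℤ) : ℝ)) + (((p12.2 * S p12.1 : ℤ) : ℝ) ^ 2 / ((p12.2 * D p12.1 : ℤ) : ℝ)) =
        0 - 1 * (1944 * (H.index : ℝ)) := by
      have e' := (rowK 0 fun i => (S i : ℂ) ^ 2 / (D i : ℂ)).symm.trans (rQ 0)
      simp only [List.map_cons, List.map_nil] at e'
      rw [hsq p0 (by simp), hsq p1 (by simp), hsq p2 (by simp), hsq p3 (by simp), hsq p4 (by simp), hsq p5 (by simp), hsq p6 (by simp), hsq p7 (by simp), hsq p8 (by simp), hsq p9 (by simp), hsq p10 (by simp), hsq p11 (by simp), hsq p12 (by simp)] at e'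
      simp [hκ, Tbl.kap, mult] at e'
      apply Complex.ofReal_injective
      push_cast
      linear_combination e' 
    have l3 : (p6.2 * D p6.1) + (p8.2 * D p8.1) + (p11.2 * D p11.1) + (p12.2 * D p12.1) = 0 := by
      have e' := (rowK 3 fun i => (D i : ℂ)).symm.trans (rd 3)
      simp [hκ, Tbl.kap] at e'
      exact_mod_cast (by push_cast; linear_combination e' : (((p6.2 * D p6.1) + (p8.2 * D p8.1) + (p11.2 * D p11.1) + (p12.2 * D p12.1) : ℤ) : ℂ) = ((0 : ℤ) : ℂ))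
    have w3 : (p6.2 * S p6.1) + (p8.2 * S p8.1) + (p11.2 * S p11.1) + (p12.2 * S p12.1) = 0 := by
      have e' := (rowK 3 fun i => (S i : ℂ)).symm.trans (rS 3)
      simp [hκ, Tbl.kap] at e'
      exact_mod_cast (by push_cast; linear_combination e' :
        (((p6.2 * S p6.1) + (p8.2 * S p8.1) + (p11.2 * S p11.1) + (p12.2 * S p12.1) : ℤ) : ℂ) = ((0 : ℤ) : ℂ))
    have q3 : (((p6.2 * S p6.1 : ℤ) : ℝ) ^ 2 / ((p6.2 * D p6.1 : ℤ) : ℝ)) + (((p8.2 * S p8.1 : ℤ) : ℝ) ^ 2 / ((p8.2 * D p8.1 : ℤ) : ℝ)) + (((p11.2 * S p11.1 : ℤ) : ℝ) ^ 2 / ((p11.2 * D p11.1 : ℤ) : ℝ)) + (((p12.2 * S p12.1 : ℤ) : ℝ) ^ 2 / ((p12.2 * D p12.1 : ℤ) : ℝ)) =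
        0 - 2 * (1944 * (H.index : ℝ)) := by
      have e' := (rowK 3 fun i => (S i : ℂ) ^ 2 / (D i : ℂ)).symm.trans (rQ 3)
      simp only [List.map_cons, List.map_nil] at e'
      rw [hsq p0 (by simp), hsq p1 (by simp), hsq p2 (by simp), hsq p3 (by simp), hsq p4 (by simp), hsq p5 (by simp), hsq p6 (by simp), hsq p7 (by simp), hsq p8 (by simp), hsq p9 (by simp), hsq p10 (by simp), hsq p11 (by simp), hsq p12 (by simp)] at e'
      simp [hκ, Tbl.kap, mult] at e'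
      apply Complex.ofReal_injective
      push_cast
      linear_combination e' 
    have l2 : (p7.2 * D p7.1) + (p8.2 * D p8.1) + (p12.2 * D p12.1) = 1 := by
      have e' := (rowK 2 fun i => (D i : ℂ)).symm.trans (rd 2)
      simp [hκ, Tbl.kap] at e'
      exact_mod_cast (by push_cast; linear_combination e' : (((p7.2 * D p7.1) + (p8.2 * D p8.1) + (p12.2 * D p12.1) : ℤ) : ℂ) = ((1 : ℤ) : ℂ))
    have w2 : (p7.2 * S p7.1) + (p8.2 * S p8.1) + (p12.2 * S p12.1) = N := by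
      have e' := (rowK 2 fun i => (S i : ℂ)).symm.trans (rS 2)
      simp [hκ, Tbl.kap] at e'
      exact_mod_cast (by push_cast; linear_combination e' :
        (((p7.2 * S p7.1) + (p8.2 * S p8.1) + (p12.2 * S p12.1) : ℤ) : ℂ) = ((N : ℤ) : ℂ))
    have q2 : (((p7.2 * S p7.1 : ℤ) : ℝ) ^ 2 / ((p7.2 * D p7.1 : ℤ) : ℝ)) + (((p8.2 * S p8.1 : ℤ) : ℝ) ^ 2 / ((p8.2 * D p8.1 : ℤ) : ℝ)) + (((p12.2 * S p12.1 : ℤ) : ℝ) ^ 2 / ((p12.2 * D p12.1 : ℤ) : ℝ)) =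
        (N : ℝ) ^ 2 - 5 * (1944 * (H.index : ℝ)) := by
      have e' := (rowK 2 fun i => (S i : ℂ) ^ 2 / (D i : ℂ)).symm.trans (rQ 2)
      simp only [List.map_cons, List.map_nil] at e'
      rw [hsq p0 (by simp), hsq p1 (by simp), hsq p2 (by simp), hsq p3 (by simp), hsq p4 (by simp), hsq p5 (by simp), hsq p6 (by simp), hsq p7 (by simp), hsq p8 (by simp), hsq p9 (by simp), hsq p10 (by simp), hsq p11 (by simp), hsq p12 (by simp)] at e'
      simp [hκ, Tbl.kap, mult] at e'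
      apply Complex.ofReal_injective
      push_cast
      linear_combination e' 
    have l7 : (p1.2 * D p1.1) + (p8.2 * D p8.1) + 2 * (p11.2 * D p11.1) + (p12.2 * D p12.1) = 1 := by
      have e' := (rowK 7 fun i => (D i : ℂ)).symm.trans (rd 7)
      simp [hκ, Tbl.kap] at e'
      exact_mod_cast (by push_cast; linear_combination e' : (((p1.2 * D p1.1) + (p8.2 * D p8.1) + 2 * (p11.2 * D p11.1) + (p12.2 * D p12.1) : ℤ) : ℂ) = ((1 : ℤ) : ℂ))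
    have w7 : (p1.2 * S p1.1) + (p8.2 * S p8.1) + 2 * (p11.2 * S p11.1) + (p12.2 * S p12.1) = N := by
      have e' := (rowK 7 fun i => (S i : ℂ)).symm.trans (rS 7)
      simp [hκ, Tbl.kap] at e'
      exact_mod_cast (by push_cast; linear_combination e' :
        (((p1.2 * S p1.1) + (p8.2 * S p8.1) + 2 * (p11.2 * S p11.1) + (p12.2 * S p12.1) : ℤ) : ℂ) = ((N : ℤ) : ℂ))
    have q7 : (((p1.2 * S p1.1 : ℤ) : ℝ) ^ 2 / ((p1.2 * D p1.1 : ℤ) : ℝ)) + (((p8.2 * S p8.1 : ℤ) : ℝ) ^ 2 / ((p8.2 * D p8.1 : ℤ) : ℝ)) + 2 * (((p11.2 * S p11.1 : ℤ) : ℝ) ^ 2 / ((p11.2 * D p11.1 : ℤ) : ℝ)) + (((p12.2 * S p12.1 : ℤ) : ℝ) ^ 2 / ((p12.2 * D p12.1 : ℤ) : ℝ)) =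
        (N : ℝ) ^ 2 - 5 * (1944 * (H.index : ℝ)) := by
      have e' := (rowK 7 fun i => (S i : ℂ) ^ 2 / (D i : ℂ)).symm.trans (rQ 7)
      simp only [List.map_cons, List.map_nil] at e'
      rw [hsq p0 (by simp), hsq p1 (by simp), hsq p2 (by simp), hsq p3 (by simp), hsq p4 (by simp), hsq p5 (by simp), hsq p6 (by simp), hsq p7 (by simp), hsq p8 (by simp), hsq p9 (by simp), hsq p10 (by simp), hsq p11 (by simp), hsq p12 (by simp)] at e'
      simp [hκ, Tbl.kap, mult] at e'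
      apply Complex.ofReal_injective
      push_cast
      linear_combination e' 
    have l8 : (p0.2 * D p0.1) + (p4.2 * D p4.1) + (p8.2 * D p8.1) + (p11.2 * D p11.1) = 0 := by
      have e' := (rowK 8 fun i => (D i : ℂ)).symm.trans (rd 8)
      simp [hκ, Tbl.kap] at e'
      exact_mod_cast (by push_cast; linear_combination e' : (((p0.2 * D p0.1) + (p4.2 * D p4.1) + (p8.2 * D p8.1) + (p11.2 * D p11.1) : ℤ) : ℂ) = ((0 : ℤ) : ℂ))
    have w8 : (p0.2 * S p0.1) + (p4.2 * S p4.1) + (p8.2 * S p8.1) + (p11.2 * S p11.1) = 0 := by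
      have e' := (rowK 8 fun i => (S i : ℂ)).symm.trans (rS 8)
      simp [hκ, Tbl.kap] at e'
      exact_mod_cast (by push_cast; linear_combination e' :
        (((p0.2 * S p0.1) + (p4.2 * S p4.1) + (p8.2 * S p8.1) + (p11.2 * S p11.1) : ℤ) : ℂ) = ((0 : ℤ) : ℂ))
    have q8 : (((p0.2 * S p0.1 : ℤ) : ℝ) ^ 2 / ((p0.2 * D p0.1 : ℤ) : ℝ)) + (((p4.2 * S p4.1 : ℤ) : ℝ) ^ 2 / ((p4.2 * D p4.1 : ℤ) : ℝ)) + (((p8.2 * S p8.1 : ℤ) : ℝ) ^ 2 / ((p8.2 * D p8.1 : ℤ) : ℝ)) + (((p11.2 * S p11.1 : ℤ) : ℝ) ^ 2 / ((p11.2 * D p11.1 : ℤ) : ℝ)) =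
        0 - 1 * (1944 * (H.index : ℝ)) := by
      have e' := (rowK 8 fun i => (S i : ℂ) ^ 2 / (D i : ℂ)).symm.trans (rQ 8)
      simp only [List.map_cons, List.map_nil] at e'
      rw [hsq p0 (by simp), hsq p1 (by simp), hsq p2 (by simp), hsq p3 (by simp), hsq p4 (by simp), hsq p5 (by simp), hsq p6 (by simp), hsq p7 (by simp), hsq p8 (by simp), hsq p9 (by simp), hsq p10 (by simp), hsq p11 (by simp), hsq p12 (by simp)] at e'
      simp [hκ, Tbl.kap, mult] at e'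
      apply Complex.ofReal_injective
      push_cast
      linear_combination e' 
    have l5 : (p3.2 * D p3.1) + (p4.2 * D p4.1) + (p11.2 * D p11.1) + (p12.2 * D p12.1) = 1 := by
      have e' := (rowK 5 fun i => (D i : ℂ)).symm.trans (rd 5)
      simp [hκ, Tbl.kap] at e'
      exact_mod_cast (by push_cast; linear_combination e' : (((p3.2 * D p3.1) + (p4.2 * D p4.1) + (p11.2 * D p11.1) + (p12.2 * D p12.1) : ℤ) : ℂ) = ((1 : ℤ) : ℂ))
    have w5 : (p3.2 * S p3.1) + (p4.2 * S p4.1) + (p11.2 * S p11.1) + (p12.2 * S p12.1) = N := by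
      have e' := (rowK 5 fun i => (S i : ℂ)).symm.trans (rS 5)
      simp [hκ, Tbl.kap] at e'
      exact_mod_cast (by push_cast; linear_combination e' :
        (((p3.2 * S p3.1) + (p4.2 * S p4.1) + (p11.2 * S p11.1) + (p12.2 * S p12.1) : ℤ) : ℂ) = ((N : ℤ) : ℂ))
    have q5 : (((p3.2 * S p3.1 : ℤ) : ℝ) ^ 2 / ((p3.2 * D p3.1 : ℤ) : ℝ)) + (((p4.2 * S p4.1 : ℤ) : ℝ) ^ 2 / ((p4.2 * D p4.1 : ℤ) : ℝ)) + (((p11.2 * S p11.1 : ℤ) : ℝ) ^ 2 / ((p11.2 * D p11.1 : ℤ) : ℝ)) + (((p12.2 * S p12.1 : ℤ) : ℝ) ^ 2 / ((p12.2 * D p12.1 : ℤ) : ℝ)) =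
        (N : ℝ) ^ 2 - 5 * (1944 * (H.index : ℝ)) := by
      have e' := (rowK 5 fun i => (S i : ℂ) ^ 2 / (D i : ℂ)).symm.trans (rQ 5)
      simp only [List.map_cons, List.map_nil] at e'
      rw [hsq p0 (by simp), hsq p1 (by simp), hsq p2 (by simp), hsq p3 (by simp), hsq p4 (by simp), hsq p5 (by simp), hsq p6 (by simp), hsq p7 (by simp), hsq p8 (by simp), hsq p9 (by simp), hsq p10 (by simp), hsq p11 (by simp), hsq p12 (by simp)] at e'
      simp [hκ, Tbl.kap, mult] at e'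
      apply Complex.ofReal_injective
      push_cast
      linear_combination e' 
    have l6 : (p2.2 * D p2.1) + (p4.2 * D p4.1) + (p8.2 * D p8.1) + (p11.2 * D p11.1) + 2 * (p12.2 * D p12.1) = 0 := by
      have e' := (rowK 6 fun i => (D i : ℂ)).symm.trans (rd 6)
      simp [hκ, Tbl.kap] at e'
      exact_mod_cast (by push_cast; linear_combination e' : (((p2.2 * D p2.1) + (p4.2 * D p4.1) + (p8.2 * D p8.1) + (p11.2 * D p11.1) + 2 * (p12.2 * D p12.1) : ℤ) : ℂ) = ((0 : ℤ) : ℂ))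
    have w6 : (p2.2 * S p2.1) + (p4.2 * S p4.1) + (p8.2 * S p8.1) + (p11.2 * S p11.1) + 2 * (p12.2 * S p12.1) = 0 := by
      have e' := (rowK 6 fun i => (S i : ℂ)).symm.trans (rS 6)
      simp [hκ, Tbl.kap] at e'
      exact_mod_cast (by push_cast; linear_combination e' :
        (((p2.2 * S p2.1) + (p4.2 * S p4.1) + (p8.2 * S p8.1) + (p11.2 * S p11.1) + 2 * (p12.2 * S p12.1) : ℤ) : ℂ) = ((0 : ℤ) : ℂ))
    have q6 : (((p2.2 * S p2.1 : ℤ) : ℝ) ^ 2 / ((p2.2 * D p2.1 : ℤ) : ℝ)) + (((p4.2 * S p4.1 : ℤ) : ℝ) ^ 2 / ((p4.2 * D p4.1 : ℤ) : ℝ)) + (((p8.2 * S p8.1 : ℤ) : ℝ) ^ 2 / ((p8.2 * D p8.1 : ℤ) : ℝ)) + (((p11.2 * S p11.1 : ℤ) : ℝ) ^ 2 / ((p11.2 * D p11.1 : ℤ) : ℝ)) + 2 * (((p12.2 * S p12.1 : ℤ) : ℝ) ^ 2 / ((p12.2 * D p12.1 : ℤ) : ℝ)) =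
        0 - 3 * (1944 * (H.index : ℝ)) := by
      have e' := (rowK 6 fun i => (S i : ℂ) ^ 2 / (D i : ℂ)).symm.trans (rQ 6)
      simp only [List.map_cons, List.map_nil] at e'
      rw [hsq p0 (by simp), hsq p1 (by simp), hsq p2 (by simp), hsq p3 (by simp), hsq p4 (by simp), hsq p5 (by simp), hsq p6 (by simp), hsq p7 (by simp), hsq p8 (by simp), hsq p9 (by simp), hsq p10 (by simp), hsq p11 (by simp), hsq p12 (by simp)] at e'
      simp [hκ, Tbl.kap, mult] at e'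
      apply Complex.ofReal_injective
      push_cast
      linear_combination e' 
    have d8 : (27 : ℤ) ∣ p8.2 * D p8.1 - 52 := by
      have := hcong p8 (by simp) ⟨2, by rw [← c8]; decide⟩
      rw [← c8] at this
      exact this
    have d11 : (27 : ℤ) ∣ p11.2 * D p11.1 - 78 := by
      have := hcong p11 (by simp) ⟨0, by rw [← c11]; decide⟩
      rw [← c11] at this
      exact this
    have d12 : (27 : ℤ) ∣ p12.2 * D p12.1 - 78 := by
      have := hcong p12 (by simp) ⟨0, by rw [← c12]; decide⟩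
      rw [← c12] at this
      exact this
    have hs0 : ∀ p : IrrCharacter G × ℤ, p ∈ [p0, p1, p2, p3, p4, p5, p6, p7, p8, p9, p10, p11, p12] → p.2 * D p.1 ≠ 0 := fun p hp =>
      mul_ne_zero (fun z' => by have := hs p hp; rw [z'] at this; norm_num at this) (hDne _)
    have hL : ∀ j : Fin 13, (![p0.2 * D p0.1, p1.2 * D p1.1, p2.2 * D p2.1, p3.2 * D p3.1, p4.2 * D p4.1, p5.2 * D p5.1, p6.2 * D p6.1, p7.2 * D p7.1, p8.2 * D p8.1, p9.2 * D p9.1, p10.2 * D p10.1, p11.2 * D p11.1, p12.2 * D p12.1] : Fin 13 → ℤ) j ≠ 0 := by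
      intro j
      fin_cases j <;> exact hs0 _ (by simp)
    have h3' : p11.2 * D p11.1 = -3 :=
      config0 (L := ![p0.2 * D p0.1, p1.2 * D p1.1, p2.2 * D p2.1, p3.2 * D p3.1, p4.2 * D p4.1, p5.2 * D p5.1, p6.2 * D p6.1, p7.2 * D p7.1, p8.2 * D p8.1, p9.2 * D p9.1, p10.2 * D p10.1, p11.2 * D p11.1, p12.2 * D p12.1]) (W := ![p0.2 * S p0.1, p1.2 * S p1.1, p2.2 * S p2.1, p3.2 * S p3.1, p4.2 * S p4.1, p5.2 * S p5.1, p6.2 * S p6.1, p7.2 * S p7.1, p8.2 * S p8.1, p9.2 * S p9.1, p10.2 * S p10.1, p11.2 * S p11.1, p12.2 * S p12.1]) hIpos hL d8 d11 d12 l0 w0 q0 l3 w3 q3 l2 w2 q2 l7 w7 q7 l8 w8 q8 l5 w5 q5 l6 w6 q6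
    have hpos : 0 < D p11.1 := Int.natCast_pos.2 (deg_pos p11.1.2)
    have hsgn : p11.2 = -1 ∧ D p11.1 = 3 := by
      rcases mul_self_eq_one_iff.1 (hs p11 (by simp)) with h' | h' <;> rw [h'] at h3' ⊢ <;> omega
    have hχ : p11.1 ≠ e1 := hne1 p11 (by simp) 0 (by rw [← c11]; decide)
    have hval : ∀ r : Fin 9, zs r p11.1 = -([1, 1, 0, 1, 1, 1, 1, 2, 1] : List ℤ).getD r 0 := fun r => by
      rw [c11, Gram.colOf_getD zz r.2, hzz', hsgn.1]; ring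
    obtain ⟨k, hk1, hk2⟩ := hdeg p11.1 hχ
    rw [hsgn.2] at hk2
    simp only [hval] at hk2
    simp [Fin.sum_univ_succ, deg9] at hk2
    have hk3 : k = 3 := by omega
    subst hk3
    refine ⟨p11.1, by rw [hDeq, hsgn.2]; norm_num, ?_, ?_⟩
    · have hle : ∀ j : J, ((p11.1 : G → ℂ) j).re ≤ 3 := fun j => by
        refine (Complex.re_le_norm _).trans ((norm_char_le (irr_isCharacter p11.1.2) _).trans ?_)
        have : (deg (p11.1 : G → ℂ) : ℤ) = 3 := hsgn.2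
        have h4 : deg (p11.1 : G → ℂ) = 3 := by exact_mod_cast this
        rw [h4]; norm_num
      intro j hj
      have hJc : Fintype.card J = 27 := by
        rw [← card_rot, ← Fintype.card_subtype]
        exact Fintype.card_congr
          { toFun := fun j => ⟨e ⟨j.1, h.le j.2⟩, (h.mem _).1 j.2⟩
            invFun := fun m => ⟨((e.symm m.1 : H) : G), (h.mem _).2 (by simpa using m.2)⟩
            left_inv := fun j => Subtype.ext (by simp)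
            right_inv := fun m => Subtype.ext (by simp) }
      have h0' : ∑ j : J, ((3 : ℝ) - ((p11.1 : G → ℂ) j).re) = 0 := by
        rw [Finset.sum_sub_distrib, ← Complex.re_sum]
        erw [hk1]
        simp [hJc]
      have hre := (Finset.sum_eq_zero_iff_of_nonneg (fun j _ => sub_nonneg.2 (hle j))).1 h0' ⟨j, hj⟩
        (Finset.mem_univ _)
      have hn := norm_char_le (irr_isCharacter p11.1.2) j
      have h4 : deg (p11.1 : G → ℂ) = 3 := by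
        have : (deg (p11.1 : G → ℂ) : ℤ) = 3 := hsgn.2
        exact_mod_cast this
      rw [h4] at hn
      have hre' : ((p11.1 : G → ℂ) j).re = 3 := by linarith
      have hsq := Complex.sq_norm ((p11.1 : G → ℂ) j)
      rw [Complex.normSq_apply, hre'] at hsq
      push_cast at hn
      refine Complex.ext (by simpa using hre') ?_
      have : ((p11.1 : G → ℂ) j).im * ((p11.1 : G → ℂ) j).im ≤ 0 := by
        nlinarith [norm_nonneg ((p11.1 : G → ℂ) j)]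
      simpa using mul_self_eq_zero.1 (le_antisymm this (mul_self_nonneg _))
    · by_contra hall
      push Not at hall
      have hz : ((zs 0 p11.1 + zs 1 p11.1 - zs 2 p11.1 - zs 8 p11.1 : ℤ) : ℂ) =
          classInner (fun x : H => if overV (e x) then (12 : ℂ) else 0) (fun x : H => (p11.1 : G → ℂ) x) := by
        simp only [hzs', if_neg hχ]
        push_cast
        rw [← hzi, ← hzi, ← hzi, ← hzi]
        simp only [classInner, fH, ← mul_add, ← mul_sub, ← Finset.sum_add_distrib, ← Finset.sum_sub_distrib]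
        congr 1
        refine Finset.sum_congr rfl fun x _ => ?_
        have hV := congrArg toR (sum_V (e x))
        simp only [map_add, map_sub] at hV
        rw [← add_mul, ← sub_mul, ← sub_mul, hV]
        split_ifs <;> simp [toR_apply]
      rw [classInner, card_H e] at hz
      rw [Finset.sum_congr rfl (g := fun x : H => if overV (e x) then (36 : ℂ) else 0) (fun x _ => by
        split_ifs with hx
        · rw [hall x hx, Complex.conj_ofNat]; norm_num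
        · rw [zero_mul]), ← Finset.sum_filter, Finset.sum_const] at hz
      have hcard : (Finset.univ.filter fun x : H => overV (e x)).card = 54 := by
        rw [← card_V]
        exact Finset.card_nbij' (fun x => e x) (fun m => e.symm m) (fun x hx => by simpa using hx)
          (fun m hm => by simpa using hm) (fun x _ => e.symm_apply_apply x) (fun m _ => e.apply_symm_apply m)
      rw [hcard] at hz
      simp only [hval] at hz
      norm_num at hz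
  · obtain ⟨p0, p1, p2, p3, p4, p5, p6, p7, p8, p9, p10, p11, rfl⟩ : ∃ p0 p1 p2 p3 p4 p5 p6 p7 p8 p9 p10 p11, P = [p0, p1, p2, p3, p4, p5, p6, p7, p8, p9, p10, p11] := by
      have hlen := congrArg List.length hcols
      simp only [List.length_map, List.length_cons, List.length_nil] at hlen
      match P, hlen with
      | [p0, p1, p2, p3, p4, p5, p6, p7, p8, p9, p10, p11], _ => exact ⟨p0, p1, p2, p3, p4, p5, p6, p7, p8, p9, p10, p11, rfl⟩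
    simp only [List.map_cons, List.map_nil, List.cons.injEq, and_true] at hcols
    obtain ⟨c0, c1, c2, c3, c4, c5, c6, c7, c8, c9, c10, c11⟩ := hcols
    have l0 : (p9.2 * D p9.1) + (p10.2 * D p10.1) + (p11.2 * D p11.1) = 0 := by
      have e' := (rowK 0 fun i => (D i : ℂ)).symm.trans (rd 0)
      simp [hκ, Tbl.kap] at e'
      exact_mod_cast (by push_cast; linear_combination e' : (((p9.2 * D p9.1) + (p10.2 * D p10.1) + (p11.2 * D p11.1) : ℤ) : ℂ) = ((0 : ℤ) : ℂ))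
    have w0 : (p9.2 * S p9.1) + (p10.2 * S p10.1) + (p11.2 * S p11.1) = 0 := by
      have e' := (rowK 0 fun i => (S i : ℂ)).symm.trans (rS 0)
      simp [hκ, Tbl.kap] at e'
      exact_mod_cast (by push_cast; linear_combination e' :
        (((p9.2 * S p9.1) + (p10.2 * S p10.1) + (p11.2 * S p11.1) : ℤ) : ℂ) = ((0 : ℤ) : ℂ))
    have q0 : (((p9.2 * S p9.1 : ℤ) : ℝ) ^ 2 / ((p9.2 * D p9.1 : ℤ) : ℝ)) + (((p10.2 * S p10.1 : ℤ) : ℝ) ^ 2 / ((p10.2 * D p10.1 : ℤ) : ℝ)) + (((p11.2 * S p11.1 : ℤ) : ℝ) ^ 2 / ((p11.2 * D p11.1 : ℤ) : ℝ)) =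
        0 - 1 * (1944 * (H.index : ℝ)) := by
      have e' := (rowK 0 fun i => (S i : ℂ) ^ 2 / (D i : ℂ)).symm.trans (rQ 0)
      simp only [List.map_cons, List.map_nil] at e'
      rw [hsq p0 (by simp), hsq p1 (by simp), hsq p2 (by simp), hsq p3 (by simp), hsq p4 (by simp), hsq p5 (by simp), hsq p6 (by simp), hsq p7 (by simp), hsq p8 (by simp), hsq p9 (by simp), hsq p10 (by simp), hsq p11 (by simp)] at e'
      simp [hκ, Tbl.kap, mult] at e'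
      apply Complex.ofReal_injective
      push_cast
      linear_combination e' 
    have l3 : (p5.2 * D p5.1) + (p7.2 * D p7.1) + (p10.2 * D p10.1) + (p11.2 * D p11.1) = 0 := by
      have e' := (rowK 3 fun i => (D i : ℂ)).symm.trans (rd 3)
      simp [hκ, Tbl.kap] at e'
      exact_mod_cast (by push_cast; linear_combination e' : (((p5.2 * D p5.1) + (p7.2 * D p7.1) + (p10.2 * D p10.1) + (p11.2 * D p11.1) : ℤ) : ℂ) = ((0 : ℤ) : ℂ))
    have w3 : (p5.2 * S p5.1) + (p7.2 * S p7.1) + (p10.2 * S p10.1) + (p11.2 * S p11.1) = 0 := by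
      have e' := (rowK 3 fun i => (S i : ℂ)).symm.trans (rS 3)
      simp [hκ, Tbl.kap] at e'
      exact_mod_cast (by push_cast; linear_combination e' :
        (((p5.2 * S p5.1) + (p7.2 * S p7.1) + (p10.2 * S p10.1) + (p11.2 * S p11.1) : ℤ) : ℂ) = ((0 : ℤ) : ℂ))
    have q3 : (((p5.2 * S p5.1 : ℤ) : ℝ) ^ 2 / ((p5.2 * D p5.1 : ℤ) : ℝ)) + (((p7.2 * S p7.1 : ℤ) : ℝ) ^ 2 / ((p7.2 * D p7.1 : ℤ) : ℝ)) + (((p10.2 * S p10.1 : ℤ) : ℝ) ^ 2 / ((p10.2 * D p10.1 : ℤ) : ℝ)) + (((p11.2 * S p11.1 : ℤ) : ℝ) ^ 2 / ((p11.2 * D p11.1 : ℤ) : ℝ)) =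
        0 - 2 * (1944 * (H.index : ℝ)) := by
      have e' := (rowK 3 fun i => (S i : ℂ) ^ 2 / (D i : ℂ)).symm.trans (rQ 3)
      simp only [List.map_cons, List.map_nil] at e'
      rw [hsq p0 (by simp), hsq p1 (by simp), hsq p2 (by simp), hsq p3 (by simp), hsq p4 (by simp), hsq p5 (by simp), hsq p6 (by simp), hsq p7 (by simp), hsq p8 (by simp), hsq p9 (by simp), hsq p10 (by simp), hsq p11 (by simp)] at e'
      simp [hκ, Tbl.kap, mult] at e'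
      apply Complex.ofReal_injective
      push_cast
      linear_combination e' 
    have l2 : (p6.2 * D p6.1) + (p7.2 * D p7.1) + (p11.2 * D p11.1) = 1 := by
      have e' := (rowK 2 fun i => (D i : ℂ)).symm.trans (rd 2)
      simp [hκ, Tbl.kap] at e'
      exact_mod_cast (by push_cast; linear_combination e' : (((p6.2 * D p6.1) + (p7.2 * D p7.1) + (p11.2 * D p11.1) : ℤ) : ℂ) = ((1 : ℤ) : ℂ))
    have w2 : (p6.2 * S p6.1) + (p7.2 * S p7.1) + (p11.2 * S p11.1) = N := by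
      have e' := (rowK 2 fun i => (S i : ℂ)).symm.trans (rS 2)
      simp [hκ, Tbl.kap] at e'
      exact_mod_cast (by push_cast; linear_combination e' :
        (((p6.2 * S p6.1) + (p7.2 * S p7.1) + (p11.2 * S p11.1) : ℤ) : ℂ) = ((N : ℤ) : ℂ))
    have q2 : (((p6.2 * S p6.1 : ℤ) : ℝ) ^ 2 / ((p6.2 * D p6.1 : ℤ) : ℝ)) + (((p7.2 * S p7.1 : ℤ) : ℝ) ^ 2 / ((p7.2 * D p7.1 : ℤ) : ℝ)) + (((p11.2 * S p11.1 : ℤ) : ℝ) ^ 2 / ((p11.2 * D p11.1 : ℤ) : ℝ)) =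
        (N : ℝ) ^ 2 - 5 * (1944 * (H.index : ℝ)) := by
      have e' := (rowK 2 fun i => (S i : ℂ) ^ 2 / (D i : ℂ)).symm.trans (rQ 2)
      simp only [List.map_cons, List.map_nil] at e'
      rw [hsq p0 (by simp), hsq p1 (by simp), hsq p2 (by simp), hsq p3 (by simp), hsq p4 (by simp), hsq p5 (by simp), hsq p6 (by simp), hsq p7 (by simp), hsq p8 (by simp), hsq p9 (by simp), hsq p10 (by simp), hsq p11 (by simp)] at e'
      simp [hκ, Tbl.kap, mult] at e'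
      apply Complex.ofReal_injective
      push_cast
      linear_combination e' 
    have l7 : (p0.2 * D p0.1) + (p7.2 * D p7.1) + 2 * (p10.2 * D p10.1) + (p11.2 * D p11.1) = 1 := by
      have e' := (rowK 7 fun i => (D i : ℂ)).symm.trans (rd 7)
      simp [hκ, Tbl.kap] at e'
      exact_mod_cast (by push_cast; linear_combination e' : (((p0.2 * D p0.1) + (p7.2 * D p7.1) + 2 * (p10.2 * D p10.1) + (p11.2 * D p11.1) : ℤ) : ℂ) = ((1 : ℤ) : ℂ))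
    have w7 : (p0.2 * S p0.1) + (p7.2 * S p7.1) + 2 * (p10.2 * S p10.1) + (p11.2 * S p11.1) = N := by
      have e' := (rowK 7 fun i => (S i : ℂ)).symm.trans (rS 7)
      simp [hκ, Tbl.kap] at e'
      exact_mod_cast (by push_cast; linear_combination e' :
        (((p0.2 * S p0.1) + (p7.2 * S p7.1) + 2 * (p10.2 * S p10.1) + (p11.2 * S p11.1) : ℤ) : ℂ) = ((N : ℤ) : ℂ))
    have q7 : (((p0.2 * S p0.1 : ℤ) : ℝ) ^ 2 / ((p0.2 * D p0.1 : ℤ) : ℝ)) + (((p7.2 * S p7.1 : ℤ) : ℝ) ^ 2 / ((p7.2 * D p7.1 : ℤ) : ℝ)) + 2 * (((p10.2 * S p10.1 : ℤ) : ℝ) ^ 2 / ((p10.2 * D p10.1 : ℤ) : ℝ)) + (((p11.2 * S p11.1 : ℤ) : ℝ) ^ 2 / ((p11.2 * D p11.1 : ℤ) : ℝ)) =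
        (N : ℝ) ^ 2 - 5 * (1944 * (H.index : ℝ)) := by
      have e' := (rowK 7 fun i => (S i : ℂ) ^ 2 / (D i : ℂ)).symm.trans (rQ 7)
      simp only [List.map_cons, List.map_nil] at e'
      rw [hsq p0 (by simp), hsq p1 (by simp), hsq p2 (by simp), hsq p3 (by simp), hsq p4 (by simp), hsq p5 (by simp), hsq p6 (by simp), hsq p7 (by simp), hsq p8 (by simp), hsq p9 (by simp), hsq p10 (by simp), hsq p11 (by simp)] at e'
      simp [hκ, Tbl.kap, mult] at e'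
      apply Complex.ofReal_injective
      push_cast
      linear_combination e' 
    have l8 : (p1.2 * D p1.1) + (p2.2 * D p2.1) + (p7.2 * D p7.1) + (p10.2 * D p10.1) = 0 := by
      have e' := (rowK 8 fun i => (D i : ℂ)).symm.trans (rd 8)
      simp [hκ, Tbl.kap] at e'
      exact_mod_cast (by push_cast; linear_combination e' : (((p1.2 * D p1.1) + (p2.2 * D p2.1) + (p7.2 * D p7.1) + (p10.2 * D p10.1) : ℤ) : ℂ) = ((0 : ℤ) : ℂ))
    have w8 : (p1.2 * S p1.1) + (p2.2 * S p2.1) + (p7.2 * S p7.1) + (p10.2 * S p10.1) = 0 := by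
      have e' := (rowK 8 fun i => (S i : ℂ)).symm.trans (rS 8)
      simp [hκ, Tbl.kap] at e'
      exact_mod_cast (by push_cast; linear_combination e' :
        (((p1.2 * S p1.1) + (p2.2 * S p2.1) + (p7.2 * S p7.1) + (p10.2 * S p10.1) : ℤ) : ℂ) = ((0 : ℤ) : ℂ))
    have q8 : (((p1.2 * S p1.1 : ℤ) : ℝ) ^ 2 / ((p1.2 * D p1.1 : ℤ) : ℝ)) + (((p2.2 * S p2.1 : ℤ) : ℝ) ^ 2 / ((p2.2 * D p2.1 : ℤ) : ℝ)) + (((p7.2 * S p7.1 : ℤ) : ℝ) ^ 2 / ((p7.2 * D p7.1 : ℤ) : ℝ)) + (((p10.2 * S p10.1 : ℤ) : ℝ) ^ 2 / ((p10.2 * D p10.1 : ℤ) : ℝ)) =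
        0 - 1 * (1944 * (H.index : ℝ)) := by
      have e' := (rowK 8 fun i => (S i : ℂ) ^ 2 / (D i : ℂ)).symm.trans (rQ 8)
      simp only [List.map_cons, List.map_nil] at e'
      rw [hsq p0 (by simp), hsq p1 (by simp), hsq p2 (by simp), hsq p3 (by simp), hsq p4 (by simp), hsq p5 (by simp), hsq p6 (by simp), hsq p7 (by simp), hsq p8 (by simp), hsq p9 (by simp), hsq p10 (by simp), hsq p11 (by simp)] at e'
      simp [hκ, Tbl.kap, mult] at e'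
      apply Complex.ofReal_injective
      push_cast
      linear_combination e' 
    have l5 : (p2.2 * D p2.1) + (p3.2 * D p3.1) + (p10.2 * D p10.1) + (p11.2 * D p11.1) = 1 := by
      have e' := (rowK 5 fun i => (D i : ℂ)).symm.trans (rd 5)
      simp [hκ, Tbl.kap] at e'
      exact_mod_cast (by push_cast; linear_combination e' : (((p2.2 * D p2.1) + (p3.2 * D p3.1) + (p10.2 * D p10.1) + (p11.2 * D p11.1) : ℤ) : ℂ) = ((1 : ℤ) : ℂ))
    have w5 : (p2.2 * S p2.1) + (p3.2 * S p3.1) + (p10.2 * S p10.1) + (p11.2 * S p11.1) = N := by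
      have e' := (rowK 5 fun i => (S i : ℂ)).symm.trans (rS 5)
      simp [hκ, Tbl.kap] at e'
      exact_mod_cast (by push_cast; linear_combination e' :
        (((p2.2 * S p2.1) + (p3.2 * S p3.1) + (p10.2 * S p10.1) + (p11.2 * S p11.1) : ℤ) : ℂ) = ((N : ℤ) : ℂ))
    have q5 : (((p2.2 * S p2.1 : ℤ) : ℝ) ^ 2 / ((p2.2 * D p2.1 : ℤ) : ℝ)) + (((p3.2 * S p3.1 : ℤ) : ℝ) ^ 2 / ((p3.2 * D p3.1 : ℤ) : ℝ)) + (((p10.2 * S p10.1 : ℤ) : ℝ) ^ 2 / ((p10.2 * D p10.1 : ℤ) : ℝ)) + (((p11.2 * S p11.1 : ℤ) : ℝ) ^ 2 / ((p11.2 * D p11.1 : ℤ) : ℝ)) =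
        (N : ℝ) ^ 2 - 5 * (1944 * (H.index : ℝ)) := by
      have e' := (rowK 5 fun i => (S i : ℂ) ^ 2 / (D i : ℂ)).symm.trans (rQ 5)
      simp only [List.map_cons, List.map_nil] at e'
      rw [hsq p0 (by simp), hsq p1 (by simp), hsq p2 (by simp), hsq p3 (by simp), hsq p4 (by simp), hsq p5 (by simp), hsq p6 (by simp), hsq p7 (by simp), hsq p8 (by simp), hsq p9 (by simp), hsq p10 (by simp), hsq p11 (by simp)] at e'
      simp [hκ, Tbl.kap, mult] at e'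
      apply Complex.ofReal_injective
      push_cast
      linear_combination e' 
    have l6 : (p1.2 * D p1.1) + (p3.2 * D p3.1) + (p7.2 * D p7.1) + (p10.2 * D p10.1) + 2 * (p11.2 * D p11.1) = 0 := by
      have e' := (rowK 6 fun i => (D i : ℂ)).symm.trans (rd 6)
      simp [hκ, Tbl.kap] at e'
      exact_mod_cast (by push_cast; linear_combination e' : (((p1.2 * D p1.1) + (p3.2 * D p3.1) + (p7.2 * D p7.1) + (p10.2 * D p10.1) + 2 * (p11.2 * D p11.1) : ℤ) : ℂ) = ((0 : ℤ) : ℂ))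
    have w6 : (p1.2 * S p1.1) + (p3.2 * S p3.1) + (p7.2 * S p7.1) + (p10.2 * S p10.1) + 2 * (p11.2 * S p11.1) = 0 := by
      have e' := (rowK 6 fun i => (S i : ℂ)).symm.trans (rS 6)
      simp [hκ, Tbl.kap] at e'
      exact_mod_cast (by push_cast; linear_combination e' :
        (((p1.2 * S p1.1) + (p3.2 * S p3.1) + (p7.2 * S p7.1) + (p10.2 * S p10.1) + 2 * (p11.2 * S p11.1) : ℤ) : ℂ) = ((0 : ℤ) : ℂ))
    have q6 : (((p1.2 * S p1.1 : ℤ) : ℝ) ^ 2 / ((p1.2 * D p1.1 : ℤ) : ℝ)) + (((p3.2 * S p3.1 : ℤ) : ℝ) ^ 2 / ((p3.2 * D p3.1 : ℤ) : ℝ)) + (((p7.2 * S p7.1 : ℤ) : ℝ) ^ 2 / ((p7.2 * D p7.1 : ℤ) : ℝ)) + (((p10.2 * S p10.1 : ℤ) : ℝ) ^ 2 / ((p10.2 * D p10.1 : ℤ) : ℝ)) + 2 * (((p11.2 * S p11.1 : ℤ) : ℝ) ^ 2 / ((p11.2 * D p11.1 : ℤ) : ℝ)) =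
        0 - 3 * (1944 * (H.index : ℝ)) := by
      have e' := (rowK 6 fun i => (S i : ℂ) ^ 2 / (D i : ℂ)).symm.trans (rQ 6)
      simp only [List.map_cons, List.map_nil] at e'
      rw [hsq p0 (by simp), hsq p1 (by simp), hsq p2 (by simp), hsq p3 (by simp), hsq p4 (by simp), hsq p5 (by simp), hsq p6 (by simp), hsq p7 (by simp), hsq p8 (by simp), hsq p9 (by simp), hsq p10 (by simp), hsq p11 (by simp)] at e'
      simp [hκ, Tbl.kap, mult] at e'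
      apply Complex.ofReal_injective
      push_cast
      linear_combination e' 
    have d7 : (27 : ℤ) ∣ p7.2 * D p7.1 - 52 := by
      have := hcong p7 (by simp) ⟨2, by rw [← c7]; decide⟩
      rw [← c7] at this
      exact this
    have d10 : (27 : ℤ) ∣ p10.2 * D p10.1 - 78 := by
      have := hcong p10 (by simp) ⟨0, by rw [← c10]; decide⟩
      rw [← c10] at this
      exact this
    have d11 : (27 : ℤ) ∣ p11.2 * D p11.1 - 78 := by
      have := hcong p11 (by simp) ⟨0, by rw [← c11]; decide⟩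
      rw [← c11] at this
      exact this
    have hs0 : ∀ p : IrrCharacter G × ℤ, p ∈ [p0, p1, p2, p3, p4, p5, p6, p7, p8, p9, p10, p11] → p.2 * D p.1 ≠ 0 := fun p hp =>
      mul_ne_zero (fun z' => by have := hs p hp; rw [z'] at this; norm_num at this) (hDne _)
    have hL : ∀ j : Fin 12, (![p0.2 * D p0.1, p1.2 * D p1.1, p2.2 * D p2.1, p3.2 * D p3.1, p4.2 * D p4.1, p5.2 * D p5.1, p6.2 * D p6.1, p7.2 * D p7.1, p8.2 * D p8.1, p9.2 * D p9.1, p10.2 * D p10.1, p11.2 * D p11.1] : Fin 12 → ℤ) j ≠ 0 := by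
      intro j
      fin_cases j <;> exact hs0 _ (by simp)
    exact (config1 (L := ![p0.2 * D p0.1, p1.2 * D p1.1, p2.2 * D p2.1, p3.2 * D p3.1, p4.2 * D p4.1, p5.2 * D p5.1, p6.2 * D p6.1, p7.2 * D p7.1, p8.2 * D p8.1, p9.2 * D p9.1, p10.2 * D p10.1, p11.2 * D p11.1]) (W := ![p0.2 * S p0.1, p1.2 * S p1.1, p2.2 * S p2.1, p3.2 * S p3.1, p4.2 * S p4.1, p5.2 * S p5.1, p6.2 * S p6.1, p7.2 * S p7.1, p8.2 * S p8.1, p9.2 * S p9.1, p10.2 * S p10.1, p11.2 * S p11.1]) hIpos hL d7 d10 d11 l0 w0 q0 l3 w3 q3 l2 w2 q2 l7 w7 q7 l8 w8 q8 l5 w5 q5 l6 w6 q6).elim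

end Cfsg.Agent.Solv.Special.W648
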