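import Mathlib

/-!
Integer vectors with a prescribed Gram matrix.
-/

set_option autoImplicit false

namespace Cfsg.Agent.Solv.Special

open Finset

variable {ι : Type*} [Fintype ι]

/-- A vector whose norm is carried by a finite set vanishes elsewhere. -/
theorem zero_outside (v : ι → ℤ) (T : Finset ι) (n : ℤ) (hn : ∑ i, v i * v i = n)
    (hT : n ≤ ∑ i ∈ T, v i * v i) {j : ι} (hj : j ∉ T) : v j = 0 := by
  classical
  have h1 : ∑ i ∈ insert j T, v i * v i ≤ n :=
    hn ▸ sum_le_univ_sum_of_nonneg (fun i => mul_self_nonneg _)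
  rw [sum_insert hj] at h1
  have : v j * v j ≤ 0 := by linarith
  nlinarith [mul_self_nonneg (v j)]

theorem sum_eq_of_outside {R : Type*} [CommRing R] (v : ι → ℤ) (T : Finset ι)
    (h : ∀ j ∉ T, v j = 0) (F : ι → R) : ∑ i, (v i : R) * F i = ∑ i ∈ T, (v i : R) * F i :=
  (sum_subset (subset_univ T) fun j _ hj => by rw [h j hj, Int.cast_zero, zero_mul]).symm

/-- A vector of norm two. -/
theorem exists_two (v : ι → ℤ) (hn : ∑ i, v i * v i = 2) :
    ∃ x y, x ≠ y ∧ v x * v x = 1 ∧ v y * v y = 1 ∧ ∀ j, j ≠ x → j ≠ y → v j = 0 := by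
  classical
  have hone : ∀ i, v i = 0 ∨ v i * v i = 1 := fun i => by
    have hle : v i * v i ≤ 2 := hn ▸
      single_le_sum (f := fun i => v i * v i) (fun j _ => mul_self_nonneg _) (mem_univ i)
    have : -1 ≤ v i ∧ v i ≤ 1 := by constructor <;> nlinarith
    rcases (show v i = 0 ∨ v i = 1 ∨ v i = -1 by omega) with e | e | e <;> simp [e]
  have hcard : (univ.filter fun i => v i ≠ 0).card = 2 := by
    have : ∑ i ∈ univ.filter (fun i => v i ≠ 0), v i * v i = 2 := by
      rw [← hn]; exact sum_filter_of_ne fun i _ h => fun e => h (by simp [e])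
    rw [sum_congr rfl (g := fun _ => (1 : ℤ))
      (fun i hi => (hone i).resolve_left (mem_filter.1 hi).2), sum_const, nsmul_one] at this
    exact_mod_cast this
  obtain ⟨x, y, hxy, e⟩ := card_eq_two.1 hcard
  have hne : ∀ i, i = x ∨ i = y → v i ≠ 0 := fun i hi => by
    have : i ∈ univ.filter fun i => v i ≠ 0 := by rw [e]; simpa using hi
    exact (mem_filter.1 this).2
  refine ⟨x, y, hxy, (hone x).resolve_left (hne x (.inl rfl)),
    (hone y).resolve_left (hne y (.inr rfl)), fun j hj1 hj2 => ?_⟩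
  by_contra h
  have : j ∈ univ.filter fun i => v i ≠ 0 := mem_filter.2 ⟨mem_univ _, h⟩
  rw [e] at this
  simp [hj1, hj2] at this

theorem unit_cases {x : ℤ} (h : x * x = 1) : x = 1 ∨ x = -1 := mul_self_eq_one_iff.1 h

theorem dot_two (v w : ι → ℤ) {x y : ι} (hxy : x ≠ y) (h0 : ∀ j, j ≠ x → j ≠ y → v j = 0) :
    ∑ i, v i * w i = v x * w x + v y * w y := by
  classical
  rw [← sum_pair (f := fun i => v i * w i) hxy]
  exact (sum_subset (subset_univ _) fun j _ hj => by
    simp only [mem_insert, mem_singleton, not_or] at hj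
    rw [h0 j hj.1 hj.2, zero_mul]).symm

/-- The three pairs: `a` are orthogonal vectors of norm two, `c` meets each of them once, and
`b k` avoids `a k` only. -/
theorem pairs (a b : Fin 3 → ι → ℤ) (c d : ι → ℤ)
    (haa : ∀ k, ∑ i, a k i * a k i = 2) (ha0 : ∀ k l, k ≠ l → ∑ i, a k i * a l i = 0)
    (hca : ∀ k, ∑ i, a k i * c i = 1) (hcc : ∑ i, c i * c i = 4)
    (hbb : ∀ k, ∑ i, b k i * b k i = 3) (hba : ∀ k, ∑ i, a k i * b k i = 0)
    (hba' : ∀ k l, k ≠ l → ∑ i, a l i * b k i = 1) (hbc : ∀ k, ∑ i, c i * b k i = 2)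
    (hdd : ∑ i, d i * d i = 2) (hda : ∀ k, ∑ i, a k i * d i = 0)
    (hdb : ∀ k, ∑ i, d i * b k i = 0) (hdc : ∑ i, d i * c i = -1) :
    ∃ (L M N : Fin 3 → ι) (e : ι) (s t u : Fin 3 → ℤ) (ε : ℤ),
      (∀ k, s k * s k = 1 ∧ t k * t k = 1 ∧ u k * u k = 1) ∧ ε * ε = 1 ∧
      (∀ k, a k (L k) = s k ∧ ∀ l, k ≠ l → a l (L k) = 0) ∧
      (∀ k (F : ι → ℂ), ∑ i, (a k i : ℂ) * F i = (s k : ℂ) * F (L k) + (t k : ℂ) * F (M k)) ∧
      (∀ F : ι → ℂ, ∑ i, (c i : ℂ) * F i = (s 0 : ℂ) * F (L 0) + (s 1 : ℂ) * F (L 1) +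
        (s 2 : ℂ) * F (L 2) + (ε : ℂ) * F e) ∧
      (∀ k (F : ι → ℂ), ∑ i, (b k i : ℂ) * F i = (s (k + 1) : ℂ) * F (L (k + 1)) +
        (s (k + 2) : ℂ) * F (L (k + 2)) + (u k : ℂ) * F (N k)) := by
  classical
  choose x y hxy hx hy h0 using fun k => exists_two (a k) (haa k)
  have hdot : ∀ k (w : ι → ℤ), ∑ i, a k i * w i = a k (x k) * w (x k) + a k (y k) * w (y k) :=
    fun k w => dot_two (a k) w (hxy k) (h0 k)
  -- disjointness
  have hdisj : ∀ k l, k ≠ l → a l (x k) = 0 ∧ a l (y k) = 0 := by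
    intro k l hkl
    by_contra hne
    have e := ha0 k l hkl
    rw [hdot] at e
    have hx' := unit_cases (hx k)
    have hy' := unit_cases (hy k)
    have hboth : a l (x k) ≠ 0 ∧ a l (y k) ≠ 0 := by
      rcases hx' with p | p <;> rcases hy' with q | q <;> rw [p, q] at e <;>
        exact ⟨fun z => hne ⟨z, by rw [z] at e; linarith⟩, fun z => hne ⟨by rw [z] at e; linarith, z⟩⟩
    have mem : ∀ j, a l j ≠ 0 → j = x l ∨ j = y l := fun j hj => by
      by_contra hcon
      exact hj (h0 l j (fun z => hcon (.inl z)) fun z => hcon (.inr z))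
    have e1 := hba k
    have e2 := hba' k l hkl
    rw [hdot] at e1 e2
    rcases mem _ hboth.1 with p | p <;> rcases mem _ hboth.2 with q | q
    · exact hxy k (p.trans q.symm)
    · rw [p] at e1 hx'
      rw [q] at e1 hy'
      rcases hx' with p1 | p1 <;> rcases hy' with q1 | q1 <;> rcases unit_cases (hx l) with p2 | p2 <;>
        rcases unit_cases (hy l) with q2 | q2 <;> rw [p1, q1] at e1 <;> rw [p2, q2] at e2 <;> omega
    · rw [p] at e1 hx'
      rw [q] at e1 hy'
      rcases hx' with p1 | p1 <;> rcases hy' with q1 | q1 <;> rcases unit_cases (hx l) with p2 | p2 <;>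
        rcases unit_cases (hy l) with q2 | q2 <;> rw [p1, q1] at e1 <;> rw [p2, q2] at e2 <;> omega
    · exact hxy k (p.trans q.symm)
  have hnexx : ∀ k l, k ≠ l → x k ≠ x l ∧ x k ≠ y l ∧ y k ≠ x l ∧ y k ≠ y l := by
    intro k l hkl
    obtain ⟨d1, d2⟩ := hdisj k l hkl
    refine ⟨fun e => ?_, fun e => ?_, fun e => ?_, fun e => ?_⟩
    · have := hx l; rw [← e, d1] at this; norm_num at this
    · have := hy l; rw [← e, d1] at this; norm_num at this
    · have := hx l; rw [← e, d2] at this; norm_num at this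
    · have := hy l; rw [← e, d2] at this; norm_num at this
  set P : Fin 3 → Finset ι := fun k => {x k, y k} with hP
  have hPd : Set.PairwiseDisjoint (↑(univ : Finset (Fin 3))) P := by
    intro k _ l _ hkl
    obtain ⟨q1, q2, q3, q4⟩ := hnexx k l hkl
    simp [Function.onFun, hP, q1.symm, q2.symm, q3.symm, q4.symm]
  have six : ∀ w : ι → ℤ, ∑ k : Fin 3, (w (x k) * w (x k) + w (y k) * w (y k)) ≤ ∑ i, w i * w i := by
    intro w
    calc ∑ k : Fin 3, (w (x k) * w (x k) + w (y k) * w (y k))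
        = ∑ i ∈ univ.disjiUnion P hPd, w i * w i := by
          rw [sum_disjiUnion]
          exact sum_congr rfl fun k _ => (sum_pair (f := fun i => w i * w i) (hxy k)).symm
      _ ≤ _ := sum_le_univ_sum_of_nonneg fun i => mul_self_nonneg _
  have bound : ∀ (w : ι → ℤ) (k : Fin 3), w (x k) * w (x k) + w (y k) * w (y k) ≤ ∑ i, w i * w i :=
    fun w k => le_trans (single_le_sum
      (f := fun k => w (x k) * w (x k) + w (y k) * w (y k))
      (fun l _ => add_nonneg (mul_self_nonneg _) (mul_self_nonneg _)) (mem_univ k)) (six w)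
  have small : ∀ {z : ℤ}, z * z ≤ 4 → z = 0 ∨ z = 1 ∨ z = -1 ∨ z = 2 ∨ z = -2 := by
    intro z hz
    have : -2 ≤ z ∧ z ≤ 2 := by constructor <;> nlinarith
    omega
  -- `c` meets each pair once
  have hc1 : ∀ k, c (x k) * c (x k) + c (y k) * c (y k) = 1 := by
    have ge1 : ∀ k, 1 ≤ c (x k) * c (x k) + c (y k) * c (y k) := by
      intro k
      by_contra hlt
      have e1 : c (x k) = 0 := by nlinarith [mul_self_nonneg (c (y k))]
      have e2 : c (y k) = 0 := by nlinarith [mul_self_nonneg (c (x k))]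
      have := hca k
      rw [hdot, e1, e2] at this
      norm_num at this
    intro k
    have h4 := six c
    rw [hcc, Fin.sum_univ_three] at h4
    have hle : c (x k) * c (x k) + c (y k) * c (y k) ≤ 2 := by
      have g0 := ge1 0; have g1 := ge1 1; have g2 := ge1 2
      fin_cases k <;> simp only [Fin.zero_eta, Fin.mk_one, Fin.reduceFinMk] <;> linarith
    have e := hca k
    rw [hdot] at e
    rcases small (show c (x k) * c (x k) ≤ 4 by nlinarith [mul_self_nonneg (c (y k))]) with
      p | p | p | p | p <;>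
      rcases small (show c (y k) * c (y k) ≤ 4 by nlinarith [mul_self_nonneg (c (x k))]) with
      q | q | q | q | q <;>
      rcases unit_cases (hx k) with p1 | p1 <;> rcases unit_cases (hy k) with q1 | q1 <;>
      rw [p, q] at hle ⊢ <;> rw [p, q, p1, q1] at e <;> omega
  -- choose the common position in each pair
  set L : Fin 3 → ι := fun k => if c (y k) = 0 then x k else y k with hL
  set M : Fin 3 → ι := fun k => if c (y k) = 0 then y k else x k with hM
  have hLM : ∀ k, L k ≠ M k ∧ a k (L k) * a k (L k) = 1 ∧ a k (M k) * a k (M k) = 1 ∧ c (M k) = 0 ∧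
      (∀ j, j ≠ L k → j ≠ M k → a k j = 0) ∧ c (L k) = a k (L k) ∧
      (L k = x k ∧ M k = y k ∨ L k = y k ∧ M k = x k) := by
    intro k
    have e := hca k
    rw [hdot] at e
    have e1 := hc1 k
    simp only [hL, hM]
    split_ifs with hcy
    · refine ⟨hxy k, hx k, hy k, hcy, h0 k, ?_, .inl ⟨rfl, rfl⟩⟩
      rw [hcy, mul_zero, add_zero] at e
      rcases unit_cases (hx k) with p | p <;> rw [p] at e ⊢ <;> linarith
    · have hcx : c (x k) = 0 := by
        by_contra hne
        nlinarith [mul_self_pos.2 hne, mul_self_pos.2 hcy]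
      refine ⟨(hxy k).symm, hy k, hx k, hcx, fun j p q => h0 k j q p, ?_, .inr ⟨rfl, rfl⟩⟩
      rw [hcx, mul_zero, zero_add] at e
      rcases unit_cases (hy k) with p | p <;> rw [p] at e ⊢ <;> linarith
  have hLdisj : ∀ k l, k ≠ l → a l (L k) = 0 ∧ a l (M k) = 0 := by
    intro k l hkl
    obtain ⟨d1, d2⟩ := hdisj k l hkl
    rcases (hLM k).2.2.2.2.2.2 with ⟨p, q⟩ | ⟨p, q⟩ <;> rw [p, q]
    · exact ⟨d1, d2⟩
    · exact ⟨d2, d1⟩
  have hdot' : ∀ k (w : ι → ℤ), ∑ i, a k i * w i = a k (L k) * w (L k) + a k (M k) * w (M k) :=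
    fun k w => dot_two (a k) w (hLM k).1 (hLM k).2.2.2.2.1
  have hLne : ∀ k l, k ≠ l → L k ≠ L l ∧ L k ≠ M l ∧ M k ≠ L l ∧ M k ≠ M l := by
    intro k l hkl
    obtain ⟨d1, d2⟩ := hLdisj k l hkl
    obtain ⟨-, u1, u2, -⟩ := hLM l
    refine ⟨fun e => ?_, fun e => ?_, fun e => ?_, fun e => ?_⟩
    · rw [← e, d1] at u1; norm_num at u1
    · rw [← e, d1] at u2; norm_num at u2
    · rw [← e, d2] at u1; norm_num at u1
    · rw [← e, d2] at u2; norm_num at u2
  -- the fourth position of `c`
  set T : Finset ι := {L 0, L 1, L 2} with hT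
  have hTsum : ∑ i ∈ T, c i * c i = 3 := by
    rw [hT, sum_insert (by simp [(hLne 0 1 (by decide)).1, (hLne 0 2 (by decide)).1]),
      sum_insert (by simp [(hLne 1 2 (by decide)).1]), sum_singleton, (hLM 0).2.2.2.2.2.1,
      (hLM 1).2.2.2.2.2.1, (hLM 2).2.2.2.2.2.1, (hLM 0).2.1, (hLM 1).2.1, (hLM 2).2.1]
    norm_num
  have hrest : ∑ i ∈ univ \ T, c i * c i = 1 := by
    have := sum_sdiff (f := fun i => c i * c i) (subset_univ T)
    rw [hTsum, hcc] at this
    linarith
  obtain ⟨e, he, hce⟩ := exists_ne_zero_of_sum_ne_zero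
    (show ∑ i ∈ univ \ T, c i * c i ≠ 0 by rw [hrest]; norm_num)
  have hce1 : c e * c e = 1 := by
    have h1 : c e * c e ≤ 1 := hrest ▸
      single_le_sum (f := fun i => c i * c i) (fun i _ => mul_self_nonneg _) he
    have h2 : 0 < c e * c e := lt_of_le_of_ne (mul_self_nonneg _) (Ne.symm hce)
    omega
  have heT : e ∉ T := (mem_sdiff.1 he).2
  have hcout : ∀ j, j ∉ insert e T → c j = 0 := fun j hj => zero_outside c (insert e T) 4 hcc (by
    rw [sum_insert heT, hce1, hTsum]; norm_num) hj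
  have hLe : ∀ k, L k ≠ e := fun k h => heT (by rw [← h, hT]; fin_cases k <;> simp)
  have hMe : ∀ k, M k ≠ e := fun k h => hce (by rw [← h, (hLM k).2.2.2.1, mul_zero])
  -- `d` avoids the pairs
  have hdL : ∀ k, d (L k) = 0 ∧ d (M k) = 0 := by
    intro k
    by_contra hne
    have e1 := hda k
    rw [hdot'] at e1
    obtain ⟨hlm, u1, u2, -⟩ := hLM k
    have hL0 : d (L k) ≠ 0 := fun z => hne ⟨z, by
      rcases unit_cases u2 with p | p <;> rw [z, p] at e1 <;> linarith⟩
    have hM0 : d (M k) ≠ 0 := fun z => hne ⟨by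
      rcases unit_cases u1 with p | p <;> rw [z, p] at e1 <;> linarith, z⟩
    obtain ⟨x', y', -, hx', hy', h0'⟩ := exists_two d hdd
    have mem : ∀ j, d j ≠ 0 → j = x' ∨ j = y' := fun j hj => by
      by_contra hcon
      exact hj (h0' j (fun z => hcon (.inl z)) fun z => hcon (.inr z))
    have hout : ∀ j, j ≠ L k → j ≠ M k → d j = 0 := fun j p q => by
      by_contra hj
      rcases mem _ hj with r | r <;> rcases mem _ hL0 with s | s <;> rcases mem _ hM0 with t | t <;>
        first
        | exact p (r.trans s.symm)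
        | exact q (r.trans t.symm)
        | exact hlm (s.trans t.symm)
    have v1 : d (L k) * d (L k) = 1 := by rcases mem _ hL0 with r | r <;> rw [r] <;> assumption
    have v2 : d (M k) * d (M k) = 1 := by rcases mem _ hM0 with r | r <;> rw [r] <;> assumption
    obtain ⟨l, hkl⟩ : ∃ l, l ≠ k := exists_ne k
    have e2 := hba' l k hkl
    have e3 := hdb l
    rw [hdot'] at e2
    rw [dot_two d _ hlm hout] at e3
    rcases unit_cases u1 with p | p <;> rcases unit_cases u2 with q | q <;>
      rcases unit_cases v1 with r | r <;> rcases unit_cases v2 with s | s <;>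
      rw [p, q] at e2 <;> rw [r, s] at e3 <;> omega
  obtain ⟨x', y', hxy', hdx, hdy, hd0⟩ := exists_two d hdd
  have hde : d e ≠ 0 := by
    intro hde
    have e1 := hdc
    rw [dot_two d _ hxy' hd0] at e1
    have hz : ∀ j, d j ≠ 0 → c j = 0 := fun j hj => hcout j fun hjT => by
      rw [hT] at hjT
      simp only [mem_insert, mem_singleton] at hjT
      rcases hjT with rfl | rfl | rfl | rfl
      · exact hj hde
      · exact hj (hdL 0).1
      · exact hj (hdL 1).1
      · exact hj (hdL 2).1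
    rw [hz x' (fun z => by rw [z] at hdx; norm_num at hdx),
      hz y' (fun z => by rw [z] at hdy; norm_num at hdy)] at e1
    norm_num at e1
  obtain ⟨f, hfe, hdf, hdout⟩ : ∃ f, f ≠ e ∧ d f * d f = 1 ∧ ∀ j, j ≠ e → j ≠ f → d j = 0 := by
    by_cases h : e = x'
    · subst h; exact ⟨y', hxy'.symm, hdy, hd0⟩
    · have : e = y' := by
        by_contra h'
        exact hde (hd0 e h h')
      subst this
      exact ⟨x', hxy', hdx, fun j p q => hd0 j q p⟩
  have hde1 : d e * d e = 1 := by
    have := hdd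
    rw [dot_two d d hfe.symm hdout, hdf] at this
    linarith
  have hLf : ∀ k, L k ≠ f ∧ M k ≠ f := fun k =>
    ⟨fun z => by rw [← z, (hdL k).1] at hdf; norm_num at hdf,
      fun z => by rw [← z, (hdL k).2] at hdf; norm_num at hdf⟩
  -- the vectors `b`
  have hb : ∀ k, b k (L (k + 1)) = a (k + 1) (L (k + 1)) ∧ b k (L (k + 2)) = a (k + 2) (L (k + 2)) := by
    intro k
    have h12 : k + 1 ≠ k + 2 := by fin_cases k <;> decide
    have h01 : k ≠ k + 1 := by fin_cases k <;> decide
    have h02 : k ≠ k + 2 := by fin_cases k <;> decide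
    have e0 := hba k
    have e1 := hba' k (k + 1) h01
    have e2 := hba' k (k + 2) h02
    rw [hdot'] at e0 e1 e2
    obtain ⟨-, u0, w0, -⟩ := hLM k
    obtain ⟨-, u1, w1, -⟩ := hLM (k + 1)
    obtain ⟨-, u2, w2, -⟩ := hLM (k + 2)
    set S : Finset ι := {L k, M k, L (k + 1), M (k + 1), L (k + 2), M (k + 2), e, f} with hS
    have hsum : b k (L k) * b k (L k) + (b k (M k) * b k (M k) +
        (b k (L (k + 1)) * b k (L (k + 1)) + (b k (M (k + 1)) * b k (M (k + 1)) +
        (b k (L (k + 2)) * b k (L (k + 2)) + (b k (M (k + 2)) * b k (M (k + 2)) +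
        (b k e * b k e + b k f * b k f)))))) ≤ 3 := by
      obtain ⟨a1, a2, a3, a4⟩ := hLne k (k + 1) h01
      obtain ⟨b1, b2, b3, b4⟩ := hLne k (k + 2) h02
      obtain ⟨c1, c2, c3, c4⟩ := hLne (k + 1) (k + 2) h12
      have key : ∑ i ∈ S, b k i * b k i ≤ 3 :=
        hbb k ▸ sum_le_univ_sum_of_nonneg fun i => mul_self_nonneg _
      rw [hS, sum_insert (by simp [(hLM k).1, a1, a2, b1, b2, hLe, (hLf k).1]),
        sum_insert (by simp [a3, a4, b3, b4, hMe, (hLf k).2]),
        sum_insert (by simp [(hLM (k + 1)).1, c1, c2, hLe, (hLf (k + 1)).1]),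
        sum_insert (by simp [c3, c4, hMe, (hLf (k + 1)).2]),
        sum_insert (by simp [(hLM (k + 2)).1, hLe, (hLf (k + 2)).1]),
        sum_insert (by simp [hMe, (hLf (k + 2)).2]),
        sum_insert (by simp [hfe.symm]), sum_singleton] at key
      exact key
    have e3 := hdb k
    rw [dot_two d _ hfe.symm hdout] at e3
    have e4 : a k (L k) * b k (L k) + a (k + 1) (L (k + 1)) * b k (L (k + 1)) +
        a (k + 2) (L (k + 2)) * b k (L (k + 2)) + c e * b k e = 2 := by
      have := hbc k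
      rw [← (hLM k).2.2.2.2.2.1, ← (hLM (k + 1)).2.2.2.2.2.1, ← (hLM (k + 2)).2.2.2.2.2.1]
      rw [← sum_subset (subset_univ (insert e T)) (fun j _ hj => by rw [hcout j hj, zero_mul]),
        sum_insert heT, hT, sum_insert (by simp [(hLne 0 1 (by decide)).1, (hLne 0 2 (by decide)).1]),
        sum_insert (by simp [(hLne 1 2 (by decide)).1]), sum_singleton] at this
      fin_cases k <;> simp only [Fin.zero_eta, Fin.mk_one, Fin.reduceFinMk, Fin.reduceAdd,
        zero_add] at this ⊢ <;> linarith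
    have hef : b k e * b k e = b k f * b k f := by
      rcases unit_cases hde1 with p | p <;> rcases unit_cases hdf with q | q <;> rw [p, q] at e3 <;>
        first
        | (rw [show b k f = b k e by linarith]; done)
        | (rw [show b k f = -b k e by linarith]; ring)
    -- each pair carries one unit, so nothing is left at `e`
    have q1 : 1 ≤ b k (L (k + 1)) * b k (L (k + 1)) + b k (M (k + 1)) * b k (M (k + 1)) := by
      by_contra hlt
      have z1 : b k (L (k + 1)) = 0 := by nlinarith [mul_self_nonneg (b k (M (k + 1)))]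
      have z2 : b k (M (k + 1)) = 0 := by nlinarith [mul_self_nonneg (b k (L (k + 1)))]
      rw [z1, z2] at e1
      norm_num at e1
    have q2 : 1 ≤ b k (L (k + 2)) * b k (L (k + 2)) + b k (M (k + 2)) * b k (M (k + 2)) := by
      by_contra hlt
      have z1 : b k (L (k + 2)) = 0 := by nlinarith [mul_self_nonneg (b k (M (k + 2)))]
      have z2 : b k (M (k + 2)) = 0 := by nlinarith [mul_self_nonneg (b k (L (k + 2)))]
      rw [z1, z2] at e2
      norm_num at e2
    have q0 := mul_self_nonneg (b k (L k))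
    have q0' := mul_self_nonneg (b k (M k))
    have qe := mul_self_nonneg (b k e)
    have qL := mul_self_nonneg (b k (L (k + 1)))
    have qM := mul_self_nonneg (b k (M (k + 1)))
    have be : b k e = 0 := by
      by_contra hne
      have := mul_self_pos.2 hne
      omega
    rw [be, mul_zero, add_zero] at e4
    rw [be] at hsum hef
    have z0 : b k (L k) = 0 ∧ b k (M k) = 0 := by
      have t1 : b k (L k) * b k (L k) + b k (M k) * b k (M k) ≤ 1 := by linarith
      have r1 : -1 ≤ b k (L k) ∧ b k (L k) ≤ 1 := by constructor <;> nlinarith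
      have r2 : -1 ≤ b k (M k) ∧ b k (M k) ≤ 1 := by constructor <;> nlinarith
      rcases unit_cases u0 with p | p <;> rcases unit_cases w0 with q | q <;> rw [p, q] at e0 <;>
        rcases (show b k (L k) = 0 ∨ b k (L k) = 1 ∨ b k (L k) = -1 by omega) with r | r | r <;>
        rcases (show b k (M k) = 0 ∨ b k (M k) = 1 ∨ b k (M k) = -1 by omega) with r' | r' | r' <;>
        rw [r, r'] at t1 e0 ⊢ <;> omega
    rw [z0.1, mul_zero, zero_add] at e4
    have r1 : -1 ≤ b k (L (k + 1)) ∧ b k (L (k + 1)) ≤ 1 := by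
      constructor <;> nlinarith
    have r2 : -1 ≤ b k (L (k + 2)) ∧ b k (L (k + 2)) ≤ 1 := by
      constructor <;> nlinarith [mul_self_nonneg (b k (M (k + 2)))]
    constructor
    · rcases unit_cases u1 with p | p <;> rcases unit_cases u2 with q | q <;>
        rw [p, q] at e4 <;> rw [p] <;> omega
    · rcases unit_cases u1 with p | p <;> rcases unit_cases u2 with q | q <;>
        rw [p, q] at e4 <;> rw [q] <;> omega
  have hN : ∀ k, ∃ n, n ≠ L (k + 1) ∧ n ≠ L (k + 2) ∧ b k n * b k n = 1 := by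
    intro k
    have h12 : k + 1 ≠ k + 2 := by fin_cases k <;> decide
    set S : Finset ι := {L (k + 1), L (k + 2)} with hS
    have h2 : ∑ i ∈ S, b k i * b k i = 2 := by
      rw [hS, sum_pair (hLne _ _ h12).1, (hb k).1, (hb k).2, (hLM _).2.1, (hLM _).2.1]; norm_num
    have hr : ∑ i ∈ univ \ S, b k i * b k i = 1 := by
      have := sum_sdiff (f := fun i => b k i * b k i) (subset_univ S)
      rw [h2, hbb] at this
      linarith
    obtain ⟨n, hn, hn0⟩ := exists_ne_zero_of_sum_ne_zero
      (show ∑ i ∈ univ \ S, b k i * b k i ≠ 0 by rw [hr]; norm_num)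
    have h1 : b k n * b k n ≤ 1 := hr ▸
      single_le_sum (f := fun i => b k i * b k i) (fun i _ => mul_self_nonneg _) hn
    have h3 : 0 < b k n * b k n := lt_of_le_of_ne (mul_self_nonneg _) (Ne.symm hn0)
    have hnS := (mem_sdiff.1 hn).2
    rw [hS, mem_insert, mem_singleton, not_or] at hnS
    exact ⟨n, hnS.1, hnS.2, by omega⟩
  choose N hN1 hN2 hNu using hN
  refine ⟨L, M, N, e, fun k => a k (L k), fun k => a k (M k), fun k => b k (N k), c e,
    fun k => ⟨(hLM k).2.1, (hLM k).2.2.1, hNu k⟩, hce1,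
    fun k => ⟨rfl, fun l hkl => (hLdisj k l hkl).1⟩, fun k F => ?_, fun F => ?_, fun k F => ?_⟩
  · rw [sum_eq_of_outside _ {L k, M k} (fun j hj => by
      simp only [mem_insert, mem_singleton, not_or] at hj
      exact (hLM k).2.2.2.2.1 j hj.1 hj.2), sum_pair (hLM k).1]
  · rw [sum_eq_of_outside _ _ hcout, sum_insert heT, hT,
      sum_insert (by simp [(hLne 0 1 (by decide)).1, (hLne 0 2 (by decide)).1]),
      sum_insert (by simp [(hLne 1 2 (by decide)).1]), sum_singleton, (hLM 0).2.2.2.2.2.1,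
      (hLM 1).2.2.2.2.2.1, (hLM 2).2.2.2.2.2.1]
    ring
  · have h12 : k + 1 ≠ k + 2 := by fin_cases k <;> decide
    have hout := fun j => zero_outside (b k) {L (k + 1), L (k + 2), N k} 3 (hbb k) (by
      rw [sum_insert (by simp [(hLne _ _ h12).1, (hN1 k).symm]),
        sum_pair (Ne.symm (hN2 k)), (hb k).1, (hb k).2, (hLM _).2.1, (hLM _).2.1, hNu]
      norm_num) (j := j)
    rw [sum_eq_of_outside _ _ hout, sum_insert (by simp [(hLne _ _ h12).1, (hN1 k).symm]),
      sum_pair (Ne.symm (hN2 k)), (hb k).1, (hb k).2]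
    ring

end Cfsg.Agent.Solv.Special
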