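import Cfsg.Agent.Lib.Solv.Special.Main

/-!
`3³ : 2²` as a subgroup of the symmetric group of degree nine.
-/

set_option autoImplicit false

namespace Cfsg.Agent.Solv.Special

/-- The natural embedding in nine points. -/
def emb9 : T3 →* Equiv.Perm (Fin 9) where
  toFun := fun t => (finProdFinEquiv (m := 3) (n := 3)).permCongr
    (Equiv.prodCongrRight fun k => (pi3 (co k t) : Equiv.Perm (ZMod 3)))
  map_one' := by
    ext x
    simp [Equiv.prodCongrRight]
    show ((finProdFinEquiv (finProdFinEquiv.symm x)) : Fin (3 * 3)).val = _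
    rw [Equiv.apply_symm_apply]
  map_mul' := fun a b => by
    ext x
    simp [Equiv.prodCongrRight]
    rfl

theorem emb9_inj : Function.Injective emb9 := by
  intro a b hab
  have h : ∀ k, pi3 (co k a) = pi3 (co k b) := fun k => Equiv.ext fun x => by
    have := congrArg (fun p : Equiv.Perm (Fin 9) => p (finProdFinEquiv (k, (x : Fin 3)))) hab
    simp [emb9, Equiv.prodCongrRight] at this
    exact this
  have inj : ∀ p q : D3, pi3 p = pi3 q → p = q := by decide
  exact Prod.ext (inj _ _ (h 0)) (Prod.ext (inj _ _ (h 1)) (inj _ _ (h 2)))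

def gens : List T3 :=
  [(.r 1, 1, 1), (1, .r 1, 1), (1, 1, .r 1), (.sr 2, .sr 2, 1), (.sr 2, 1, .sr 2)]

def gA : T3 := (.r 1, 1, 1)
def gB : T3 := (1, .r 1, 1)
def gC : T3 := (1, 1, .r 1)
def gD : T3 := (.sr 2, .sr 2, 1)
def gE : T3 := (.sr 2, 1, .sr 2)

theorem words : ∀ m : M108, ∃ a b c : Fin 3, ∃ d f : Fin 2,
    (m : T3) = gA ^ (a : ℕ) * gB ^ (b : ℕ) * gC ^ (c : ℕ) * gD ^ (d : ℕ) * gE ^ (f : ℕ) := by
  decide +kernel

theorem closure_eq : Subgroup.closure ({gA, gB, gC, gD, gE} : Set T3) = M108 := by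
  refine le_antisymm ((Subgroup.closure_le _).2 ?_) ?_
  · rintro _ (rfl | rfl | rfl | rfl | rfl) <;> exact (show _ ∈ M108 by decide +kernel)
  · intro m hm
    obtain ⟨a, b, c, d, f, e⟩ := words ⟨m, hm⟩
    rw [show m = _ from e]
    refine Subgroup.mul_mem _ (Subgroup.mul_mem _ (Subgroup.mul_mem _ (Subgroup.mul_mem _ ?_ ?_) ?_) ?_) ?_ <;>
      exact Subgroup.pow_mem _ (Subgroup.subset_closure (by simp)) _

end Cfsg.Agent.Solv.Special
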