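import Cfsg.Agent.Lib.Solv.Special.Top648
import Cfsg.Agent.Lib.Fusion.Cores

/-!
`3³ : S₄` inside the symmetric group of degree nine, and its three-core.
-/

set_option autoImplicit false
set_option maxRecDepth 100000

namespace Cfsg.Agent.Solv.Special.W648

open Cfsg Cfsg.Agent.Solv.Special

/-- The action on nine points, as pairs. -/
def act : W →* Equiv.Perm (ZMod 3 × ZMod 3) where
  toFun g := ((Equiv.prodCongrRight fun k : ZMod 3 => (pi3 (co k g.t) : Equiv.Perm (ZMod 3))) :
      Equiv.Perm (ZMod 3 × ZMod 3)) *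
    (Equiv.prodCongr (pi3 g.p : Equiv.Perm (ZMod 3)) (Equiv.refl (ZMod 3)))
  map_one' := by decide +kernel
  map_mul' a b := by
    have hpl : ∀ (p : D3) (j : Fin 3), pl p⁻¹ (pl p j) = j := by decide
    refine Equiv.ext fun x => ?_
    obtain ⟨k, y⟩ := x
    show (pi3 (a.p * b.p) k, pi3 (co (pi3 (a.p * b.p) k) (a.t * perm a.p b.t)) y) =
      (pi3 a.p (pi3 b.p k), pi3 (co (pi3 a.p (pi3 b.p k)) a.t) (pi3 (co (pi3 b.p k) b.t) y))
    have e1 : pi3 (a.p * b.p) k = pi3 a.p (pi3 b.p k) := by rw [map_mul]; rfl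
    rw [e1, map_mul, map_mul]
    have hco : ∀ (p : D3) (u : T3) (j : Fin 3), co (pl p j) (perm p u) = co j u := fun p u j => by
      rw [co_perm, hpl]
    erw [hco a.p b.t (pi3 b.p k)]
    rfl

/-- The natural embedding in nine points. -/
def emb9 : M648 →* Equiv.Perm (Fin 9) :=
  (Equiv.permCongrHom (finProdFinEquiv (m := 3) (n := 3))).toMonoidHom.comp
    (act.comp M648.subtype)

theorem emb9_inj : Function.Injective emb9 := by
  refine (injective_iff_map_eq_one _).2 ?_
  decide +kernel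

def gA : M648 := mkM (.r 1, 1, 1) 1
def gB : M648 := mkM 1 (.r 1)
def gC : M648 := mkM (.sr 2, .sr 2, 1) 1
def gD : M648 := mkM (1, 1, .sr 2) (.sr 2)

def quot (u v : Fin 2) (i : Fin 3) (j : Fin 2) : M648 :=
  gC ^ (u : ℕ) * (gB * gC * gB⁻¹) ^ (v : ℕ) * gB ^ (i : ℕ) * gD ^ (j : ℕ)

theorem quot_word : ∀ m : M648, ∃ u v i j, rot (m * (quot u v i j)⁻¹) := by decide +kernel

theorem rot_word : ∀ m : M648, rot m → ∃ a b c : Fin 3,
    m = gA ^ (a : ℕ) * (gB * gA * gB⁻¹) ^ (b : ℕ) * (gB * gB * gA * gB⁻¹ * gB⁻¹) ^ (c : ℕ) := by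
  decide +kernel

theorem closure_eq : Subgroup.closure ({gA, gB, gC, gD} : Set M648) = ⊤ := by
  refine top_unique fun m _ => ?_
  set C := Subgroup.closure ({gA, gB, gC, gD} : Set M648)
  have hA : gA ∈ C := Subgroup.subset_closure (by simp)
  have hB : gB ∈ C := Subgroup.subset_closure (by simp)
  have hC : gC ∈ C := Subgroup.subset_closure (by simp)
  have hD : gD ∈ C := Subgroup.subset_closure (by simp)
  obtain ⟨u, v, i, j, hr⟩ := quot_word m
  obtain ⟨a, b, c, hw⟩ := rot_word _ hr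
  have hq : quot u v i j ∈ C := C.mul_mem (C.mul_mem (C.mul_mem (C.pow_mem hC _)
    (C.pow_mem (C.mul_mem (C.mul_mem hB hC) (C.inv_mem hB)) _)) (C.pow_mem hB _)) (C.pow_mem hD _)
  rw [← inv_mul_cancel_right m (quot u v i j), hw]
  exact C.mul_mem (C.mul_mem (C.mul_mem (C.pow_mem hA _)
    (C.pow_mem (C.mul_mem (C.mul_mem hB hA) (C.inv_mem hB)) _))
    (C.pow_mem (C.mul_mem (C.mul_mem (C.mul_mem (C.mul_mem hB hB) hA) (C.inv_mem hB)) (C.inv_mem hB)) _)) hq

/-- The three-core. -/
theorem mem_core {H : Type*} [Group H] (e : H ≃* M648) (x : H) : x ∈ pCore 3 H ↔ rot (e x) := by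
  classical
  haveI : Fact (Nat.Prime 3) := ⟨Nat.prime_three⟩
  haveI : Finite H := Finite.of_equiv M648 e.symm.toEquiv
  let N : Subgroup H :=
    { carrier := {x | rot (e x)}
      one_mem' := by simp only [Set.mem_setOf_eq, map_one]; exact rot_one
      mul_mem' := fun {a b} ha hb => by
        simp only [Set.mem_setOf_eq, map_mul]; exact (rot_mul _ ha _ hb).1
      inv_mem' := fun {a} ha => by simp only [Set.mem_setOf_eq, map_inv]; exact (rot_inv _ ha).1 }
  haveI : N.Normal := ⟨fun a ha g => by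
    show rot (e (g * a * g⁻¹))
    rw [map_mul, map_mul, map_inv]; exact rot_conj _ ha _⟩
  constructor
  · intro hx
    by_contra hr
    have h81 : ∀ y ∈ pCore 3 H, (e y) ^ 81 = 1 := fun y hy => by
      obtain ⟨k, hk⟩ := Fusion.isPGroup_pCore 3 H ⟨y, hy⟩
      have h1 : y ^ 3 ^ k = 1 := congrArg Subtype.val hk
      have h2 : orderOf (e y) ∣ 3 ^ k := orderOf_dvd_of_pow_eq_one (by rw [← map_pow, h1, map_one])
      have h3 : orderOf (e y) ∣ 648 := by
        have := orderOf_dvd_card (x := e y)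
        rwa [card_M648] at this
      obtain ⟨i, -, hi⟩ := (Nat.dvd_prime_pow Nat.prime_three).1 h2
      rw [hi] at h3
      have hi4 : i ≤ 4 := by
        by_contra hh
        push Not at hh
        have := (pow_dvd_pow 3 (show 5 ≤ i by omega)).trans h3
        norm_num at this
      exact orderOf_dvd_iff_pow_eq_one.1 (hi ▸ pow_dvd_pow 3 hi4)
    obtain ⟨g, -, hg⟩ := core_step _ hr (h81 x hx)
    refine hg ?_
    obtain ⟨g, rfl⟩ := e.surjective g
    rw [← map_inv, ← map_inv, ← map_mul, ← map_mul, ← map_mul]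
    have hn : (pCore 3 H).Normal := inferInstance
    refine h81 _ ?_
    have := (pCore 3 H).mul_mem hx (hn.conj_mem x⁻¹ ((pCore 3 H).inv_mem hx) g)
    simpa [mul_assoc] using this
  · intro hx
    refine Fusion.le_pCore (N := N) ?_ hx
    intro a
    refine ⟨1, Subtype.ext ?_⟩
    rw [pow_one, SubgroupClass.coe_pow, pow_succ, pow_two]
    exact e.injective (by
      rw [map_mul, map_mul, OneMemClass.coe_one, map_one]; exact (rot_inv _ a.2).2)

end Cfsg.Agent.Solv.Special.W648
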