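import Cfsg.Agent.Lib.Solv.Special.Fun648

/-!
Facts checked on the 648 elements.
-/

set_option autoImplicit false
set_option maxRecDepth 100000

namespace Cfsg.Agent.Solv.Special.W648

open Cfsg Cfsg.Agent.Char Cfsg.Agent.Solv.Special

/-- A power lies in the normal subgroup, nontrivially. -/
def InD (m : M648) : Prop :=
  (rot m ∧ m ≠ 1) ∨ (rot (m * m) ∧ m * m ≠ 1) ∨ (rot (m * m * m) ∧ m * m * m ≠ 1) ∨
    (rot (m * m * m * m) ∧ m * m * m * m ≠ 1)

instance : DecidablePred InD := fun m => inferInstanceAs (Decidable (_ ∨ _))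

theorem card_M648 : Fintype.card M648 = 648 := by decide +kernel

theorem fn_supp : ∀ r m, fn r m ≠ 0 → InD m := by decide +kernel
theorem fn_sq : ∀ m : M648, m * m = 1 → ∀ r, fn r m = 0 := by decide +kernel

/-- The product of pairs. -/
def mul2 (x y : V2) : V2 := (x.1 * y.1 + 3 * (x.2 * y.2), x.1 * y.2 + x.2 * y.1)

theorem toR_mul2 (x y : V2) : toR (mul2 x y) = toR x * toR y := by
  have h : (Real.sqrt 3 : ℂ) * (Real.sqrt 3 : ℂ) = 3 := Z12.sqrt3_sq
  simp only [toR_apply, mul2]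
  push_cast
  linear_combination (-((x.2 : ℂ) * (y.2 : ℂ))) * h

/-- Sums of products. -/
def dot2 (f g : M648 → V2) : V2 := ∑ m, mul2 (f m) (g m)

/-- The Gram matrix, times the order. -/
def gram : List (List ℤ) :=
  [[3, 2, 1, 2, 2, 2, 3, 3, 1], [2, 3, 1, 2, 2, 2, 3, 3, 1], [1, 1, 4, 2, 2, 2, 3, 3, 1],
   [2, 2, 2, 4, 3, 2, 4, 4, 2], [2, 2, 2, 3, 4, 2, 4, 4, 2], [2, 2, 2, 2, 2, 5, 4, 4, 2],
   [3, 3, 3, 4, 4, 4, 8, 5, 3], [3, 3, 3, 4, 4, 4, 5, 8, 3], [1, 1, 1, 2, 2, 2, 3, 3, 4]]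

theorem dot_fn : ∀ r s : Fin 9, s ≤ r → dot2 (fn s) (fn r) = (648 * ((gram.getD s []).getD r 0), 0) := by
  decide +kernel

theorem dot_one : ∀ r : Fin 9,
    dot2 (fn r) one2 = (648 * -([0, 0, 1, 0, 0, 1, 0, 1, 0].getD (r : ℕ) (0 : ℤ)), 0) := by
  decide +kernel

/-- The elements of square one. -/
def invSet : Finset M648 := Finset.univ.filter fun x : M648 => x * x = 1

def f1 : M648 := mkM (1, .sr 0, .sr 0) 1
def e1 : M648 := mkM (1, 1, .sr 0) (.sr 2)

/-- The class of an element of square one. -/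
def irep (x : M648) : M648 := if x = 1 then 1 else if pp x = 1 then f1 else e1

theorem irep_conj : ∀ x ∈ invSet, ∃ k : M648, k * irep x * k⁻¹ = x := by decide +kernel

theorem irep_count : (invSet.filter fun x => irep x = 1).card = 1 ∧
    (invSet.filter fun x => irep x = f1).card = 27 ∧ (invSet.filter fun x => irep x = e1).card = 54 ∧
    e1 ≠ f1 ∧ e1 ≠ 1 ∧ f1 ≠ 1 := by decide +kernel

/-- The multiples occurring in the sums over pairs. -/
def mult : List ℤ := [1, 1, 5, 2, 2, 5, 3, 5, 1]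

theorem pair_row : ∀ r : Fin 9,
    (∑ y ∈ invSet, fn r (1 * y)) + 27 • (∑ y ∈ invSet, fn r (f1 * y)) +
      54 • (∑ y ∈ invSet, fn r (e1 * y)) = (-1944 * mult.getD r 0, 0) := by decide +kernel

/-- The degrees. -/
def deg9 : List ℤ := [6, 6, 6, 8, 8, 8, 12, 12, 6]

theorem sum_J : ∀ m : M648, ∑ r : Fin 9, deg9.getD r 0 • fn r m =
    if rot m ∧ m ≠ 1 then (-648, 0) else 0 := by decide +kernel

/-- The elements over the four-group with a power in the normal subgroup. -/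
def overV (m : M648) : Prop := pp m = 1 ∧ ¬ rot m ∧ InD m

instance : DecidablePred overV := fun m => inferInstanceAs (Decidable (_ ∧ _))

theorem sum_V : ∀ m : M648, fn 0 m + fn 1 m - fn 2 m - fn 8 m = if overV m then (12, 0) else 0 := by
  decide +kernel

theorem card_V : (Finset.univ.filter overV).card = 54 := by decide +kernel
theorem card_rot : (Finset.univ.filter fun m : M648 => rot m).card = 27 := by decide +kernel

theorem rot_one : rot 1 := by decide +kernel
theorem rot_conj : ∀ m, rot m → ∀ g, rot (g * m * g⁻¹) := by decide +kernel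
theorem rot_mul : ∀ a, rot a → ∀ b, rot b → rot (a * b) ∧ a * b = b * a := by decide +kernel
theorem rot_inv : ∀ a, rot a → rot a⁻¹ ∧ a * a * a = 1 := by decide +kernel

/-- Representatives of the quotient. -/
def reps24 : List M648 :=
  [mkM 1 1, mkM (1, .sr 0, .sr 0) 1, mkM (.sr 0, 1, .sr 0) 1, mkM (.sr 0, .sr 0, 1) 1].flatMap fun v =>
    [mkM 1 1, mkM 1 (.r 1), mkM 1 (.r 2), mkM (1, 1, .sr 0) (.sr 0), mkM (1, 1, .sr 0) (.sr 1),
      mkM (1, 1, .sr 0) (.sr 2)].map (v * ·)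

theorem core_step : ∀ m : M648, ¬ rot m → m ^ 81 = 1 →
    ∃ g ∈ reps24, (m * g * m⁻¹ * g⁻¹) ^ 81 ≠ 1 := by decide +kernel

theorem to_four : ∀ h : M648, ¬ rot h →
    ∃ g ∈ reps24, pp (h * g * h⁻¹ * g⁻¹) = 1 ∧ ¬ rot (h * g * h⁻¹ * g⁻¹) := by decide +kernel

theorem four_conj : ∀ u : M648, pp u = 1 → ¬ rot u →
    ∃ w ∈ reps24, rot (u * (w * f1 * w⁻¹)⁻¹) := by decide +kernel

/-- The number of elements commuting with a given one. -/
def centCard (a : M648) : ℕ := (Finset.univ.filter fun g : M648 => g * a = a * g).card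

def jA : M648 := mkM (.r 1, 1, 1) 1
def jB : M648 := mkM (.r 1, .r 1, 1) 1
def jC : M648 := mkM (.r 1, .r 1, .r 1) 1

theorem rot_orbit : ∀ a : M648, rot a → a ≠ 1 →
    ∃ k : M648, k * a * k⁻¹ = jA ∨ k * a * k⁻¹ = jB ∨ k * a * k⁻¹ = jC := by decide +kernel

theorem centCards : centCard jA = 108 ∧ centCard jB = 54 ∧ centCard jC = 81 := by decide +kernel

end Cfsg.Agent.Solv.Special.W648
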