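import Cfsg.Agent.Lib.Solv.Generation
import Cfsg.Agent.Lib.Char.Induction
import Mathlib.GroupTheory.Transfer

/-!
A normal subgroup meeting the special subgroup in an abelian group of order 27.
-/

set_option autoImplicit false

namespace Cfsg.Agent.Solv.Special

universe u

variable {G : Type u} [Group G] [Finite G]

theorem eq_of_centralisers (T D : Subgroup G) [D.Normal] (hTD : T ≤ D) (hcard : Nat.card T = 27)
    (hcomm : ∀ a ∈ T, ∀ b ∈ T, a * b = b * a) (hcube : ∀ a ∈ T, a * a * a = 1)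
    (hnorm' : ∀ g ∈ D, g ∈ Subgroup.normalizer (T : Set G) → g ∈ T)
    (hcent : ∀ t ∈ T, t ≠ 1 → ∀ g ∈ D, g * t = t * g → g ∈ T) : T = D := by
  classical
  haveI : Fact (Nat.Prime 3) := ⟨Nat.prime_three⟩
  set T' : Subgroup D := T.subgroupOf D with hT'
  have hT'c : Nat.card T' = 27 := by
    rw [Nat.card_congr (Subgroup.subgroupOfEquivOfLe hTD).toEquiv, hcard]
  have hnorm : Subgroup.normalizer (T' : Set D) ≤ T' := by
    intro g hg
    have hgN : (g : G) ∈ Subgroup.normalizer (T : Set G) := by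
      refine Subgroup.mem_normalizer_fintype fun n hn => ?_
      exact (Subgroup.mem_normalizer_iff.1 hg ⟨n, hTD hn⟩).1 hn
    exact hnorm' g g.2 hgN
  have h81 : ¬ 3 ^ 4 ∣ Nat.card D := fun hdvd => by
    have := Nat.le_of_dvd Nat.card_pos
      ((Sylow.prime_pow_dvd_card_normalizer (n := 3) hdvd (H := T') (by rw [hT'c]; norm_num)).trans
        (Subgroup.card_dvd_of_le hnorm))
    rw [hT'c] at this
    norm_num at this
  have hTp : IsPGroup 3 T' := IsPGroup.of_card (n := 3) (by rw [hT'c]; norm_num)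
  have hidx : ¬ 3 ∣ T'.index := fun hdvd => h81 (by
    rw [← T'.card_mul_index, hT'c, show (3 : ℕ) ^ 4 = 27 * 3 by norm_num]
    exact mul_dvd_mul_left 27 hdvd)
  set P : Sylow 3 D := hTp.toSylow hidx with hP
  have hPe : (P : Subgroup D) = T' := IsPGroup.toSylow_coe ..
  have hPC : Subgroup.normalizer (P : Set D) ≤ Subgroup.centralizer (P : Set D) := by
    show Subgroup.normalizer ((P : Subgroup D) : Set D) ≤ Subgroup.centralizer ((P : Subgroup D) : Set D)
    rw [hPe]
    intro g hg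
    rw [Subgroup.mem_centralizer_iff]
    exact fun n hn => Subtype.ext (hcomm _ hn _ (hnorm hg))
  obtain ⟨K0, hK0n, hK0co, hcompl⟩ : ∃ K0 : Subgroup D, K0.Normal ∧ ¬ 3 ∣ Nat.card K0 ∧
      Subgroup.IsComplement' K0 T' := by
    refine ⟨(MonoidHom.transferSylow P hPC).ker, MonoidHom.normal_ker _,
      MonoidHom.not_dvd_card_ker_transferSylow P hPC, ?_⟩
    rw [← hPe]
    exact MonoidHom.ker_transferSylow_isComplement' P hPC
  set K : Subgroup G := K0.map D.subtype with hK
  have hKco : (Nat.card T).Coprime (Nat.card K) := by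
    rw [hcard, hK, Nat.card_congr (K0.equivMapOfInjective _ D.subtype_injective).symm.toEquiv,
      show (27 : ℕ) = 3 ^ 3 by norm_num, Nat.coprime_pow_left_iff (by norm_num),
      Nat.prime_three.coprime_iff_not_dvd]
    exact hK0co
  have hTK : T ≤ Subgroup.normalizer (K : Set G) := by
    intro g hg
    refine Subgroup.mem_normalizer_fintype fun n hn => ?_
    obtain ⟨m, hm, rfl⟩ := hn
    exact ⟨⟨g, hTD hg⟩ * m * ⟨g, hTD hg⟩⁻¹,
      hK0n.conj_mem m hm _, by simp⟩
  have hbot : K = ⊥ := by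
    rw [← Cfsg.Agent.Solv.gen_eq T K ⟨⟨fun a b => Subtype.ext (hcomm _ a.2 _ b.2)⟩⟩ hTK hKco,
      iSup_eq_bot]
    intro B
    rw [iSup_eq_bot]
    rintro ⟨hBT, a, ha, hBa⟩
    obtain ⟨b, hb, hb1⟩ : ∃ b ∈ B, b ≠ 1 := by
      refine B.bot_or_exists_ne_one.resolve_left fun hB => ?_
      rw [hB, bot_sup_eq] at hBa
      have h27 := hcard
      rw [← hBa, Nat.card_zpowers] at h27
      have : orderOf a ≤ 3 := orderOf_le_of_pow_eq_one (by norm_num)
        (by rw [pow_succ, pow_two]; exact hcube a ha)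
      omega
    rw [eq_bot_iff]
    rintro g ⟨⟨m, hm, rfl⟩, hgC⟩
    have hmT : m ∈ T' := hcent b (hBT hb) hb1 m m.2 (Subgroup.mem_centralizer_iff.1 hgC b hb).symm
    rw [Subgroup.mem_bot]
    exact congrArg Subtype.val (Subgroup.disjoint_def.1 hcompl.disjoint hm hmT)
  have hK0b : K0 = ⊥ := by
    refine (K0.eq_bot_iff_forall).2 fun m hm => ?_
    have : (m : G) ∈ K := ⟨m, hm, rfl⟩
    rw [hbot, Subgroup.mem_bot] at this
    exact Subtype.ext this
  have hPtop : T' = ⊤ := by
    rw [hK0b] at hcompl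
    exact Subgroup.isComplement'_bot_left.1 hcompl
  have hTeq : T = D := le_antisymm hTD fun g hg => by
    have : (⟨g, hg⟩ : D) ∈ T' := hPtop ▸ Subgroup.mem_top _
    exact this
  exact hTeq

end Cfsg.Agent.Solv.Special
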