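import Cfsg.Agent.Lib.Solv.Special.Model648

/-!
The nine functions on `3³ : S₄` living on the elements with a power in the normal subgroup.
-/

set_option autoImplicit false
set_option maxRecDepth 100000

namespace Cfsg.Agent.Solv.Special.W648

open Cfsg Cfsg.Agent.Char Cfsg.Agent.Solv.Special

/-- Pairs standing for `g + h√3`. -/
abbrev V2 := ℤ × ℤ

/-- The value of a pair. -/
noncomputable def toR : V2 →+ ℂ where
  toFun v := (v.1 : ℂ) + (v.2 : ℂ) * (Real.sqrt 3 : ℂ)
  map_zero' := by simp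
  map_add' x y := by simp only [Prod.fst_add, Prod.snd_add, Int.cast_add]; ring

theorem toR_apply (v : V2) : toR v = (v.1 : ℂ) + (v.2 : ℂ) * (Real.sqrt 3 : ℂ) := rfl

theorem conj_toR (v : V2) : (starRingEnd ℂ) (toR v) = toR v := by
  simp [toR_apply, Complex.conj_ofReal]

def h3 : D3 → ℤ
  | .r i => if i = 0 then 0 else if i = 1 then -1 else 1
  | .sr _ => 0

def fixSum (F : Fin 3 → V2) (m : M648) : V2 :=
  (if pl (pp m) 0 = 0 then F 0 else 0) + (if pl (pp m) 1 = 1 then F 1 else 0) +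
    (if pl (pp m) 2 = 2 then F 2 else 0)

def muVal (w : ℤ) (m : M648) : V2 :=
  fixSum (fun k => if isRot (tt k m) = true then
    (if pp m = 1 then (chi (tt k m) * sgn (tt (k + 1) m), 0)
      else if isRot (pp m) = true then 0 else (0, w * h3 (tt k m) * sgn (tt (k + 1) m)))
    else 0) m

def rhoVal (a : ZMod 3) (m : M648) : V2 :=
  if pp m = 1 then (chi (tt 0 m) * chi (tt 1 m) * chi (tt 2 m), 0)
  else if isRot (pp m) = true then
    let k := pl (pp m) (pl (pp m) 0)
    (chi (.r (idx (co 0 ((m : W) * (m : W) * (m : W)).t) +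
      if sgn (tt k m) = 1 then a * idx (pp m) else -(a * idx (pp m)))), 0)
  else 0

def delVal (w : ℤ) (m : M648) : V2 :=
  if pp m = 1 then (chi (tt 1 m) * chi (tt 2 m) + chi (tt 2 m) * chi (tt 0 m) +
    chi (tt 0 m) * chi (tt 1 m), 0)
  else if isRot (pp m) = true then 0
  else fixSum (fun k => if sgn (tt k m) = 1 then 0 else
    (w * chi (co (k + 1) ((m : W) * (m : W)).t), 0)) m

/-- The values of the monomial characters. -/
def mv : Fin 11 → M648 → V2
  | 0 => fun m => fixSum (fun k => (chi (tt k m), 0)) m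
  | 1 => fun m => ((sgn (pp m)) * (fixSum (fun k => (chi (tt k m), 0)) m).1, 0)
  | 2 => muVal 1
  | 3 => muVal (-1)
  | 4 => rhoVal 0
  | 5 => rhoVal 1
  | 6 => rhoVal 2
  | 7 => delVal 1
  | 8 => delVal (-1)
  | 9 => fixSum (fun _ => (1, 0))
  | _ => fun m => fixSum (fun k => (sgn (tt k m), 0)) m

theorem mono_eq : ∀ i, ∀ m, mono i m = Z12.real3 (mv i m) := by decide +kernel

/-- Generalized characters among these functions. -/
def GC2 (f : M648 → V2) : Prop := IsGeneralizedCharacter M648 fun m => toR (f m)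

theorem gc_mv (i : Fin 11) : GC2 (mv i) := by
  refine ⟨_, _, isCharacter_monos i, isCharacter_zero, ?_⟩
  funext m
  rw [Pi.sub_apply, Pi.zero_apply, sub_zero, mono_eq, Z12.toC_real3, toR_apply]

theorem GC2.sub {f g : M648 → V2} (hf : GC2 f) (hg : GC2 g) : GC2 fun m => f m - g m := by
  obtain ⟨a, b, ha, hb, e⟩ := hf
  obtain ⟨c, d, hc, hd, e'⟩ := hg
  refine ⟨a + d, b + c, isCharacter_add ha hd, isCharacter_add hb hc, ?_⟩
  funext m
  have h1 : toR (f m) = a m - b m := congrFun e m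
  have h2 : toR (g m) = c m - d m := congrFun e' m
  rw [map_sub, h1, h2]
  simp only [Pi.sub_apply, Pi.add_apply]
  ring

/-- Linear characters. -/
def eps (m : M648) : V2 := (sgn (pp m), 0)
def one2 (_ : M648) : V2 := (1, 0)
def qq (m : M648) : V2 := mv 9 m - one2 m
def vv (m : M648) : V2 := (sgn (pp m) * (mv 10 m).1, 0)

theorem gc_one2 : GC2 one2 :=
  ⟨_, _, isCharacter_one, isCharacter_zero, by funext m; simp [one2, toR_apply]⟩

theorem gc_eps : GC2 eps := by
  refine ⟨_, _, isCharacter_linear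
    (((Int.castRingHom ℂ).toMonoidHom.comp (sgn.comp
      { toFun := pp, map_one' := rfl, map_mul' := fun _ _ => rfl })).toHomUnits),
    isCharacter_zero, ?_⟩
  funext m
  simp [eps, toR_apply]
  rfl

theorem gc_qq : GC2 qq := (gc_mv 9).sub gc_one2

theorem gc_vv : GC2 vv := by
  obtain ⟨a, b, ha, hb, e⟩ := gc_mv 10
  obtain ⟨c, d, hc, hd, e'⟩ := gc_eps
  refine ⟨a * c + b * d, a * d + b * c, isCharacter_add (isCharacter_mul ha hc) (isCharacter_mul hb hd),
    isCharacter_add (isCharacter_mul ha hd) (isCharacter_mul hb hc), ?_⟩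
  funext m
  have h1 : toR (mv 10 m) = a m - b m := congrFun e m
  have h2 : toR (eps m) = c m - d m := congrFun e' m
  have h0 : (mv 10 m).2 = 0 := (show ∀ m, (mv 10 m).2 = 0 by decide +kernel) m
  have h3 : toR (vv m) = toR (mv 10 m) * toR (eps m) := by
    simp [toR_apply, vv, eps, h0]; ring
  rw [h3, h1, h2]
  simp only [Pi.sub_apply, Pi.add_apply, Pi.mul_apply]
  ring

/-- The functions, in the order of the search. -/
def fn : Fin 9 → M648 → V2
  | 0 => fun m => mv 2 m - vv m - mv 10 m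
  | 1 => fun m => mv 3 m - vv m - mv 10 m
  | 2 => fun m => mv 0 m - one2 m - qq m - mv 10 m
  | 3 => fun m => mv 5 m - qq m - vv m - mv 10 m
  | 4 => fun m => mv 6 m - qq m - vv m - mv 10 m
  | 5 => fun m => mv 4 m - one2 m - eps m - vv m - mv 10 m
  | 6 => fun m => mv 8 m - eps m - qq m - vv m - mv 10 m - mv 10 m
  | 7 => fun m => mv 7 m - one2 m - qq m - vv m - vv m - mv 10 m
  | _ => fun m => mv 1 m - eps m - qq m - vv m

theorem gc_fn : ∀ r, GC2 (fn r)
  | 0 => ((gc_mv 2).sub gc_vv).sub (gc_mv 10)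
  | 1 => ((gc_mv 3).sub gc_vv).sub (gc_mv 10)
  | 2 => (((gc_mv 0).sub gc_one2).sub gc_qq).sub (gc_mv 10)
  | 3 => (((gc_mv 5).sub gc_qq).sub gc_vv).sub (gc_mv 10)
  | 4 => (((gc_mv 6).sub gc_qq).sub gc_vv).sub (gc_mv 10)
  | 5 => ((((gc_mv 4).sub gc_one2).sub gc_eps).sub gc_vv).sub (gc_mv 10)
  | 6 => (((((gc_mv 8).sub gc_eps).sub gc_qq).sub gc_vv).sub (gc_mv 10)).sub (gc_mv 10)
  | 7 => (((((gc_mv 7).sub gc_one2).sub gc_qq).sub gc_vv).sub gc_vv).sub (gc_mv 10)
  | 8 => (((gc_mv 1).sub gc_eps).sub gc_qq).sub gc_vv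

end Cfsg.Agent.Solv.Special.W648
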