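import Mathlib

/-!
A checked search for the integer vectors with prescribed inner products.
-/

set_option autoImplicit false

namespace Cfsg.Agent.Solv.Special.Gram

/-- Sum of squares. -/
def sqs (x : List ℤ) : ℤ := (x.map fun a => a * a).sum

/-- The pairing of a list of coefficients with a list of columns, in one row. -/
def dotAt (r : ℕ) : List (List ℤ) → List ℤ → ℤ
  | c :: cs, a :: x => c.getD r 0 * a + dotAt r cs x
  | _, _ => 0

/-- The square norm of one row. -/
def rowSq (r : ℕ) (cs : List (List ℤ)) : ℤ := (cs.map fun c => c.getD r 0 * c.getD r 0).sum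

theorem rowSq_nonneg (r : ℕ) (cs : List (List ℤ)) : 0 ≤ rowSq r cs :=
  List.sum_nonneg fun a ha => by
    obtain ⟨c, -, rfl⟩ := List.mem_map.1 ha
    exact mul_self_nonneg _

theorem sqs_nonneg (x : List ℤ) : 0 ≤ sqs x :=
  List.sum_nonneg fun a ha => by
    obtain ⟨c, -, rfl⟩ := List.mem_map.1 ha
    exact mul_self_nonneg _

theorem cauchy (r : ℕ) : ∀ (cs : List (List ℤ)) (x : List ℤ),
    dotAt r cs x * dotAt r cs x ≤ rowSq r cs * sqs x
  | [], x => by simp [dotAt, rowSq]
  | c :: cs, [] => by simp [dotAt, sqs]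
  | c :: cs, a :: x => by
    have ih := cauchy r cs x
    have h1 := rowSq_nonneg r cs
    have h2 := sqs_nonneg x
    simp only [dotAt, rowSq, sqs, List.map_cons, List.sum_cons] at *
    set e := c.getD r 0
    set D := dotAt r cs x
    set A := (cs.map fun c => c.getD r 0 * c.getD r 0).sum
    set B := (x.map fun a => a * a).sum
    have hsq : (2 * (e * a * D)) ^ 2 ≤ (e * e * B + A * (a * a)) ^ 2 := by
      nlinarith [sq_nonneg (e * e * B - A * (a * a)), mul_le_mul_of_nonneg_left ih (sq_nonneg (e * a))]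
    have := abs_le_of_sq_le_sq' hsq
      (add_nonneg (mul_nonneg (mul_self_nonneg e) h2) (mul_nonneg h1 (mul_self_nonneg a)))
    nlinarith [this.2]

/-- Coefficient lists with the given pairings and bounded norm. -/
def cands (k : ℕ) : List (List ℤ) → List ℤ → ℤ → List (List ℤ)
  | [], need, left =>
    if (List.range k).all (fun r => need.getD r 0 == 0) && decide (0 ≤ left) then [[]] else []
  | c :: cs, need, left =>
    if (List.range k).all (fun r =>
        decide (need.getD r 0 * need.getD r 0 ≤ rowSq r (c :: cs) * left)) then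
      [0, 1, -1, 2, -2, 3, -3].flatMap fun a : ℤ =>
        if a * a ≤ left then
          (cands k cs ((List.range k).map fun r => need.getD r 0 - c.getD r 0 * a)
            (left - a * a)).map (a :: ·)
        else []
    else []

theorem getD_map_range (k : ℕ) (g : ℕ → ℤ) {r : ℕ} (hr : r < k) :
    ((List.range k).map g).getD r 0 = g r := by
  simp [List.getD, List.getElem?_map, List.getElem?_range hr]

theorem mem_cands (k : ℕ) : ∀ (cs : List (List ℤ)) (x need : List ℤ) (left : ℤ),
    x.length = cs.length → sqs x ≤ left → left < 16 →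
    (∀ r < k, need.getD r 0 = dotAt r cs x) → x ∈ cands k cs need left
  | [], x, need, left, hl, hs, h16, hn => by
    obtain rfl := List.length_eq_zero_iff.1 hl
    have h0 : (List.range k).all (fun r => need.getD r 0 == 0) = true :=
      List.all_eq_true.2 fun r hr => beq_iff_eq.2 ((hn r (List.mem_range.1 hr)).trans rfl)
    simp only [sqs, List.map_nil, List.sum_nil] at hs
    rw [cands, if_pos (by rw [h0]; simpa using hs)]
    exact List.mem_singleton.2 rfl
  | c :: cs, [], need, left, hl, _, _, _ => by simp at hl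
  | c :: cs, a :: x, need, left, hl, hs, h16, hn => by
    have hf : (List.range k).all (fun r =>
        decide (need.getD r 0 * need.getD r 0 ≤ rowSq r (c :: cs) * left)) = true :=
      List.all_eq_true.2 fun r hr => decide_eq_true (by
        rw [hn r (List.mem_range.1 hr)]
        exact (cauchy r _ _).trans (mul_le_mul_of_nonneg_left hs (rowSq_nonneg _ _)))
    have h2 := sqs_nonneg x
    simp only [sqs, List.map_cons, List.sum_cons] at hs h2
    have ha : a * a ≤ left := by linarith
    have hbox : a ∈ [0, 1, -1, 2, -2, 3, -3] := by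
      have : -3 ≤ a ∧ a ≤ 3 := by constructor <;> nlinarith
      simp only [List.mem_cons, List.not_mem_nil, or_false]
      omega
    rw [cands, if_pos hf, List.mem_flatMap]
    refine ⟨a, hbox, ?_⟩
    rw [if_pos ha]
    refine List.mem_map_of_mem (mem_cands k cs x _ _ (by simpa using hl) (by simp only [sqs]; linarith)
      (by nlinarith) fun r hr => ?_)
    rw [getD_map_range k _ hr, hn r hr, dotAt]
    ring

/-- Lists of positive integers with a given sum of squares. -/
def comps : ℕ → ℤ → List (List ℤ)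
  | 0, left => if left = 0 then [[]] else []
  | f + 1, left => if left = 0 then [[]] else
      [1, 2, 3].flatMap fun a : ℤ => if a * a ≤ left then (comps f (left - a * a)).map (a :: ·) else []

theorem mem_comps : ∀ (f : ℕ) (left : ℤ) (p : List ℤ),
    (∀ a ∈ p, 0 < a) → sqs p = left → left ≤ f → left < 16 → p ∈ comps f left
  | f, left, [], _, hs, _, _ => by
    have : left = 0 := by simpa [sqs] using hs.symm
    cases f <;> simp [comps, this]
  | 0, left, a :: p, hp, hs, hf, _ => by
    have := hp a (by simp)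
    have := sqs_nonneg p
    simp only [sqs, List.map_cons, List.sum_cons, Nat.cast_zero] at *
    nlinarith
  | f + 1, left, a :: p, hp, hs, hf, h16 => by
    have h1 := hp a (by simp)
    have h2 := sqs_nonneg p
    simp only [sqs, List.map_cons, List.sum_cons] at hs h2
    have hbox : a ∈ [1, 2, 3] := by
      have : a ≤ 3 := by nlinarith
      simp only [List.mem_cons, List.not_mem_nil, or_false]
      omega
    rw [comps, if_neg (by nlinarith), List.mem_flatMap]
    refine ⟨a, hbox, ?_⟩
    rw [if_pos (by linarith)]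
    exact List.mem_map_of_mem (mem_comps f _ p (fun b hb => hp b (by simp [hb]))
      (by simp only [sqs]; linarith) (by push_cast at hf; nlinarith) (by nlinarith))

/-- The pairing of coefficients with a column. -/
def comb (k : ℕ) (lam c : List ℤ) : ℤ :=
  ((List.range k).map fun r => lam.getD r 0 * c.getD r 0).sum

/-- A linear relation that forces a degree to vanish. -/
def bad (k : ℕ) (kap : List ℤ) (certs : List (List ℤ)) (cols : List (List ℤ)) : Bool :=
  certs.any fun lam => comb k lam kap == 0 && ((cols.map (comb k lam)).countP (· != 0) == 1)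

/-- The columns after one more row. -/
def nxt (k : ℕ) (cols : List (List ℤ)) (x p : List ℤ) : List (List ℤ) :=
  List.zipWith (fun c a => c ++ [a]) cols x ++ p.map fun a => List.replicate k 0 ++ [a]

/-- Every continuation of a state is listed or is contradictory. -/
def check (k : ℕ) (need : List ℤ) (n : ℤ) (kap : List ℤ) (certs : List (List ℤ))
    (S T : List (List (List ℤ))) : Bool :=
  decide (n < 16) && S.all fun cols => (cands k cols need n).all fun x =>
    (comps 16 (n - sqs x)).all fun p =>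
      bad (k + 1) kap certs (nxt k cols x p) || T.any fun t => (nxt k cols x p).isPerm t

variable {ι : Type*} [Fintype ι]

/-- The column at a signed index. -/
def colOf (z : ℕ → ι → ℤ) (k : ℕ) (p : ι × ℤ) : List ℤ :=
  (List.range k).map fun r => p.2 * z r p.1

/-- The first `k` vectors have these columns, up to signs. -/
def Real (k : ℕ) (z : ℕ → ι → ℤ) (cols : List (List ℤ)) : Prop :=
  ∃ P : List (ι × ℤ), (P.map Prod.fst).Nodup ∧ (∀ p ∈ P, p.2 * p.2 = 1) ∧
    cols = P.map (colOf z k) ∧ ∀ r < k, ∀ i, i ∉ P.map Prod.fst → z r i = 0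

theorem sum_list {R : Type*} [CommRing R] {P : List (ι × ℤ)} (hnd : (P.map Prod.fst).Nodup)
    (hs : ∀ p ∈ P, p.2 * p.2 = 1) (v : ι → ℤ) (hv : ∀ i, i ∉ P.map Prod.fst → v i = 0) (F : ι → R) :
    ∑ i, (v i : R) * F i =
      (P.map fun p => ((p.2 * v p.1 : ℤ) : R) * ((p.2 : R) * F p.1)).sum := by
  classical
  rw [← Finset.sum_subset (Finset.subset_univ (P.map Prod.fst).toFinset) fun i _ hi => by
    rw [hv i (fun h => hi (List.mem_toFinset.2 h)), Int.cast_zero, zero_mul],
    List.sum_toFinset _ hnd, List.map_map]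
  refine congrArg List.sum (List.map_congr_left fun p hp => ?_)
  rw [Function.comp, ← mul_assoc, ← Int.cast_mul,
    show p.2 * v p.1 * p.2 = v p.1 * (p.2 * p.2) by ring, hs p hp, mul_one]

theorem exists_perm_map {α β : Type*} (f : α → β) {l₁ l₂ : List β} (h : l₁.Perm l₂) :
    ∀ P : List α, l₁ = P.map f → ∃ P' : List α, l₂ = P'.map f ∧ P.Perm P' := by
  induction h with
  | nil => exact fun P hP => ⟨P, hP, .refl _⟩
  | cons x _ ih =>
    intro P hP
    obtain ⟨a, P₀, rfl, rfl, h0⟩ := List.map_eq_cons_iff.1 hP.symm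
    obtain ⟨P₁, h1, h2⟩ := ih P₀ h0.symm
    exact ⟨a :: P₁, by rw [h1, List.map_cons], h2.cons a⟩
  | swap x y l =>
    intro P hP
    obtain ⟨a, P₀, rfl, rfl, h0⟩ := List.map_eq_cons_iff.1 hP.symm
    obtain ⟨b, P₁, rfl, rfl, h1⟩ := List.map_eq_cons_iff.1 h0
    exact ⟨b :: a :: P₁, by simp [h1], .swap b a P₁⟩
  | trans _ _ ih₁ ih₂ =>
    intro P hP
    obtain ⟨P₁, h1, h2⟩ := ih₁ P hP
    obtain ⟨P₂, h3, h4⟩ := ih₂ P₁ h1
    exact ⟨P₂, h3, h2.trans h4⟩

theorem real_perm {k : ℕ} {z : ℕ → ι → ℤ} {c t : List (List ℤ)} (h : Real k z c) (hp : c.Perm t) :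
    Real k z t := by
  obtain ⟨P, hnd, hs, hc, h0⟩ := h
  obtain ⟨P', ht, hPP⟩ := exists_perm_map _ hp P hc
  exact ⟨P', (hPP.map _).nodup_iff.1 hnd, fun p hp' => hs p (hPP.mem_iff.2 hp'), ht,
    fun r hr i hi => h0 r hr i fun h' => hi ((hPP.map _).mem_iff.1 h')⟩

theorem sum_filter_single {α : Type*} {R : Type*} [CommRing R] (g : α → ℤ) (F : α → R) :
    ∀ P : List α, (P.map g).countP (· != 0) ≤ 1 →
      ((P.map g).countP (· != 0) = 0 → (P.map fun p => (g p : R) * F p).sum = 0) ∧
      ((P.map g).countP (· != 0) = 1 →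
        ∃ p ∈ P, g p ≠ 0 ∧ (P.map fun p => (g p : R) * F p).sum = (g p : R) * F p)
  | [], _ => by simp
  | a :: P, h => by
    simp only [List.map_cons, List.sum_cons, List.countP_cons] at *
    by_cases ha : g a = 0
    · simp only [ha, bne_self_eq_false, Bool.false_eq_true, if_false, add_zero] at h ⊢
      obtain ⟨i0, i1⟩ := sum_filter_single g F P h
      refine ⟨fun e => by simp [i0 e], fun e => ?_⟩
      obtain ⟨p, hp, hne, hs⟩ := i1 e
      exact ⟨p, List.mem_cons_of_mem a hp, hne, by simp [hs]⟩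
    · simp only [bne_iff_ne, ne_eq, ha, not_false_eq_true, if_true] at h ⊢
      refine ⟨fun e => by omega, fun e => ⟨a, List.mem_cons_self, ha, ?_⟩⟩
      rw [(sum_filter_single g F P (by omega)).1 (by omega), add_zero]

theorem colOf_getD (z : ℕ → ι → ℤ) {k r : ℕ} (hr : r < k) (p : ι × ℤ) :
    (colOf z k p).getD r 0 = p.2 * z r p.1 := getD_map_range k _ hr

theorem dotAt_map (r : ℕ) (f : (ι × ℤ) → List ℤ) (g : (ι × ℤ) → ℤ) : ∀ P : List (ι × ℤ),
    dotAt r (P.map f) (P.map g) = (P.map fun p => (f p).getD r 0 * g p).sum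
  | [] => rfl
  | a :: P => by simp [dotAt, dotAt_map r f g P]

theorem list_sum_comm {α β : Type*} (s : Finset β) (g : α → β → ℂ) : ∀ P : List α,
    (P.map fun p => ∑ r ∈ s, g p r).sum = ∑ r ∈ s, (P.map fun p => g p r).sum
  | [] => by simp
  | a :: P => by simp [list_sum_comm s g P, Finset.sum_add_distrib]

theorem not_bad {k : ℕ} {z : ℕ → ι → ℤ} {cols : List (List ℤ)} (h : Real k z cols) {kap : List ℤ}
    (certs : List (List ℤ)) {d : ι → ℂ} (hd : ∀ i, d i ≠ 0)
    (hk : ∀ r < k, ∑ i, (z r i : ℂ) * d i = (kap.getD r 0 : ℂ)) : bad k kap certs cols = false := by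
  obtain ⟨P, hnd, hs, rfl, h0⟩ := h
  refine Bool.eq_false_iff.2 fun hb => ?_
  obtain ⟨lam, -, hlam⟩ := List.any_eq_true.1 hb
  simp only [Bool.and_eq_true, beq_iff_eq, List.map_map] at hlam
  obtain ⟨hκ, hcount⟩ := hlam
  obtain ⟨p, hp, hne, hsum⟩ :=
    (sum_filter_single (comb k lam ∘ colOf z k) (fun p => (p.2 : ℂ) * d p.1) P hcount.le).2 hcount
  have key : (P.map fun p => ((comb k lam ∘ colOf z k) p : ℂ) * ((p.2 : ℂ) * d p.1)).sum = 0 := by
    have e : ∀ p : ι × ℤ, ((comb k lam ∘ colOf z k) p : ℂ) =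
        ∑ r ∈ Finset.range k, (lam.getD r 0 : ℂ) * ((p.2 * z r p.1 : ℤ) : ℂ) := fun p => by
      simp only [Function.comp, comb]
      rw [← List.toFinset_range, List.sum_toFinset _ List.nodup_range]
      push_cast [List.map_map]
      refine congrArg List.sum (List.map_congr_left fun r hr => ?_)
      rw [Function.comp, Int.cast_mul, colOf_getD z (List.mem_range.1 hr)]
      push_cast; ring
    simp only [e, Finset.sum_mul]
    rw [list_sum_comm]
    have : ∀ r ∈ Finset.range k,
        (P.map fun p => (lam.getD r 0 : ℂ) * ((p.2 * z r p.1 : ℤ) : ℂ) * ((p.2 : ℂ) * d p.1)).sum =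
          ((lam.getD r 0 * kap.getD r 0 : ℤ) : ℂ) := fun r hr => by
      simp only [mul_assoc]
      rw [List.sum_map_mul_left, ← sum_list hnd hs (z r) (h0 r (Finset.mem_range.1 hr)) d,
        hk r (Finset.mem_range.1 hr), Int.cast_mul]
    rw [Finset.sum_congr rfl this, ← Int.cast_sum, ← List.toFinset_range,
      List.sum_toFinset _ List.nodup_range]
    exact_mod_cast hκ
  rw [hsum] at key
  have hp2 : (p.2 : ℂ) ≠ 0 := Int.cast_ne_zero.2 fun z => by have := hs p hp; simp [z] at this
  exact mul_ne_zero (Int.cast_ne_zero.2 hne) (mul_ne_zero hp2 (hd _)) key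

/-- One step of the search. -/
theorem step {k : ℕ} {z : ℕ → ι → ℤ} {need kap : List ℤ} {n : ℤ} {certs : List (List ℤ)}
    {S T : List (List (List ℤ))} (h : check k need n kap certs S T = true)
    (hS : ∃ c ∈ S, Real k z c) (hn : ∑ i, z k i * z k i = n)
    (hi : ∀ r < k, ∑ i, z r i * z k i = need.getD r 0) {d : ι → ℂ} (hd : ∀ i, d i ≠ 0)
    (hk : ∀ r < k + 1, ∑ i, (z r i : ℂ) * d i = (kap.getD r 0 : ℂ)) :
    ∃ c ∈ T, Real (k + 1) z c := by
  classical
  obtain ⟨cols, hcS, P, hnd, hs, hcols, h0⟩ := hS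
  simp only [check, Bool.and_eq_true, decide_eq_true_eq, List.all_eq_true] at h
  obtain ⟨h16, hall⟩ := h
  set Tn : Finset ι := Finset.univ.filter fun i => i ∉ P.map Prod.fst ∧ z k i ≠ 0 with hTn
  set Q : List (ι × ℤ) := Tn.toList.map fun i => (i, if 0 < z k i then 1 else -1) with hQ
  have hQf : Q.map Prod.fst = Tn.toList := by
    rw [hQ, List.map_map]; exact List.map_id _
  have hQmem : ∀ q ∈ Q, q.1 ∉ P.map Prod.fst ∧ q.2 * q.2 = 1 ∧ 0 < q.2 * z k q.1 := by
    intro q hq
    obtain ⟨i, hiT, rfl⟩ := List.mem_map.1 hq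
    obtain ⟨h1, h2⟩ := (Finset.mem_filter.1 (Finset.mem_toList.1 hiT)).2
    refine ⟨h1, ?_⟩
    dsimp only
    split_ifs with hpos
    · exact ⟨rfl, by rwa [one_mul]⟩
    · exact ⟨rfl, by omega⟩
  have hnd' : ((P ++ Q).map Prod.fst).Nodup := by
    rw [List.map_append, hQf]
    exact List.nodup_append.2 ⟨hnd, Finset.nodup_toList _, fun a ha b hb e =>
      (Finset.mem_filter.1 (Finset.mem_toList.1 hb)).2.1 (e ▸ ha)⟩
  have hs' : ∀ p ∈ P ++ Q, p.2 * p.2 = 1 := fun p hp =>
    (List.mem_append.1 hp).elim (hs p) fun hq => (hQmem p hq).2.1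
  have hk0 : ∀ i, i ∉ (P ++ Q).map Prod.fst → z k i = 0 := fun i hi' => by
    rw [List.map_append, hQf, List.mem_append, not_or] at hi'
    by_contra hne
    exact hi'.2 (Finset.mem_toList.2 (Finset.mem_filter.2 ⟨Finset.mem_univ _, hi'.1, hne⟩))
  set x : List ℤ := P.map fun q => q.2 * z k q.1 with hx
  set p : List ℤ := Q.map fun q => q.2 * z k q.1 with hp
  have hsum : sqs x + sqs p = n := by
    rw [← hn]
    have := sum_list (R := ℤ) hnd' hs' (z k) hk0 (z k)
    simp only [Int.cast_id, List.map_append, List.sum_append] at this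
    rw [this, sqs, sqs, hx, hp, List.map_map, List.map_map]
    rfl
  have hx' : x ∈ cands k cols need n := by
    refine mem_cands k cols x need n (by simp [hx, hcols]) (by linarith [sqs_nonneg p]) h16
      fun r hr => ?_
    rw [← hi r hr, hcols, hx, dotAt_map]
    have := sum_list (R := ℤ) hnd hs (z r) (h0 r hr) (z k)
    simp only [Int.cast_id] at this
    rw [this]
    exact congrArg List.sum (List.map_congr_left fun q _ => by rw [colOf_getD z hr])
  have hp' : p ∈ comps 16 (n - sqs x) := mem_comps 16 _ p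
    (fun a ha => by
      obtain ⟨q, hq, rfl⟩ := List.mem_map.1 ha
      exact (hQmem q hq).2.2)
    (by linarith) (by have := sqs_nonneg x; push_cast; linarith) (by linarith [sqs_nonneg x])
  have hreal : Real (k + 1) z (nxt k cols x p) := by
    refine ⟨P ++ Q, hnd', hs', ?_, fun r hr i hi' => ?_⟩
    · rw [nxt, List.map_append, hcols, hx, hp, List.zipWith_map, List.zipWith_self, List.map_map]
      refine congrArg₂ (· ++ ·) (List.map_congr_left fun q _ => ?_) (List.map_congr_left fun q hq => ?_)
      · simp [colOf, List.range_succ]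
      · simp only [Function.comp, colOf, List.range_succ, List.map_append, List.map_cons, List.map_nil]
        congr 1
        refine (List.eq_replicate_iff.2 ⟨by simp, fun a ha => ?_⟩).symm
        obtain ⟨r, hr, rfl⟩ := List.mem_map.1 ha
        rw [h0 r (List.mem_range.1 hr) _ (hQmem q hq).1, mul_zero]
    · rcases Nat.lt_succ_iff_lt_or_eq.1 hr with hr' | rfl
      · exact h0 r hr' i fun h' => hi' (by rw [List.map_append]; exact List.mem_append_left _ h')
      · exact hk0 i hi'
  rcases Bool.or_eq_true_iff.1 (hall cols hcS x hx' p hp') with hb | ht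
  · rw [not_bad hreal certs hd hk] at hb
    simp at hb
  · obtain ⟨t, ht1, ht2⟩ := List.any_eq_true.1 ht
    exact ⟨t, ht1, real_perm hreal (List.isPerm_iff.1 ht2)⟩

omit [Fintype ι] in
theorem real_zero (z : ℕ → ι → ℤ) : ∃ c ∈ ([[]] : List (List (List ℤ))), Real 0 z c :=
  ⟨[], by simp, [], by simp, by simp, rfl, fun r hr => absurd hr (Nat.not_lt_zero r)⟩

/-- A weighted sum over one row, read from the columns. -/
theorem row_sum {k : ℕ} {z : ℕ → ι → ℤ} {P : List (ι × ℤ)} {cols : List (List ℤ)}
    (hnd : (P.map Prod.fst).Nodup) (hs : ∀ p ∈ P, p.2 * p.2 = 1) (hc : cols = P.map (colOf z k))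
    {r : ℕ} (hr : r < k) (h0 : ∀ i, i ∉ P.map Prod.fst → z r i = 0) (F : ι → ℂ) :
    ∑ i, (z r i : ℂ) * F i =
      (List.zipWith (fun (c : List ℤ) (y : ℂ) => (c.getD r 0 : ℂ) * y) cols
        (P.map fun p => (p.2 : ℂ) * F p.1)).sum := by
  rw [sum_list hnd hs (z r) h0 F, hc, List.zipWith_map, List.zipWith_self]
  exact congrArg List.sum (List.map_congr_left fun p _ => by rw [colOf_getD z hr])

end Cfsg.Agent.Solv.Special.Gram
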