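import Cfsg.Agent.Lib.Char.Linear
import Cfsg.Agent.Lib.Char.KGVDelta
import Mathlib.GroupTheory.SpecificGroups.Dihedral

/-!
The group `3³ : 2²` as the even part of a cube of the symmetric group of degree three.
-/

set_option autoImplicit false

namespace Cfsg.Agent.Solv.Special

open Cfsg Cfsg.Agent.Char

abbrev D3 := DihedralGroup 3

/-- The sign. -/
def sgnFun : D3 → ℤ
  | .r _ => 1
  | .sr _ => -1

def sgn : D3 →* ℤ where
  toFun := sgnFun
  map_one' := by decide
  map_mul' := by decide

/-- The degree two character. -/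
def chi : D3 → ℤ
  | .r i => if i = 0 then 2 else -1
  | .sr _ => 0

/-- Rotations. -/
def isRot : D3 → Bool
  | .r _ => true
  | .sr _ => false

/-- The action on three points. -/
def pi3 : D3 →* Equiv.Perm (ZMod 3) where
  toFun := fun p => match p with
    | .r i => Equiv.addRight i
    | .sr i => Equiv.subLeft (-i)
  map_one' := by decide
  map_mul' := by decide

theorem chi_eq : ∀ p : D3, chi p + 1 = ((Finset.univ.filter fun x => pi3 p x = x).card : ℤ) := by
  decide

abbrev T3 := D3 × D3 × D3

def co (k : Fin 3) : T3 →* D3 :=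
  match k with
  | 0 => MonoidHom.fst D3 (D3 × D3)
  | 1 => (MonoidHom.fst D3 D3).comp (MonoidHom.snd D3 (D3 × D3))
  | 2 => (MonoidHom.snd D3 D3).comp (MonoidHom.snd D3 (D3 × D3))

/-- The even part. -/
def M108 : Subgroup T3 where
  carrier := {t | sgn t.1 * sgn t.2.1 * sgn t.2.2 = 1}
  one_mem' := by decide
  mul_mem' := fun {a b} ha hb => by
    simp only [Set.mem_setOf_eq, Prod.fst_mul, Prod.snd_mul, map_mul] at *
    calc _ = (sgn a.1 * sgn a.2.1 * sgn a.2.2) * (sgn b.1 * sgn b.2.1 * sgn b.2.2) := by ring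
      _ = 1 := by rw [ha, hb, one_mul]
  inv_mem' := fun {a} ha => by
    have : ∀ p : D3, sgn p⁻¹ = sgn p := by decide
    simpa [this] using ha

instance : DecidablePred (· ∈ M108) := fun t =>
  decidable_of_iff (sgn t.1 * sgn t.2.1 * sgn t.2.2 = 1) Iff.rfl

/-- The character `α_k`. -/
def fA (k : Fin 3) (m : M108) : ℤ := chi (co k m) - 1 - sgn (co k m)

/-- The character `β_k`. -/
def fB (k : Fin 3) (m : M108) : ℤ :=
  chi (co k m) * sgn (co (k + 1) m) - sgn (co (k + 1) m) - sgn (co (k + 2) m)

/-- The character `γ`. -/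
def fC (m : M108) : ℤ :=
  chi (co 0 m) * chi (co 1 m) - 1 - sgn (co 0 m) - sgn (co 1 m) - sgn (co 2 m)

/-- The character `δ`. -/
def fD (m : M108) : ℤ := chi (co 0 m) * chi (co 2 m) - chi (co 0 m) * chi (co 1 m)

/-- The normal subgroup of order 27. -/
def rot (m : M108) : Prop := ∀ k, isRot (co k m) = true

instance : DecidablePred rot := fun m => inferInstanceAs (Decidable (∀ k, isRot (co k m) = true))

/-- Generalized characters with integer values. -/
def GC (f : M108 → ℤ) : Prop := IsGeneralizedCharacter M108 fun m => (f m : ℂ)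

theorem GC.mul {f g : M108 → ℤ} (hf : GC f) (hg : GC g) : GC fun m => f m * g m := by
  obtain ⟨a, b, ha, hb, e⟩ := hf
  obtain ⟨c, d, hc, hd, e'⟩ := hg
  refine ⟨a * c + b * d, a * d + b * c, isCharacter_add (isCharacter_mul ha hc) (isCharacter_mul hb hd),
    isCharacter_add (isCharacter_mul ha hd) (isCharacter_mul hb hc), ?_⟩
  funext m
  have h1 : (f m : ℂ) = a m - b m := congrFun e m
  have h2 : (g m : ℂ) = c m - d m := congrFun e' m
  simp only [Int.cast_mul, h1, h2, Pi.sub_apply, Pi.add_apply, Pi.mul_apply]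
  ring

theorem GC.sub {f g : M108 → ℤ} (hf : GC f) (hg : GC g) : GC fun m => f m - g m := by
  obtain ⟨a, b, ha, hb, e⟩ := hf
  obtain ⟨c, d, hc, hd, e'⟩ := hg
  refine ⟨a + d, b + c, isCharacter_add ha hd, isCharacter_add hb hc, ?_⟩
  funext m
  have h1 : (f m : ℂ) = a m - b m := congrFun e m
  have h2 : (g m : ℂ) = c m - d m := congrFun e' m
  simp only [Int.cast_sub, h1, h2, Pi.sub_apply, Pi.add_apply]
  ring

theorem gc_one : GC fun _ => 1 :=
  ⟨_, _, isCharacter_one, isCharacter_zero, by funext m; simp⟩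

theorem gc_sgn (k : Fin 3) : GC fun m => sgn (co k m) :=
  ⟨_, _, isCharacter_linear
    (((Int.castRingHom ℂ).toMonoidHom.comp (sgn.comp ((co k).comp M108.subtype))).toHomUnits),
    isCharacter_zero, by funext m; simp⟩

theorem gc_chi (k : Fin 3) : GC fun m => chi (co k m) := by
  have h : IsCharacter M108 fun m => (((Finset.univ.filter fun x =>
      pi3 (co k m) x = x).card : ℕ) : ℂ) :=
    KGV.isCharacter_card_fixed (pi3.comp ((co k).comp M108.subtype))
  refine ⟨_, _, h, isCharacter_one, ?_⟩
  funext m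
  have := chi_eq (co k m)
  have h2 : (chi (co k m) : ℂ) + 1 =
      (((Finset.univ.filter fun x => pi3 (co k m) x = x).card : ℕ) : ℂ) := by
    exact_mod_cast congrArg (fun z : ℤ => (z : ℂ)) this
  rw [Pi.sub_apply, ← h2]
  ring

theorem gc_A (k : Fin 3) : GC (fA k) := ((gc_chi k).sub gc_one).sub (gc_sgn k)

theorem gc_B (k : Fin 3) : GC (fB k) :=
  (((gc_chi k).mul (gc_sgn (k + 1))).sub (gc_sgn (k + 1))).sub (gc_sgn (k + 2))

theorem gc_C : GC fC :=
  (((((gc_chi 0).mul (gc_chi 1)).sub gc_one).sub (gc_sgn 0)).sub (gc_sgn 1)).sub (gc_sgn 2)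

theorem gc_D : GC fD := ((gc_chi 0).mul (gc_chi 2)).sub ((gc_chi 0).mul (gc_chi 1))

/-! ### Facts checked on the 108 elements -/

set_option maxRecDepth 100000

theorem card_M108 : Fintype.card M108 = 108 := by decide +kernel

/-- The functions live on the elements with a power in the normal subgroup. -/
def Good (f : M108 → ℤ) : Prop :=
  (∀ m, f m ≠ 0 → (rot m ∧ m ≠ 1) ∨ (rot (m * m) ∧ m * m ≠ 1)) ∧ (∀ m, m * m = 1 → f m = 0)

instance (f : M108 → ℤ) : Decidable (Good f) := inferInstanceAs (Decidable (_ ∧ _))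

theorem good_A : ∀ k, Good (fA k) := by decide +kernel
theorem good_B : ∀ k, Good (fB k) := by decide +kernel
theorem good_C : Good fC := by decide +kernel
theorem good_D : Good fD := by decide +kernel

/-- Sums of products. -/
def dot (f g : M108 → ℤ) : ℤ := ∑ m, f m * g m

theorem dot_AA : ∀ k l, dot (fA k) (fA l) = if k = l then 324 else 108 := by decide +kernel
theorem dot_AB : ∀ k l, dot (fA l) (fB k) = if k = l then 0 else 108 := by decide +kernel
theorem dot_AC : ∀ k, dot (fA k) fC = 216 := by decide +kernel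
theorem dot_AD : ∀ k, dot (fA k) fD = 0 := by decide +kernel
theorem dot_BB : ∀ k, dot (fB k) (fB k) = 324 := by decide +kernel
theorem dot_CB : ∀ k, dot fC (fB k) = 216 := by decide +kernel
theorem dot_DB : ∀ k, dot fD (fB k) = 0 := by decide +kernel
theorem dot_CC : dot fC fC = 540 := by decide +kernel
theorem dot_DD : dot fD fD = 216 := by decide +kernel
theorem dot_DC : dot fD fC = -108 := by decide +kernel
theorem dot_A1 : ∀ k, dot (fA k) (fun _ => 1) = -108 := by decide +kernel
theorem dot_B1 : ∀ k, dot (fB k) (fun _ => 1) = 0 := by decide +kernel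
theorem dot_C1 : dot fC (fun _ => 1) = -108 := by decide +kernel
theorem dot_D1 : dot fD (fun _ => 1) = 0 := by decide +kernel

/-- Sums over pairs of elements of square one. -/
def pairs2 (f : M108 → ℤ) : ℤ :=
  ∑ x ∈ Finset.univ.filter (fun x : M108 => x * x = 1),
    ∑ y ∈ Finset.univ.filter (fun x : M108 => x * x = 1), f (x * y)

theorem pairs_A : ∀ k, pairs2 (fA k) = -648 := by decide +kernel
theorem pairs_B : ∀ k, pairs2 (fB k) = 0 := by decide +kernel
theorem pairs_C : pairs2 fC = -972 := by decide +kernel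

end Cfsg.Agent.Solv.Special
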