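import Cfsg.Agent.Lib.Solv.Special.Setup
import Cfsg.Agent.Lib.Solv.Special.Combi
import Cfsg.Agent.Lib.Solv.Special.Model
import Cfsg.Agent.Lib.Solv.Generation
import Cfsg.Agent.Lib.Char.Central
import Mathlib.GroupTheory.Transfer

/-!
A subgroup `3³ : 2²` containing the centralisers of its three-elements is the whole group.
-/

set_option autoImplicit false
set_option linter.unusedSectionVars false

namespace Cfsg.Agent.Solv.Special

open Cfsg Cfsg.Agent.Char
open scoped ComplexConjugate commutatorElement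

universe u

theorem rot_of_cube : ∀ m : M108, m * m * m = 1 → rot m := by decide +kernel
theorem rot_of_pow27 : ∀ m : M108, m ^ 27 = 1 → rot m := by decide +kernel
theorem cube_of_rot : ∀ m : M108, rot m → m * m * m = 1 := by decide +kernel
theorem comm_of_rot : ∀ a b : M108, rot a → rot b → a * b = b * a := by decide +kernel
theorem card_rot : (Finset.univ.filter fun m : M108 => rot m).card = 27 := by decide +kernel

/-- Three involutions. -/
def inv0 : M108 := ⟨(1, .sr 0, .sr 0), by decide⟩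
def inv1 : M108 := ⟨(.sr 0, 1, .sr 0), by decide⟩
def inv2 : M108 := ⟨(.sr 0, .sr 0, 1), by decide⟩

theorem inv_sq : inv0 * inv0 = 1 ∧ inv1 * inv1 = 1 ∧ inv0 * inv1 = inv2 := by decide +kernel

theorem rot_eq_comm : ∀ m : M108, rot m →
    m = (m * inv0 * m⁻¹ * inv0⁻¹) * (m * inv1 * m⁻¹ * inv1⁻¹) * (m * inv2 * m⁻¹ * inv2⁻¹) := by
  decide +kernel

theorem inv_decomp : ∀ m : M108, rot m ∨ rot (m * inv0⁻¹) ∨ rot (m * inv1⁻¹) ∨ rot (m * inv2⁻¹) := by
  decide +kernel

theorem sgn_rot : ∀ m : M108, rot m → ∀ j, sgn (co j m) = 1 := by decide +kernel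

theorem rot_of_sgn : ∀ m : M108, (∀ j, sgn (co j m) = 1) → rot m := by decide +kernel

/-- A multiplicative function is one of four. -/
theorem classify (φ : M108 → ℂ) (h1 : φ 1 = 1) (hmul : ∀ a b, φ (a * b) = φ a * φ b) :
    (∀ m, φ m = 1) ∨ ∃ j, ∀ m, φ m = (sgn (co j m) : ℂ) := by
  have hinv : ∀ a, φ a * φ a⁻¹ = 1 := fun a => by rw [← hmul, mul_inv_cancel, h1]
  have hcom : ∀ a b : M108, φ (a * b * a⁻¹ * b⁻¹) = 1 := fun a b => by
    rw [hmul, hmul, hmul,
      show φ a * φ b * φ a⁻¹ * φ b⁻¹ = (φ a * φ a⁻¹) * (φ b * φ b⁻¹) by ring, hinv, hinv, one_mul]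
  have hrot : ∀ m, rot m → φ m = 1 := fun m hm => by
    rw [rot_eq_comm m hm, hmul, hmul, hcom, hcom, hcom, one_mul, one_mul]
  have hw : ∀ m w : M108, rot (m * w⁻¹) → φ m = φ w := fun m w h => by
    conv_lhs => rw [← inv_mul_cancel_right m w, hmul, hrot _ h, one_mul]
  have p0 : φ inv0 = 1 ∨ φ inv0 = -1 :=
    mul_self_eq_one_iff.1 (by rw [← hmul, inv_sq.1, h1])
  have p1 : φ inv1 = 1 ∨ φ inv1 = -1 :=
    mul_self_eq_one_iff.1 (by rw [← hmul, inv_sq.2.1, h1])
  have p2 : φ inv2 = φ inv0 * φ inv1 := by rw [← hmul, inv_sq.2.2]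
  have sw : ∀ m w : M108, rot (m * w⁻¹) → ∀ j, sgn (co j m) = sgn (co j w) := fun m w h j => by
    conv_lhs => rw [← inv_mul_cancel_right m w, Subgroup.coe_mul, map_mul, map_mul,
      sgn_rot _ h j, one_mul]
  have fin : ∀ j : Fin 3, φ inv0 = (sgn (co j inv0) : ℂ) → φ inv1 = (sgn (co j inv1) : ℂ) →
      ∀ m, φ m = (sgn (co j m) : ℂ) := by
    intro j q0 q1 m
    rcases inv_decomp m with h | h | h | h
    · rw [hrot m h, sgn_rot m h j]; simp
    · rw [hw m _ h, sw m _ h j, q0]
    · rw [hw m _ h, sw m _ h j, q1]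
    · rw [hw m _ h, sw m _ h j, p2, q0, q1, ← Int.cast_mul, ← map_mul, ← map_mul,
        ← Subgroup.coe_mul, inv_sq.2.2]
  rcases p0 with q0 | q0 <;> rcases p1 with q1 | q1
  · refine .inl fun m => ?_
    rcases inv_decomp m with h | h | h | h
    · exact hrot m h
    · rw [hw m _ h, q0]
    · rw [hw m _ h, q1]
    · rw [hw m _ h, p2, q0, q1, one_mul]
  all_goals refine .inr ?_
  · exact ⟨0, fin 0 (by rw [q0, show sgn (co 0 inv0) = 1 by decide]; simp) (by
      rw [q1, show sgn (co 0 inv1) = -1 by decide]; simp)⟩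
  · exact ⟨1, fin 1 (by rw [q0, show sgn (co 1 inv0) = -1 by decide]; simp) (by
      rw [q1, show sgn (co 1 inv1) = 1 by decide]; simp)⟩
  · exact ⟨2, fin 2 (by rw [q0, show sgn (co 2 inv0) = -1 by decide]; simp) (by
      rw [q1, show sgn (co 2 inv1) = -1 by decide]; simp)⟩

/-- The scalar equations force the linear characters. -/
theorem scalar {N I : ℂ} (l U : Fin 3 → ℂ) (hI : I ≠ 0) (hl : ∀ k, l k ≠ 0)
    (hl1 : ∀ k, 1 + l k ≠ 0) (hll : ∀ k, l (k + 1) + l (k + 2) ≠ 0)
    (hE : 1 + (l 0 + l 1 + l 2) ≠ 0)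
    (hA : ∀ k, -N ^ 2 - U k ^ 2 / l k + (N + U k) ^ 2 / (1 + l k) = -648 * I)
    (hB : ∀ k, -(U (k + 1) ^ 2 / l (k + 1)) - U (k + 2) ^ 2 / l (k + 2) +
      (U (k + 1) + U (k + 2)) ^ 2 / (l (k + 1) + l (k + 2)) = 0)
    (hC : -N ^ 2 - (U 0 ^ 2 / l 0 + U 1 ^ 2 / l 1 + U 2 ^ 2 / l 2) +
      (N + (U 0 + U 1 + U 2)) ^ 2 / (1 + (l 0 + l 1 + l 2)) = -972 * I) :
    ∀ k, l k = 1 := by
  have eA : ∀ k, (N * l k - U k) ^ 2 = 648 * I * (l k * (1 + l k)) := fun k => by
    have := hA k
    have a := hl k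
    have b := hl1 k
    field_simp at this
    linear_combination -this
  have eB : ∀ k, U (k + 1) * l (k + 2) = U (k + 2) * l (k + 1) := fun k => by
    have := hB k
    have a := hl (k + 1)
    have b := hl (k + 2)
    have c := hll k
    field_simp at this
    exact sub_eq_zero.1 (pow_eq_zero_iff (n := 2) two_ne_zero |>.1 (by linear_combination -this))
  have e01 : U 0 * l 1 = U 1 * l 0 := eB 2
  have e02 : U 2 * l 0 = U 0 * l 2 := eB 1
  set r := U 0 / l 0 with hr
  have hU : ∀ k, U k = r * l k := by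
    have := hl 0
    intro k
    fin_cases k <;> simp only [Fin.zero_eta, Fin.mk_one, Fin.reduceFinMk, hr] <;> field_simp
    · linear_combination -e01
    · linear_combination e02
  have eA' : ∀ k, l k * (N - r) ^ 2 = 648 * I * (1 + l k) := fun k => by
    have := eA k
    rw [hU k] at this
    exact mul_left_cancel₀ (hl k) (by linear_combination this)
  have hne : (N - r) ^ 2 - 648 * I ≠ 0 := by
    intro h
    refine hI ?_
    linear_combination (-(eA' 0) + l 0 * h) / 648
  have heq : ∀ k, l k = l 0 := fun k => by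
    have : (l k - l 0) * ((N - r) ^ 2 - 648 * I) = 0 := by
      linear_combination eA' k - eA' 0
    exact sub_eq_zero.1 ((mul_eq_zero.1 this).resolve_right hne)
  intro k
  rw [heq k]
  have hC' := hC
  rw [hU 0, hU 1, hU 2, heq 1, heq 2] at hC'
  rw [heq 1, heq 2] at hE
  have a := hl 0
  have ht : (r * l 0) ^ 2 / l 0 = r ^ 2 * l 0 := by field_simp
  rw [ht] at hC'
  have h3 : (N + (r * l 0 + r * l 0 + r * l 0)) ^ 2 / (1 + (l 0 + l 0 + l 0)) =
      -972 * I + N ^ 2 + (r ^ 2 * l 0 + r ^ 2 * l 0 + r ^ 2 * l 0) := by linear_combination hC'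
  rw [div_eq_iff hE] at h3
  have h4 : l 0 * (3 * (N - r) ^ 2) = 972 * I * (1 + 3 * l 0) := by linear_combination -h3
  have h5 : I * (l 0 - 1) = 0 := by linear_combination (h4 - 3 * eA' 0) / (-972)
  exact sub_eq_zero.1 ((mul_eq_zero.1 h5).resolve_left hI)

section

variable {G : Type u} [Group G] [Finite G]

/-- The hypotheses on the embedded group. -/
structure Emb (H T : Subgroup G) (e : H ≃* M108) : Prop where
  le : T ≤ H
  card_T : Nat.card T = 27
  norm : Subgroup.normalizer (T : Set G) = H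
  cent : ∀ t ∈ T, t ≠ 1 → Subgroup.centralizer ({t} : Set G) ≤ H

variable {H T : Subgroup G} {e : H ≃* M108} (h : Emb H T e)

include h

theorem Emb.mem_iff (x : H) : (x : G) ∈ T ↔ rot (e x) := by
  classical
  haveI := Fintype.ofFinite G
  set S : Finset M108 := Finset.univ.filter fun m => ((e.symm m : H) : G) ∈ T with hS
  have hsub : S ⊆ Finset.univ.filter fun m => rot m := by
    intro m hm
    have hmT := (Finset.mem_filter.1 hm).2
    refine Finset.mem_filter.2 ⟨Finset.mem_univ m, rot_of_pow27 m ?_⟩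
    have h27 : ((e.symm m : H) : G) ^ 27 = 1 := by
      have := congrArg Subtype.val (pow_card_eq_one' (G := T) (x := ⟨_, hmT⟩))
      rw [h.card_T] at this
      simpa using this
    exact e.symm.injective (by rw [map_one, map_pow]; exact Subtype.ext (by simpa using h27))
  have hcard : S.card = 27 := by
    rw [← h.card_T, hS, ← Fintype.card_subtype, ← Nat.card_eq_fintype_card]
    exact Nat.card_congr
      { toFun := fun m => ⟨((e.symm m.1 : H) : G), m.2⟩
        invFun := fun t => ⟨e ⟨t, h.le t.2⟩, by simp⟩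
        left_inv := fun m => Subtype.ext (by simp)
        right_inv := fun t => Subtype.ext (by simp) }
  have heq := Finset.eq_of_subset_of_card_le hsub (by rw [card_rot, hcard])
  have := congrArg (fun F : Finset M108 => e x ∈ F) heq
  simpa [hS] using this

theorem Emb.comm {a b : G} (ha : a ∈ T) (hb : b ∈ T) : a * b = b * a := by
  have := comm_of_rot _ _ ((h.mem_iff ⟨a, h.le ha⟩).1 ha) ((h.mem_iff ⟨b, h.le hb⟩).1 hb)
  rw [← map_mul, ← map_mul] at this
  exact congrArg Subtype.val (e.injective this)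

theorem Emb.cube {a : G} (ha : a ∈ T) : a * a * a = 1 := by
  have := cube_of_rot _ ((h.mem_iff ⟨a, h.le ha⟩).1 ha)
  rw [← map_mul, ← map_mul, ← map_one e] at this
  exact congrArg Subtype.val (e.injective this)

theorem Emb.mem_of_cube {a : G} (ha : a ∈ H) (h3 : a * a * a = 1) : a ∈ T := by
  refine (h.mem_iff ⟨a, ha⟩).2 (rot_of_cube _ ?_)
  rw [← map_mul, ← map_mul, ← map_one e]
  exact congrArg e (Subtype.ext h3)

theorem Emb.ctl : Ctl H T := by
  refine Ctl.of_forall fun j hj hj1 g hg => ?_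
  rw [← h.norm]
  refine Subgroup.mem_normalizer_fintype fun n hn => ?_
  have h3 : ∀ a ∈ T, g * a * g⁻¹ * (g * a * g⁻¹) * (g * a * g⁻¹) = 1 := fun a ha => by
    rw [show g * a * g⁻¹ * (g * a * g⁻¹) * (g * a * g⁻¹) = g * (a * a * a) * g⁻¹ by group,
      h.cube ha]
    group
  have hjT : g * j * g⁻¹ ∈ T := h.mem_of_cube hg (h3 j hj)
  have hj' : g * j * g⁻¹ ≠ 1 := fun z => hj1 (by
    have := congrArg (fun t => g⁻¹ * t * g) z
    simpa [mul_assoc] using this)
  refine h.mem_of_cube (h.cent _ hjT hj' ?_) (h3 n hn)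
  rw [Subgroup.mem_centralizer_singleton_iff]
  rw [show g * n * g⁻¹ * (g * j * g⁻¹) = g * (n * j) * g⁻¹ by group,
    show g * j * g⁻¹ * (g * n * g⁻¹) = g * (j * n) * g⁻¹ by group, h.comm hn hj]

variable [Fintype G] [Fintype H] [DecidableEq G]

omit h in
theorem card_H (e : H ≃* M108) : Nat.card H = 108 := by
  rw [Nat.card_congr e.toEquiv, Nat.card_eq_fintype_card, card_M108]

theorem Emb.exists_vec (f : M108 → ℤ) (hf : GC f) (hg : Good f) :
    ∃ z : IrrCharacter G → ℤ,
      IsClassFunction H (fun x : H => (f (e x) : ℂ)) ∧ Supp H T (fun x : H => (f (e x) : ℂ)) ∧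
      (∀ χ : IrrCharacter G,
        classInner (fun x : H => (f (e x) : ℂ)) (fun x : H => (χ : G → ℂ) x) = (z χ : ℂ)) ∧
      indFun H (fun x : H => (f (e x) : ℂ)) = ∑ χ, (z χ : ℂ) • (χ : G → ℂ) ∧
      ∑ χ, (z χ : ℂ) * (χ : G → ℂ) 1 = 0 ∧ ∑ χ, (z χ : ℂ) * invSum (χ : G → ℂ) = 0 ∧
      ∑ χ, (z χ : ℂ) * (invSum (χ : G → ℂ) ^ 2 / (χ : G → ℂ) 1) =
        (H.index : ℂ) * (pairs2 f : ℂ) := by
  classical
  obtain ⟨a, b, ha, hb, hab⟩ := hf
  have ha' := isCharacter_comp e.toMonoidHom ha
  have hb' := isCharacter_comp e.toMonoidHom hb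
  have hfe : (fun x : H => (f (e x) : ℂ)) = a ∘ e.toMonoidHom - b ∘ e.toMonoidHom :=
    funext fun x => congrFun hab (e x)
  have hgen : IsGeneralizedCharacter H (fun x : H => (f (e x) : ℂ)) := ⟨_, _, ha', hb', hfe⟩
  have hcl : IsClassFunction H (fun x : H => (f (e x) : ℂ)) := fun x k => by
    rw [hfe]
    simp only [Pi.sub_apply, isClassFunction_character ha' x k, isClassFunction_character hb' x k]
  have hsupp : Supp H T (fun x : H => (f (e x) : ℂ)) := by
    intro x hx
    rcases hg.1 (e x) (fun z => hx (by simp [z])) with ⟨r, r1⟩ | ⟨r, r1⟩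
    · exact ⟨1, by rw [pow_one]; exact (h.mem_iff x).2 r,
        fun z => r1 (by rw [show x = 1 from Subtype.ext (by simpa using z), map_one])⟩
    · refine ⟨2, ?_, fun z => r1 ?_⟩
      · rw [pow_two, ← Subgroup.coe_mul]
        exact (h.mem_iff _).2 (by rw [map_mul]; exact r)
      · rw [← map_mul, show x * x = 1 from Subtype.ext (by simpa [pow_two] using z), map_one]
  obtain ⟨z, h1, h2, h3, h4, h5⟩ := exists_coords hgen h.ctl hsupp (fun x hx => by
    rw [hg.2 (e x) (by rw [← map_mul, hx, map_one]), Int.cast_zero])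
  refine ⟨z, hcl, hsupp, h1, h2, h3, h4, ?_⟩
  rw [h5]
  congr 1
  have key : ∀ F : M108 → ℂ, ∑ x ∈ invs H, F (e x) =
      ∑ m ∈ Finset.univ.filter (fun m : M108 => m * m = 1), F m := fun F =>
    Finset.sum_nbij' (fun x => e x) (fun m => e.symm m)
      (fun x hx => Finset.mem_filter.2 ⟨Finset.mem_univ _, by rw [← map_mul, mem_invs.1 hx, map_one]⟩)
      (fun m hm => mem_invs.2 (by rw [← map_mul, (Finset.mem_filter.1 hm).2, map_one]))
      (fun x _ => e.symm_apply_apply x) (fun m _ => e.apply_symm_apply m) (fun x _ => rfl)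
  simp only [pairs2, Int.cast_sum, map_mul]
  rw [key (fun m => ∑ y ∈ invs H, (f (m * e y) : ℂ))]
  exact Finset.sum_congr rfl fun m _ => key (fun n => (f (m * n) : ℂ))

omit h in
theorem inner_eq (e : H ≃* M108) (f g : M108 → ℤ) :
    classInner (fun x : H => (f (e x) : ℂ)) (fun x : H => (g (e x) : ℂ)) = (dot f g : ℂ) / 108 := by
  rw [classInner, card_H e, dot, Int.cast_sum, div_eq_inv_mul]
  congr 1
  rw [← e.toEquiv.sum_comp (fun m => ((f m * g m : ℤ) : ℂ))]
  exact Finset.sum_congr rfl fun x _ => by simp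

theorem Emb.chars : ∃ L : Fin 3 → IrrCharacter G, (∀ k, (L k : G → ℂ) 1 = 1) ∧
    (∀ k, classInner (fun x : H => (fA k (e x) : ℂ)) (fun x : H => (L k : G → ℂ) x) ≠ 0) ∧
    (∀ k l, k ≠ l →
      classInner (fun x : H => (fA l (e x) : ℂ)) (fun x : H => (L k : G → ℂ) x) = 0) := by
  classical
  choose zA hAc hAs hAi hAe hA1 hA2 hA3 using fun k => h.exists_vec (fA k) (gc_A k) (good_A k)
  choose zB hBc hBs hBi hBe hB1 hB2 hB3 using fun k => h.exists_vec (fB k) (gc_B k) (good_B k)
  obtain ⟨zC, hCc, hCs, hCi, hCe, hC1, hC2, hC3⟩ := h.exists_vec fC gc_C good_C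
  obtain ⟨zD, hDc, hDs, hDi, hDe, hD1, hD2, hD3⟩ := h.exists_vec fD gc_D good_D
  set e1 : IrrCharacter G := ⟨fun _ => 1, isIrrCharacter_one⟩ with he1
  have one_coef : ∀ {f : M108 → ℤ} {z : IrrCharacter G → ℤ},
      (∀ χ : IrrCharacter G,
        classInner (fun x : H => (f (e x) : ℂ)) (fun x : H => (χ : G → ℂ) x) = (z χ : ℂ)) →
      z e1 * 108 = dot f (fun _ => 1) := by
    intro f z hz
    have h' := hz e1
    rw [show (fun x : H => (e1 : G → ℂ) (x : G)) = fun x : H => (((fun _ : M108 => (1 : ℤ)) (e x) : ℤ) : ℂ)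
        by funext x; simp [he1], inner_eq e f (fun _ => 1)] at h'
    have : ((z e1 * 108 : ℤ) : ℂ) = ((dot f fun _ => 1 : ℤ) : ℂ) := by
      push_cast; rw [← h']; ring
    exact_mod_cast this
  have gram : ∀ {f g : M108 → ℤ} {z w : IrrCharacter G → ℤ},
      indFun H (fun x : H => (f (e x) : ℂ)) = ∑ χ, (z χ : ℂ) • (χ : G → ℂ) →
      indFun H (fun x : H => (g (e x) : ℂ)) = ∑ χ, (w χ : ℂ) • (χ : G → ℂ) →
      Supp H T (fun x : H => (f (e x) : ℂ)) →
      Supp H T (fun x : H => (g (e x) : ℂ)) → IsClassFunction H (fun x : H => (g (e x) : ℂ)) →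
      (∑ χ, z χ * w χ) * 108 = dot f g := by
    intro f g z w hz hw hα hs hc
    have h' := coords_inner hz hw h.ctl hα hs hc
    rw [inner_eq e f g] at h'
    have : (((∑ χ, z χ * w χ) * 108 : ℤ) : ℂ) = ((dot f g : ℤ) : ℂ) := by
      push_cast at h' ⊢; rw [h']; ring
    exact_mod_cast this
  set δ : IrrCharacter G → ℤ := fun χ => if χ = e1 then 1 else 0 with hδ
  have dd : ∀ z : IrrCharacter G → ℤ, ∑ χ, z χ * δ χ = z e1 := fun z => by simp [hδ]
  have expand : ∀ z w : IrrCharacter G → ℤ,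
      ∑ χ, (z χ + δ χ) * (w χ + δ χ) = ∑ χ, z χ * w χ + z e1 + w e1 + 1 := fun z w => by
    have h1 : ∀ χ, (z χ + δ χ) * (w χ + δ χ) = z χ * w χ + z χ * δ χ + w χ * δ χ + δ χ * δ χ :=
      fun χ => by ring
    simp only [h1, Finset.sum_add_distrib, dd]
    simp [hδ]
  have expand' : ∀ z w : IrrCharacter G → ℤ,
      ∑ χ, (z χ + δ χ) * w χ = ∑ χ, z χ * w χ + w e1 := fun z w => by
    simp only [add_mul, Finset.sum_add_distrib, mul_comm (δ _), dd]
  have zA1 : ∀ k, zA k e1 = -1 := fun k => by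
    have := one_coef (hAi k); rw [dot_A1] at this; omega
  have zB1 : ∀ k, zB k e1 = 0 := fun k => by
    have := one_coef (hBi k); rw [dot_B1] at this; omega
  have zC1 : zC e1 = -1 := by
    have := one_coef hCi; rw [dot_C1] at this; omega
  have zD1 : zD e1 = 0 := by
    have := one_coef hDi; rw [dot_D1] at this; omega
  obtain ⟨L, M, N, x, s, t, u, ε, hsq, hε, hL, hFA, hFC, hFB⟩ :=
    pairs (fun k χ => zA k χ + δ χ) zB (fun χ => zC χ + δ χ) zD
      (fun k => by
        have := gram (hAe k) (hAe k) (hAs k) (hAs k) (hAc k)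
        rw [dot_AA, if_pos rfl] at this
        simp only [expand, zA1]; omega)
      (fun k l hkl => by
        have := gram (hAe k) (hAe l) (hAs k) (hAs l) (hAc l)
        rw [dot_AA, if_neg hkl] at this
        simp only [expand, zA1]; omega)
      (fun k => by
        have := gram (hAe k) hCe (hAs k) hCs hCc
        rw [dot_AC] at this
        simp only [expand, zA1, zC1]; omega)
      (by
        have := gram hCe hCe hCs hCs hCc
        rw [dot_CC] at this
        simp only [expand, zC1]; omega)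
      (fun k => by
        have := gram (hBe k) (hBe k) (hBs k) (hBs k) (hBc k)
        rw [dot_BB] at this
        omega)
      (fun k => by
        have := gram (hAe k) (hBe k) (hAs k) (hBs k) (hBc k)
        rw [dot_AB, if_pos rfl] at this
        simp only [expand', zB1]; omega)
      (fun k l hkl => by
        have := gram (hAe l) (hBe k) (hAs l) (hBs k) (hBc k)
        rw [dot_AB, if_neg hkl] at this
        simp only [expand', zB1]; omega)
      (fun k => by
        have := gram hCe (hBe k) hCs (hBs k) (hBc k)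
        rw [dot_CB] at this
        simp only [expand', zB1]; omega)
      (by
        have := gram hDe hDe hDs hDs hDc
        rw [dot_DD] at this
        omega)
      (fun k => by
        have := gram (hAe k) hDe (hAs k) hDs hDc
        rw [dot_AD] at this
        simp only [expand', zD1]; omega)
      (fun k => by
        have := gram hDe (hBe k) hDs (hBs k) (hBc k)
        rw [dot_DB] at this
        omega)
      (by
        have := gram hDe hCe hDs hCs hCc
        rw [dot_DC] at this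
        have e2 := expand' zC zD
        rw [Finset.sum_congr rfl fun χ _ => mul_comm (zD χ) (zC χ + δ χ), e2, zD1,
          Finset.sum_congr rfl fun χ _ => mul_comm (zC χ) (zD χ)]
        omega)
  have cexp : ∀ (z : IrrCharacter G → ℤ) (F : IrrCharacter G → ℂ),
      ∑ χ, ((z χ + δ χ : ℤ) : ℂ) * F χ = ∑ χ, (z χ : ℂ) * F χ + F e1 := fun z F => by
    simp only [Int.cast_add, add_mul, Finset.sum_add_distrib]
    congr 1
    simp [hδ]
  have FA : ∀ k (F : IrrCharacter G → ℂ), ∑ χ, (zA k χ : ℂ) * F χ =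
      -F e1 + (s k : ℂ) * F (L k) + (t k : ℂ) * F (M k) := fun k F => by
    linear_combination hFA k F - cexp (zA k) F
  have FC : ∀ F : IrrCharacter G → ℂ, ∑ χ, (zC χ : ℂ) * F χ = -F e1 + ((s 0 : ℂ) * F (L 0) +
      (s 1 : ℂ) * F (L 1) + (s 2 : ℂ) * F (L 2)) + (ε : ℂ) * F x := fun F => by
    linear_combination hFC F - cexp zC F
  set d : IrrCharacter G → ℂ := fun χ => (χ : G → ℂ) 1 with hd
  set S : IrrCharacter G → ℂ := fun χ => invSum (χ : G → ℂ) with hSd
  have hdne : ∀ χ, d χ ≠ 0 := fun χ => irr_one_ne_zero χ.2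
  have hd1 : d e1 = 1 := rfl
  set n : ℂ := ((invs G).card : ℂ) with hn
  have hS1 : S e1 = n := invSum_one
  have cs : ∀ {a : ℤ}, a * a = 1 → (a : ℂ) * a = 1 := fun ha => by exact_mod_cast ha
  have c0 : ∀ {a : ℤ}, a * a = 1 → (a : ℂ) ≠ 0 := fun ha z => by
    have := cs ha; rw [z, zero_mul] at this; exact zero_ne_one this
  have sq : ∀ {a : ℤ}, a * a = 1 → ∀ χ, (a : ℂ) * (S χ ^ 2 / d χ) = ((a : ℂ) * S χ) ^ 2 / ((a : ℂ) * d χ) := by
    intro a ha χ
    have := hdne χ
    have := c0 ha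
    field_simp
  set l : Fin 3 → ℂ := fun k => -((s k : ℂ) * d (L k)) with hl
  set U : Fin 3 → ℂ := fun k => -((s k : ℂ) * S (L k)) with hU
  have a1 : ∀ k, (t k : ℂ) * d (M k) = 1 + l k := fun k => by
    have e' := (FA k d).symm.trans (hA1 k)
    rw [hd1] at e'
    simp only [hl]; linear_combination e'
  have a2 : ∀ k, (t k : ℂ) * S (M k) = n + U k := fun k => by
    have e' := (FA k S).symm.trans (hA2 k)
    rw [hS1] at e'
    simp only [hU]; linear_combination e'
  have b1 : ∀ k, (u k : ℂ) * d (N k) = l (k + 1) + l (k + 2) := fun k => by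
    have e' := (hFB k d).symm.trans (hB1 k)
    simp only [hl]; linear_combination e'
  have b2 : ∀ k, (u k : ℂ) * S (N k) = U (k + 1) + U (k + 2) := fun k => by
    have e' := (hFB k S).symm.trans (hB2 k)
    simp only [hU]; linear_combination e'
  have c1 : (ε : ℂ) * d x = 1 + (l 0 + l 1 + l 2) := by
    have e' := (FC d).symm.trans hC1
    rw [hd1] at e'
    simp only [hl]; linear_combination e'
  have c2 : (ε : ℂ) * S x = n + (U 0 + U 1 + U 2) := by
    have e' := (FC S).symm.trans hC2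
    rw [hS1] at e'
    simp only [hU]; linear_combination e'
  have qL : ∀ k, (s k : ℂ) * (S (L k) ^ 2 / d (L k)) = -(U k ^ 2 / l k) := fun k => by
    rw [sq (hsq k).1]
    simp only [hl, hU]
    rw [neg_sq, div_neg, neg_neg]
  have hone := scalar (N := n) (I := (H.index : ℂ)) l U
    (Nat.cast_ne_zero.2 Subgroup.index_ne_zero_of_finite)
    (fun k => neg_ne_zero.2 (mul_ne_zero (c0 (hsq k).1) (hdne _)))
    (fun k => a1 k ▸ mul_ne_zero (c0 (hsq k).2.1) (hdne _))
    (fun k => b1 k ▸ mul_ne_zero (c0 (hsq k).2.2) (hdne _))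
    (c1 ▸ mul_ne_zero (c0 hε) (hdne _))
    (fun k => by
      have e' := (FA k fun χ => S χ ^ 2 / d χ).symm.trans (hA3 k)
      rw [pairs_A, qL, sq (hsq k).2.1, a1, a2, hd1, hS1] at e'
      push_cast at e'
      linear_combination e')
    (fun k => by
      have e' := (hFB k fun χ => S χ ^ 2 / d χ).symm.trans (hB3 k)
      rw [pairs_B, qL, qL, sq (hsq k).2.2, b1, b2] at e'
      push_cast at e'
      linear_combination e')
    (by
      have e' := (FC fun χ => S χ ^ 2 / d χ).symm.trans hC3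
      rw [pairs_C, qL, qL, qL, sq hε, c1, c2, hd1, hS1] at e'
      push_cast at e'
      linear_combination e')
  have hLd : ∀ k, (L k : G → ℂ) 1 = 1 ∧ L k ≠ e1 := by
    intro k
    have h' : -((s k : ℂ) * (L k : G → ℂ) 1) = 1 := hone k
    rw [char_one_eq_deg (irr_isCharacter (L k).2)] at h'
    have hdeg : -(s k * (deg (L k : G → ℂ) : ℤ)) = 1 := by exact_mod_cast h'
    have hpos : (0 : ℤ) < deg (L k : G → ℂ) := by exact_mod_cast deg_pos (L k).2
    refine ⟨?_, fun z => ?_⟩
    · rw [char_one_eq_deg (irr_isCharacter (L k).2)]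
      have : (deg (L k : G → ℂ) : ℤ) = 1 := by
        rcases unit_cases (hsq k).1 with q | q <;> rw [q] at hdeg <;> omega
      exact_mod_cast this
    · have h0 : zA k (L k) + δ (L k) = s k := (hL k).1
      rw [z, zA1] at h0
      simp [hδ] at h0
      have := (hsq k).1
      rw [← h0] at this
      norm_num at this
  refine ⟨L, fun k => (hLd k).1, fun k => ?_, fun k l hkl => ?_⟩
  · have h0 : zA k (L k) + δ (L k) = s k := (hL k).1
    simp only [hδ, if_neg (hLd k).2, add_zero] at h0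
    rw [hAi, h0]
    exact c0 (hsq k).1
  · have h0 : zA l (L k) + δ (L k) = 0 := (hL k).2 l hkl
    simp only [hδ, if_neg (hLd k).2, add_zero] at h0
    rw [hAi, h0, Int.cast_zero]

/-- The subgroup is everything. -/
theorem Emb.eq_top : H = ⊤ := by
  classical
  obtain ⟨L, hL1, hLA, hLB⟩ := h.chars
  choose l hl using fun k => exists_hom_of_degree_one (irr_isCharacter (L k).2) (hL1 k)
  set φ : Fin 3 → M108 → ℂ := fun k m => (L k : G → ℂ) (e.symm m : H) with hφ
  have hφe : ∀ k (x : H), φ k (e x) = (L k : G → ℂ) x := fun k x => by simp [hφ]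
  have hcl : ∀ k, ∃ j, ∀ m, φ k m = (sgn (co j m) : ℂ) := by
    intro k
    rcases classify (φ k) (by simp [hφ, hl]) (fun a b => by simp [hφ, hl]) with h1 | h1
    · exfalso
      obtain ⟨k', hk'⟩ := exists_ne k
      have hx : (fun x : H => (L k : G → ℂ) (x : G)) =
          fun x : H => (((fun _ : M108 => (1 : ℤ)) (e x) : ℤ) : ℂ) := funext fun x => by
        rw [← hφe, h1]; simp
      have h0 := hLB k k' hk'.symm
      rw [hx, inner_eq e (fA k') (fun _ => 1), dot_A1] at h0
      norm_num at h0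
    · exact h1
  choose σ hσ using hcl
  have hinj : Function.Injective σ := by
    intro k k' hkk
    by_contra hne
    refine hLA k ?_
    rw [show (fun x : H => (L k : G → ℂ) (x : G)) = fun x : H => (L k' : G → ℂ) x from
      funext fun x => by rw [← hφe, ← hφe, hσ, hσ, hkk]]
    exact hLB k' k (Ne.symm hne)
  have hsurj : Function.Surjective σ := Finite.injective_iff_surjective.1 hinj
  set D := commutator G with hD
  have hDH : ∀ g ∈ D, ∀ hg : g ∈ H, g ∈ T := by
    intro g hgD hgH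
    refine (h.mem_iff ⟨g, hgH⟩).2 (rot_of_sgn _ fun j => ?_)
    obtain ⟨k, rfl⟩ := hsurj j
    have h1 : φ k (e ⟨g, hgH⟩) = 1 := by
      rw [hφe, hl]
      show ((l k g : ℂˣ) : ℂ) = 1
      rw [MonoidHom.mem_ker.1 (Abelianization.commutator_subset_ker (l k) hgD), Units.val_one]
    rw [hσ] at h1
    exact_mod_cast h1
  have hTD : T ≤ D := by
    intro g hg
    have hr := rot_eq_comm _ ((h.mem_iff ⟨g, h.le hg⟩).1 hg)
    have hg' := congrArg (fun m => ((e.symm m : H) : G)) hr
    simp only [MulEquiv.symm_apply_apply, map_mul, map_inv, Subgroup.coe_mul, Subgroup.coe_inv] at hg'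
    rw [hg']
    refine D.mul_mem (D.mul_mem ?_ ?_) ?_ <;>
      exact Subgroup.commutator_mem_commutator (Subgroup.mem_top _) (Subgroup.mem_top _)
  haveI : Fact (Nat.Prime 3) := ⟨Nat.prime_three⟩
  set T' : Subgroup D := T.subgroupOf D with hT'
  have hT'c : Nat.card T' = 27 := by
    rw [Nat.card_congr (Subgroup.subgroupOfEquivOfLe hTD).toEquiv, h.card_T]
  have hnorm : Subgroup.normalizer (T' : Set D) ≤ T' := by
    intro g hg
    have hgN : (g : G) ∈ Subgroup.normalizer (T : Set G) := by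
      refine Subgroup.mem_normalizer_fintype fun n hn => ?_
      exact (Subgroup.mem_normalizer_iff.1 hg ⟨n, hTD hn⟩).1 hn
    rw [h.norm] at hgN
    exact hDH g g.2 hgN
  have h81 : ¬ 3 ^ 4 ∣ Nat.card D := fun hdvd => by
    have := Nat.le_of_dvd Nat.card_pos
      ((Sylow.prime_pow_dvd_card_normalizer (n := 3) hdvd (H := T') (by rw [hT'c]; norm_num)).trans
        (Subgroup.card_dvd_of_le hnorm))
    rw [hT'c] at this
    norm_num at this
  have hTp : IsPGroup 3 T' := IsPGroup.of_card (n := 3) (by rw [hT'c]; norm_num)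
  have hidx : ¬ 3 ∣ T'.index := fun hdvd => h81 (by
    rw [← T'.card_mul_index, hT'c, show (3 : ℕ) ^ 4 = 27 * 3 by norm_num]
    exact mul_dvd_mul_left 27 hdvd)
  set P : Sylow 3 D := hTp.toSylow hidx with hP
  have hPe : (P : Subgroup D) = T' := IsPGroup.toSylow_coe ..
  have hPC : Subgroup.normalizer (P : Set D) ≤ Subgroup.centralizer (P : Set D) := by
    show Subgroup.normalizer ((P : Subgroup D) : Set D) ≤ Subgroup.centralizer ((P : Subgroup D) : Set D)
    rw [hPe]
    intro g hg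
    rw [Subgroup.mem_centralizer_iff]
    exact fun n hn => Subtype.ext (h.comm hn (hnorm hg))
  obtain ⟨K0, hK0n, hK0co, hcompl⟩ : ∃ K0 : Subgroup D, K0.Normal ∧ ¬ 3 ∣ Nat.card K0 ∧
      Subgroup.IsComplement' K0 T' := by
    refine ⟨(MonoidHom.transferSylow P hPC).ker, MonoidHom.normal_ker _,
      MonoidHom.not_dvd_card_ker_transferSylow P hPC, ?_⟩
    rw [← hPe]
    exact MonoidHom.ker_transferSylow_isComplement' P hPC
  set K : Subgroup G := K0.map D.subtype with hK
  have hKco : (Nat.card T).Coprime (Nat.card K) := by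
    rw [h.card_T, hK, Nat.card_congr (K0.equivMapOfInjective _ D.subtype_injective).symm.toEquiv,
      show (27 : ℕ) = 3 ^ 3 by norm_num, Nat.coprime_pow_left_iff (by norm_num),
      Nat.prime_three.coprime_iff_not_dvd]
    exact hK0co
  have hTK : T ≤ Subgroup.normalizer (K : Set G) := by
    intro g hg
    refine Subgroup.mem_normalizer_fintype fun n hn => ?_
    obtain ⟨m, hm, rfl⟩ := hn
    exact ⟨⟨g, hTD hg⟩ * m * ⟨g, hTD hg⟩⁻¹,
      hK0n.conj_mem m hm _, by simp⟩
  have hbot : K = ⊥ := by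
    rw [← Cfsg.Agent.Solv.gen_eq T K ⟨⟨fun a b => Subtype.ext (h.comm a.2 b.2)⟩⟩ hTK hKco,
      iSup_eq_bot]
    intro B
    rw [iSup_eq_bot]
    rintro ⟨hBT, a, ha, hBa⟩
    obtain ⟨b, hb, hb1⟩ : ∃ b ∈ B, b ≠ 1 := by
      refine B.bot_or_exists_ne_one.resolve_left fun hB => ?_
      rw [hB, bot_sup_eq] at hBa
      have h27 := h.card_T
      rw [← hBa, Nat.card_zpowers] at h27
      have : orderOf a ≤ 3 := orderOf_le_of_pow_eq_one (by norm_num)
        (by rw [pow_succ, pow_two]; exact h.cube ha)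
      omega
    rw [eq_bot_iff]
    rintro g ⟨⟨m, hm, rfl⟩, hgC⟩
    have hgH : (m : G) ∈ H := h.cent b (hBT hb) hb1 (by
      rw [Subgroup.mem_centralizer_singleton_iff]
      exact (Subgroup.mem_centralizer_iff.1 hgC b hb).symm)
    have hmT : m ∈ T' := hDH m m.2 hgH
    rw [Subgroup.mem_bot]
    exact congrArg Subtype.val (Subgroup.disjoint_def.1 hcompl.disjoint hm hmT)
  have hK0b : K0 = ⊥ := by
    refine (K0.eq_bot_iff_forall).2 fun m hm => ?_
    have : (m : G) ∈ K := ⟨m, hm, rfl⟩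
    rw [hbot, Subgroup.mem_bot] at this
    exact Subtype.ext this
  have hPtop : T' = ⊤ := by
    rw [hK0b] at hcompl
    exact Subgroup.isComplement'_bot_left.1 hcompl
  have hTeq : T = D := le_antisymm hTD fun g hg => by
    have : (⟨g, hg⟩ : D) ∈ T' := hPtop ▸ Subgroup.mem_top _
    exact this
  have : T.Normal := hTeq ▸ (inferInstance : (commutator G).Normal)
  rw [← h.norm]
  exact Subgroup.normalizer_eq_top T

end

end Cfsg.Agent.Solv.Special
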