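import Cfsg.Agent.Lib.Solv.Special.Gram

/-!
Tables of the search for `3³ : S₄`.
-/

set_option autoImplicit false
set_option maxRecDepth 100000

namespace Cfsg.Agent.Solv.Special.Tbl

/-- The inner products with the trivial character, negated. -/
def kap : List ℤ := [0, 0, 1, 0, 0, 1, 0, 1, 0]

def st0 : List (List (List ℤ)) := [[]]
def need0 : List ℤ := []
def cert0 : List (List ℤ) := []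
def st1 : List (List (List ℤ)) :=
  [[[1], [1], [1]]]
theorem chk0 : Gram.check 0 need0 3 kap cert0 st0 st1 = true := by decide +kernel

def need1 : List ℤ := [2]
def cert1 : List (List ℤ) := []
def st2 : List (List (List ℤ)) :=
  [[[0, 1], [1, 0], [1, 1], [1, 1]]]
theorem chk1 : Gram.check 1 need1 3 kap cert1 st1 st2 = true := by decide +kernel

def need2 : List ℤ := [1, 1]
def cert2 : List (List ℤ) := []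
def st3 : List (List (List ℤ)) :=
  [[[0, 0, 1], [0, 0, 1], [0, 1, 0], [1, 0, 0], [1, 1, 0], [1, 1, 1]],
   [[0, 0, 1], [0, 1, 1], [1, 0, 1], [1, 1, 0], [1, 1, 0]]]
theorem chk2 : Gram.check 2 need2 3 kap cert2 st2 st3 = true := by decide +kernel

def need3 : List ℤ := [2, 2, 2]
def cert3 : List (List ℤ) := [[0, 0, 0, 1]]
def st4 : List (List (List ℤ)) :=
  [[[0, 0, 0, 1], [0, 0, 1, 0], [0, 0, 1, 1], [0, 1, 0, 0], [1, 0, 0, 0], [1, 1, 0, 1], [1, 1, 1, 1]],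
   [[0, 0, 0, 1], [0, 0, 1, 0], [0, 1, 1, 1], [1, 0, 1, 1], [1, 1, 0, 0], [1, 1, 0, 1]],
   [[0, 0, 1, 0], [0, 0, 1, 1], [0, 1, 0, 1], [1, 0, 0, 1], [1, 1, 0, 0], [1, 1, 1, 1]]]
theorem chk3 : Gram.check 3 need3 4 kap cert3 st3 st4 = true := by decide +kernel

def need4 : List ℤ := [2, 2, 2, 3]
def cert4 : List (List ℤ) := []
def st5 : List (List (List ℤ)) :=
  [[[0, 0, 0, 0, 1], [0, 0, 0, 1, 0], [0, 0, 1, 0, 0], [0, 0, 1, 1, 1], [0, 1, 0, 0, 0], [1, 0, 0, 0, 0], [1, 1, 0, 1, 1], [1, 1, 1, 1, 1]],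
   [[0, 0, 0, 0, 1], [0, 0, 0, 1, 0], [0, 0, 1, 0, 0], [0, 1, 1, 1, 1], [1, 0, 1, 1, 1], [1, 1, 0, 0, 0], [1, 1, 0, 1, 1]],
   [[0, 0, 0, 1, 1], [0, 0, 1, 0, 0], [0, 1, 1, 1, 1], [1, 0, 1, 1, 1], [1, 1, 0, 0, 1], [1, 1, 0, 1, 0]],
   [[0, 0, 0, 1, 1], [0, 0, 1, 0, 1], [0, 0, 1, 1, 0], [0, 1, 0, 0, 0], [1, 0, 0, 0, 0], [1, 1, 0, 1, 1], [1, 1, 1, 1, 1]],
   [[0, 0, 1, 0, 1], [0, 0, 1, 1, 0], [0, 1, 0, 1, 1], [1, 0, 0, 1, 1], [1, 1, 0, 0, 0], [1, 1, 1, 1, 1]]]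
theorem chk4 : Gram.check 4 need4 4 kap cert4 st4 st5 = true := by decide +kernel

def need5 : List ℤ := [2, 2, 1, 2, 2]
def cert5 : List (List ℤ) := [[-1, -1, -1, 1, 1, 1]]
def st6 : List (List (List ℤ)) :=
  [[[0, 0, 0, 0, 0, 1], [0, 0, 0, 0, 0, 1], [0, 0, 0, 0, 1, 0], [0, 0, 0, 1, 0, 0], [0, 0, 1, 0, 0, 0], [0, 0, 1, 1, 1, 0], [0, 1, 0, 0, 0, 0], [1, 0, 0, 0, 0, 0], [1, 1, 0, 1, 1, 1], [1, 1, 1, 1, 1, 1]],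
   [[0, 0, 0, 0, 0, 1], [0, 0, 0, 0, 0, 1], [0, 0, 0, 1, 1, 0], [0, 0, 1, 0, 1, 0], [0, 0, 1, 1, 0, 0], [0, 1, 0, 0, 0, 0], [1, 0, 0, 0, 0, 0], [1, 1, 0, 1, 1, 1], [1, 1, 1, 1, 1, 1]],
   [[0, 0, 0, 0, 1, 0], [0, 0, 0, 1, 0, 0], [0, 0, 1, 0, 0, -1], [0, 1, 1, 1, 1, 1], [1, 0, 1, 1, 1, 1], [1, 1, 0, 0, 0, 1], [1, 1, 0, 1, 1, 0]],
   [[0, 0, 0, 0, 1, 0], [0, 0, 0, 1, 0, 0], [0, 0, 1, 0, 0, 0], [0, 0, 1, 1, 1, 1], [0, 1, 0, 0, 0, 1], [1, 0, 0, 0, 0, 1], [1, 1, 0, 1, 1, 1], [1, 1, 1, 1, 1, 0]]]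
theorem chk5 : Gram.check 5 need5 4 kap cert5 st5 st6 = true := by decide +kernel

def need6 : List ℤ := [3, 3, 3, 4, 4, 4]
def cert6 : List (List ℤ) := []
def st7 : List (List (List ℤ)) :=
  [[[0, 0, 0, 0, 0, 0, 1], [0, 0, 0, 0, 0, 1, 0], [0, 0, 0, 0, 0, 1, 1], [0, 0, 0, 0, 1, 0, 0], [0, 0, 0, 1, 0, 0, 0], [0, 0, 1, 0, 0, 0, 0], [0, 0, 1, 1, 1, 0, 1], [0, 1, 0, 0, 0, 0, 0], [1, 0, 0, 0, 0, 0, 0], [1, 1, 0, 1, 1, 1, 1], [1, 1, 1, 1, 1, 1, 2]],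
   [[0, 0, 0, 0, 0, 1, 0], [0, 0, 0, 0, 0, 1, 1], [0, 0, 0, 0, 1, 0, 0], [0, 0, 0, 1, 0, 0, 0], [0, 0, 1, 0, 0, 0, 1], [0, 0, 1, 1, 1, 0, 1], [0, 1, 0, 0, 0, 0, 0], [1, 0, 0, 0, 0, 0, 0], [1, 1, 0, 1, 1, 1, 2], [1, 1, 1, 1, 1, 1, 1]],
   [[0, 0, 0, 0, 0, 1, 0], [0, 0, 0, 0, 0, 1, 1], [0, 0, 0, 1, 1, 0, 0], [0, 0, 1, 0, 1, 0, 1], [0, 0, 1, 1, 0, 0, 1], [0, 1, 0, 0, 0, 0, 0], [1, 0, 0, 0, 0, 0, 0], [1, 1, 0, 1, 1, 1, 2], [1, 1, 1, 1, 1, 1, 1]],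
   [[0, 0, 0, 0, 1, 0, 1], [0, 0, 0, 1, 0, 0, 1], [0, 0, 1, 0, 0, 0, 1], [0, 0, 1, 1, 1, 1, 1], [0, 1, 0, 0, 0, 1, 1], [1, 0, 0, 0, 0, 1, 1], [1, 1, 0, 1, 1, 1, 1], [1, 1, 1, 1, 1, 0, 1]]]
theorem chk6 : Gram.check 6 need6 8 kap cert6 st6 st7 = true := by decide +kernel

def need7 : List ℤ := [3, 3, 2, 4, 4, 3, 5]
def cert7 : List (List ℤ) := []
def st8 : List (List (List ℤ)) :=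
  [[[0, 0, 0, 0, 0, 0, 0, 1], [0, 0, 0, 0, 0, 0, 1, 0], [0, 0, 0, 0, 0, 1, 0, 0], [0, 0, 0, 0, 0, 1, 1, 0], [0, 0, 0, 0, 1, 0, 0, 0], [0, 0, 0, 1, 0, 0, 0, 0], [0, 0, 1, 0, 0, 0, 0, 0], [0, 0, 1, 1, 1, 0, 1, 1], [0, 1, 0, 0, 0, 0, 0, 0], [1, 0, 0, 0, 0, 0, 0, 0], [1, 1, 0, 1, 1, 1, 1, 2], [1, 1, 1, 1, 1, 1, 2, 1]],
   [[0, 0, 0, 0, 0, 0, 1, 0], [0, 0, 0, 0, 0, 1, 0, 0], [0, 0, 0, 0, 0, 1, 1, 0], [0, 0, 0, 0, 1, 0, 0, 1], [0, 0, 0, 1, 0, 0, 0, 1], [0, 0, 1, 0, 0, 0, 0, 0], [0, 0, 1, 1, 1, 0, 1, 0], [0, 1, 0, 0, 0, 0, 0, 0], [1, 0, 0, 0, 0, 0, 0, 0], [1, 1, 0, 1, 1, 1, 1, 1], [1, 1, 1, 1, 1, 1, 2, 2]]]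
theorem chk7 : Gram.check 7 need7 7 kap cert7 st7 st8 = true := by decide +kernel

def need8 : List ℤ := [1, 1, 1, 2, 2, 2, 3, 3]
def cert8 : List (List ℤ) := [[-1, 2, 0, 0, 0, 0, 0, 0, -1]]
def st9 : List (List (List ℤ)) :=
  [[[0, 0, 0, 0, 0, 0, 0, 0, 1], [0, 0, 0, 0, 0, 0, 0, 1, 0], [0, 0, 0, 0, 0, 0, 1, 0, 0], [0, 0, 0, 0, 0, 1, 0, 0, 0], [0, 0, 0, 0, 0, 1, 1, 0, 1], [0, 0, 0, 0, 1, 0, 0, 0, 0], [0, 0, 0, 1, 0, 0, 0, 0, 0], [0, 0, 1, 0, 0, 0, 0, 0, 0], [0, 0, 1, 1, 1, 0, 1, 1, 1], [0, 1, 0, 0, 0, 0, 0, 0, 0], [1, 0, 0, 0, 0, 0, 0, 0, 0], [1, 1, 0, 1, 1, 1, 1, 2, 1], [1, 1, 1, 1, 1, 1, 2, 1, 0]],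
   [[0, 0, 0, 0, 0, 0, 0, 1, 0], [0, 0, 0, 0, 0, 0, 1, 0, 1], [0, 0, 0, 0, 0, 1, 0, 0, 1], [0, 0, 0, 0, 0, 1, 1, 0, 0], [0, 0, 0, 0, 1, 0, 0, 0, 0], [0, 0, 0, 1, 0, 0, 0, 0, 0], [0, 0, 1, 0, 0, 0, 0, 0, 0], [0, 0, 1, 1, 1, 0, 1, 1, 1], [0, 1, 0, 0, 0, 0, 0, 0, 0], [1, 0, 0, 0, 0, 0, 0, 0, 0], [1, 1, 0, 1, 1, 1, 1, 2, 1], [1, 1, 1, 1, 1, 1, 2, 1, 0]]]
theorem chk8 : Gram.check 8 need8 4 kap cert8 st8 st9 = true := by decide +kernel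

end Cfsg.Agent.Solv.Special.Tbl
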