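import Cfsg.Agent.Lib.Solv.Special.Setup
import Cfsg.Agent.Lib.Solv.Special.Tables
import Cfsg.Agent.Lib.Solv.Special.Facts648
import Cfsg.Agent.Lib.Solv.Special.Alg648Top
import Cfsg.Agent.Lib.Solv.Special.Finish
import Cfsg.Agent.Lib.Char.KleinFour

/-!
A subgroup `3³ : S₄` containing the centralisers of the nontrivial elements of its normal three-subgroup `J`
is the whole group; fusion of `J` outside `J` is not restricted.
-/

set_option autoImplicit false
set_option linter.unusedSectionVars false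
set_option maxRecDepth 100000

namespace Cfsg.Agent.Solv.Special.W648

open Cfsg Cfsg.Agent.Char Cfsg.Agent.Solv.Special
open scoped ComplexConjugate

universe u

variable {G : Type u} [Group G] [Finite G]

/-- The hypotheses on the embedded group. -/
structure Emb (H J : Subgroup G) (e : H ≃* M648) : Prop where
  le : J ≤ H
  mem : ∀ x : H, (x : G) ∈ J ↔ rot (e x)
  cent : ∀ j ∈ J, j ≠ 1 → Subgroup.centralizer ({j} : Set G) ≤ H

theorem centCard_conj (k a : M648) : centCard (k * a * k⁻¹) = centCard a := by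
  refine Finset.card_nbij' (fun g => k⁻¹ * g * k) (fun g => k * g * k⁻¹) (fun g hg => ?_) (fun g hg => ?_)
    (fun g _ => by group) (fun g _ => by group)
  · simp only [Finset.coe_filter, Finset.mem_univ, true_and, Set.mem_setOf_eq] at hg ⊢
    calc k⁻¹ * g * k * a = k⁻¹ * (g * (k * a * k⁻¹)) * k := by group
      _ = k⁻¹ * (k * a * k⁻¹ * g) * k := by rw [hg]
      _ = _ := by group
  · simp only [Finset.coe_filter, Finset.mem_univ, true_and, Set.mem_setOf_eq] at hg ⊢
    calc k * g * k⁻¹ * (k * a * k⁻¹) = k * (g * a) * k⁻¹ := by group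
      _ = k * (a * g) * k⁻¹ := by rw [hg]
      _ = _ := by group

/-- Nontrivial elements of the normal subgroup with centralisers of the same order are conjugate. -/
theorem conj_of_centCard {a b : M648} (ha : rot a) (ha1 : a ≠ 1) (hb : rot b) (hb1 : b ≠ 1)
    (h : centCard a = centCard b) : ∃ k : M648, k * a * k⁻¹ = b := by
  obtain ⟨k, hk⟩ := rot_orbit a ha ha1
  obtain ⟨l, hl⟩ := rot_orbit b hb hb1
  obtain ⟨cA, cB, cC⟩ := centCards
  rw [← centCard_conj k a, ← centCard_conj l b] at h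
  have e : k * a * k⁻¹ = l * b * l⁻¹ := by
    rcases hk with hk | hk | hk <;> rcases hl with hl | hl | hl <;> rw [hk, hl] at h ⊢ <;>
      simp only [cA, cB, cC] at h <;> omega
  refine ⟨l⁻¹ * k, ?_⟩
  calc l⁻¹ * k * a * (l⁻¹ * k)⁻¹ = l⁻¹ * (k * a * k⁻¹) * l := by group
    _ = l⁻¹ * (l * b * l⁻¹) * l := by rw [e]
    _ = b := by group

variable {H J : Subgroup G} {e : H ≃* M648} (h : Emb H J e)

include h

theorem Emb.card_cent {j : G} (hj : j ∈ J) (hj1 : j ≠ 1) :
    Nat.card (Subgroup.centralizer ({j} : Set G)) = centCard (e ⟨j, h.le hj⟩) := by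
  rw [centCard, ← Fintype.card_subtype, ← Nat.card_eq_fintype_card]
  refine Nat.card_congr
    { toFun := fun g => ⟨e ⟨g.1, h.cent j hj hj1 g.2⟩, ?_⟩
      invFun := fun m => ⟨((e.symm m.1 : H) : G), ?_⟩
      left_inv := fun g => Subtype.ext (by simp)
      right_inv := fun m => Subtype.ext (by simp) }
  · rw [← map_mul, ← map_mul]
    exact congrArg e (Subtype.ext (Subgroup.mem_centralizer_singleton_iff.1 g.2))
  · rw [Subgroup.mem_centralizer_singleton_iff]
    have := congrArg (fun x => ((e.symm x : H) : G)) m.2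
    simpa using this

/-- Conjugation inside `J` comes from `H`. -/
theorem Emb.ctlJ {j : G} (hj : j ∈ J) (hj1 : j ≠ 1) {g : G} (ha : g * j * g⁻¹ ∈ J) : g ∈ H := by
  set a := g * j * g⁻¹ with hadef
  have ha1 : a ≠ 1 := fun z => hj1 (by
    have := congrArg (fun t => g⁻¹ * t * g) (hadef.symm.trans z)
    simpa [mul_assoc] using this)
  have hne : ∀ {x : G} (hx : x ∈ J), x ≠ 1 → e ⟨x, h.le hx⟩ ≠ 1 := fun hx hx1 z => hx1
    (congrArg Subtype.val (e.injective (z.trans (map_one e).symm)))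
  have hcard : Nat.card (Subgroup.centralizer ({j} : Set G)) =
      Nat.card (Subgroup.centralizer ({a} : Set G)) := by
    refine Nat.card_congr
      { toFun := fun x => ⟨g * x.1 * g⁻¹, ?_⟩
        invFun := fun x => ⟨g⁻¹ * x.1 * g, ?_⟩
        left_inv := fun x => Subtype.ext (by simp [mul_assoc])
        right_inv := fun x => Subtype.ext (by simp [mul_assoc]) }
    · have hx := Subgroup.mem_centralizer_singleton_iff.1 x.2
      rw [Subgroup.mem_centralizer_singleton_iff, hadef]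
      calc g * x.1 * g⁻¹ * (g * j * g⁻¹) = g * (x.1 * j) * g⁻¹ := by group
        _ = g * (j * x.1) * g⁻¹ := by rw [hx]
        _ = _ := by group
    · have hx := Subgroup.mem_centralizer_singleton_iff.1 x.2
      rw [Subgroup.mem_centralizer_singleton_iff]
      calc g⁻¹ * x.1 * g * j = g⁻¹ * (x.1 * a) * g := by
            show _ = g⁻¹ * (x.1 * (g * j * g⁻¹)) * g
            group
        _ = g⁻¹ * (a * x.1) * g := by rw [hx]
        _ = _ := by
            show g⁻¹ * (g * j * g⁻¹ * x.1) * g = _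
            group
  rw [h.card_cent hj hj1, h.card_cent ha ha1] at hcard
  obtain ⟨k, hk⟩ := conj_of_centCard ((h.mem ⟨j, h.le hj⟩).1 hj) (hne hj hj1)
    ((h.mem ⟨a, h.le ha⟩).1 ha) (hne ha ha1) hcard
  obtain ⟨k, rfl⟩ := e.surjective k
  rw [← map_mul, ← map_inv, ← map_mul] at hk
  have hk' : (k : G) * j * (k : G)⁻¹ = g * j * g⁻¹ := congrArg Subtype.val (e.injective hk)
  have hmem : (k : G)⁻¹ * g ∈ H := h.cent j hj hj1 (by
    rw [Subgroup.mem_centralizer_singleton_iff]
    calc (k : G)⁻¹ * g * j = (k : G)⁻¹ * (g * j * g⁻¹) * g := by group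
      _ = (k : G)⁻¹ * ((k : G) * j * (k : G)⁻¹) * g := by rw [hk']
      _ = _ := by group)
  simpa using H.mul_mem k.2 hmem

theorem Emb.ctl : Ctl H J := by
  refine Ctl.of_three (fun a ha => ?_) fun j hj hj1 g hg => h.ctlJ hj hj1 hg
  have := (rot_inv _ ((h.mem ⟨a, h.le ha⟩).1 ha)).2
  rw [← map_mul, ← map_mul, ← map_one e] at this
  exact congrArg Subtype.val (e.injective this)

variable [Fintype G] [Fintype H] [DecidableEq G]

omit h in
theorem card_H (e : H ≃* M648) : Nat.card H = 648 := by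
  rw [Nat.card_congr e.toEquiv, Nat.card_eq_fintype_card, card_M648]

omit h in
/-- The function on the subgroup. -/
noncomputable def fH (e : H ≃* M648) (r : Fin 9) (x : H) : ℂ := toR (fn r (e x))

omit h in
theorem fn_class (r : Fin 9) : IsClassFunction M648 fun m => toR (fn r m) := by
  obtain ⟨a, b, ha, hb, hab⟩ := gc_fn r
  intro x k
  have h1 := congrFun hab
  simp only [h1, Pi.sub_apply, isClassFunction_character ha x k, isClassFunction_character hb x k]

omit h in
theorem pair_sum (r : Fin 9) :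
    ∑ x ∈ invSet, ∑ y ∈ invSet, toR (fn r (x * y)) = ((-1944 * mult.getD r 0 : ℤ) : ℂ) := by
  classical
  have key : ∀ x ∈ invSet, ∑ y ∈ invSet, toR (fn r (x * y)) = ∑ y ∈ invSet, toR (fn r (irep x * y)) := by
    intro x hx
    obtain ⟨k, hk⟩ := irep_conj x hx
    have hsq : ∀ y : M648, ∀ l : M648, y * y = 1 → l⁻¹ * y * l * (l⁻¹ * y * l) = 1 := fun y l hy => by
      rw [show l⁻¹ * y * l * (l⁻¹ * y * l) = l⁻¹ * (y * y) * l by group, hy]; group
    refine Finset.sum_nbij' (fun y => k⁻¹ * y * k) (fun y => k * y * k⁻¹)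
      (fun y hy => Finset.mem_filter.2 ⟨Finset.mem_univ _, hsq y k (Finset.mem_filter.1 hy).2⟩)
      (fun y hy => Finset.mem_filter.2 ⟨Finset.mem_univ _, by
        simpa using hsq y k⁻¹ (Finset.mem_filter.1 hy).2⟩)
      (fun y _ => by group) (fun y _ => by group) (fun y _ => ?_)
    calc toR (fn r (x * y)) = toR (fn r (k * irep x * k⁻¹ * y)) := by rw [hk]
      _ = toR (fn r (k * (irep x * (k⁻¹ * y * k)) * k⁻¹)) := by
        rw [show k * irep x * k⁻¹ * y = k * (irep x * (k⁻¹ * y * k)) * k⁻¹ by group]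
      _ = _ := fn_class r _ _
  obtain ⟨c1, c2, c3, hef, he1, hf1⟩ := irep_count
  have hmem : ∀ x : M648, irep x ∈ ({1, f1, e1} : Finset M648) := fun x => by
    simp only [irep]; split_ifs <;> simp
  rw [Finset.sum_congr rfl key, ← Finset.sum_fiberwise_of_maps_to (fun x _ => hmem x)]
  have hg : ∀ c : M648, ∑ x ∈ invSet.filter (fun x => irep x = c),
      ∑ y ∈ invSet, toR (fn r (irep x * y)) =
        toR ((invSet.filter fun x => irep x = c).card • ∑ y ∈ invSet, fn r (c * y)) := fun c => by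
    rw [map_nsmul, map_sum, ← Finset.sum_const]
    exact Finset.sum_congr rfl fun x hx => by rw [(Finset.mem_filter.1 hx).2]
  rw [Finset.sum_congr rfl fun c _ => hg c, Finset.sum_insert (by simp [hf1.symm, he1.symm]),
    Finset.sum_pair hef.symm, c1, c2, c3, one_nsmul, ← map_add, ← map_add, ← add_assoc, pair_row r,
    toR_apply]
  simp

theorem Emb.exists_vec (r : Fin 9) :
    ∃ z : IrrCharacter G → ℤ,
      IsClassFunction H (fH e r) ∧ Supp H J (fH e r) ∧
      (∀ χ : IrrCharacter G, classInner (fH e r) (fun x : H => (χ : G → ℂ) x) = (z χ : ℂ)) ∧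
      indFun H (fH e r) = ∑ χ, (z χ : ℂ) • (χ : G → ℂ) ∧
      ∑ χ, (z χ : ℂ) * (χ : G → ℂ) 1 = 0 ∧ ∑ χ, (z χ : ℂ) * invSum (χ : G → ℂ) = 0 ∧
      ∑ χ, (z χ : ℂ) * (invSum (χ : G → ℂ) ^ 2 / (χ : G → ℂ) 1) =
        (H.index : ℂ) * ((-1944 * mult.getD r 0 : ℤ) : ℂ) := by
  classical
  obtain ⟨a, b, ha, hb, hab⟩ := gc_fn r
  have ha' := isCharacter_comp e.toMonoidHom ha
  have hb' := isCharacter_comp e.toMonoidHom hb
  have hfe : fH e r = a ∘ e.toMonoidHom - b ∘ e.toMonoidHom := funext fun x => congrFun hab (e x)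
  have hcl : IsClassFunction H (fH e r) := fun x k => by
    rw [hfe]
    simp only [Pi.sub_apply, isClassFunction_character ha' x k, isClassFunction_character hb' x k]
  have hsupp : Supp H J (fH e r) := by
    intro x hx
    have hpow : ∀ n : ℕ, rot (e x ^ n) → e x ^ n ≠ 1 → ∃ n : ℕ, (x : G) ^ n ∈ J ∧ (x : G) ^ n ≠ 1 :=
      fun n h1 h2 => ⟨n, (h.mem (x ^ n)).2 (by rwa [map_pow]), fun z => h2 (by
        rw [← map_pow, show x ^ n = 1 from Subtype.ext (by simpa using z), map_one])⟩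
    rcases fn_supp r (e x) (fun z => hx (by simp [fH, z])) with ⟨p, p1⟩ | ⟨p, p1⟩ | ⟨p, p1⟩ | ⟨p, p1⟩
    · exact hpow 1 (by rwa [pow_one]) (by rwa [pow_one])
    · exact hpow 2 (by rwa [pow_two]) (by rwa [pow_two])
    · exact hpow 3 (by rwa [pow_succ, pow_two]) (by rwa [pow_succ, pow_two])
    · exact hpow 4 (by rwa [pow_succ, pow_succ, pow_two]) (by rwa [pow_succ, pow_succ, pow_two])
  obtain ⟨z, h1, h2, h3, h4, h5⟩ := exists_coords ⟨_, _, ha', hb', hfe⟩ h.ctl hsupp (fun x hx => by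
    rw [fH, fn_sq (e x) (by rw [← map_mul, hx, map_one]) r, map_zero])
  refine ⟨z, hcl, hsupp, h1, h2, h3, h4, ?_⟩
  rw [h5, ← pair_sum r]
  congr 1
  have key : ∀ F : M648 → ℂ, ∑ x ∈ invs H, F (e x) = ∑ m ∈ invSet, F m := fun F =>
    Finset.sum_nbij' (fun x => e x) (fun m => e.symm m)
      (fun x hx => Finset.mem_filter.2 ⟨Finset.mem_univ _, by rw [← map_mul, mem_invs.1 hx, map_one]⟩)
      (fun m hm => mem_invs.2 (by rw [← map_mul, (Finset.mem_filter.1 hm).2, map_one]))
      (fun x _ => e.symm_apply_apply x) (fun m _ => e.apply_symm_apply m) (fun x _ => rfl)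
  simp only [fH, map_mul]
  rw [key (fun m => ∑ y ∈ invs H, toR (fn r (m * e y)))]
  exact Finset.sum_congr rfl fun m _ => key (fun n => toR (fn r (m * n)))

omit h in
theorem inner_eq (e : H ≃* M648) (f g : M648 → V2) :
    classInner (fun x : H => toR (f (e x))) (fun x : H => toR (g (e x))) = toR (dot2 f g) / 648 := by
  rw [classInner, card_H e, dot2, map_sum, div_eq_inv_mul]
  congr 1
  rw [← e.toEquiv.sum_comp (fun m => toR (mul2 (f m) (g m)))]
  exact Finset.sum_congr rfl fun x _ => by rw [conj_toR, toR_mul2]; rfl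

omit h in
theorem norm_char_le {χ : G → ℂ} (hχ : IsCharacter G χ) (g : G) : ‖χ g‖ ≤ (deg χ : ℝ) := by
  obtain ⟨n, ρ, rfl⟩ := hχ
  obtain ⟨b, μ, hn, -, htr⟩ := eigen_data ρ g
  have hd : ρ.character 1 = (deg ρ.character : ℂ) := char_one_eq_deg ⟨n, ρ, rfl⟩
  have hN : deg ρ.character = Module.finrank ℂ (Fin n → ℂ) := by
    rw [Representation.char_one] at hd; exact_mod_cast hd.symm
  rw [htr, hN]
  exact (norm_sum_le _ _).trans (by simp [hn])

/-- The degree is congruent to the weighted coordinates. -/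
theorem Emb.sum_deg [Fintype J] (χ : IrrCharacter G) (z : Fin 9 → ℤ)
    (hz : ∀ r, classInner (fH e r) (fun x : H => (χ : G → ℂ) x) = (z r : ℂ)) :
    ∃ k : ℕ, ∑ j : J, (χ : G → ℂ) j = 27 * (k : ℂ) ∧
      (deg (χ : G → ℂ) : ℤ) = ∑ r : Fin 9, deg9.getD r 0 * z r + 27 * k := by
  classical
  have hJ : Nat.card J = 27 := by
    rw [← card_rot, ← Fintype.card_subtype, ← Nat.card_eq_fintype_card]
    exact Nat.card_congr
      { toFun := fun j => ⟨e ⟨j.1, h.le j.2⟩, (h.mem _).1 j.2⟩
        invFun := fun m => ⟨((e.symm m.1 : H) : G), (h.mem _).2 (by simpa using m.2)⟩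
        left_inv := fun j => Subtype.ext (by simp)
        right_inv := fun m => Subtype.ext (by simp) }
  obtain ⟨k, hk⟩ : ∃ k : ℕ, classInner (fun j : J => (χ : G → ℂ) j) (fun _ : J => (1 : ℂ)) = (k : ℂ) :=
    classInner_natCast (isCharacter_comp J.subtype (irr_isCharacter χ.2)) isCharacter_one
  have hsum : ∑ j : J, (χ : G → ℂ) j = 27 * (k : ℂ) := by
    rw [← hk, classInner, hJ]
    simp
  refine ⟨k, hsum, ?_⟩
  have hS : ((∑ r : Fin 9, deg9.getD r 0 * z r : ℤ) : ℂ) =
      classInner (fun x : H => if rot (e x) ∧ e x ≠ 1 then (-648 : ℂ) else 0)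
        (fun x : H => (χ : G → ℂ) x) := by
    rw [Int.cast_sum]
    simp only [Int.cast_mul, ← hz, classInner, Finset.mul_sum]
    rw [Finset.sum_comm]
    refine Finset.sum_congr rfl fun x _ => ?_
    have h2 := congrArg toR (sum_J (e x))
    rw [map_sum] at h2
    have hsm : ∀ (n : ℤ) (v : V2), toR (n • v) = (n : ℂ) * toR v := fun n v => by
      simp [toR_apply, Prod.smul_fst, Prod.smul_snd]; ring
    simp only [hsm] at h2
    have h3 : toR (if rot (e x) ∧ e x ≠ 1 then (-648, 0) else 0) =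
        (if rot (e x) ∧ e x ≠ 1 then (-648 : ℂ) else 0) := by
      split_ifs <;> simp [toR_apply]
    rw [← h3, ← h2, Finset.sum_mul, Finset.mul_sum]
    exact Finset.sum_congr rfl fun r _ => by simp only [fH]; ring
  rw [classInner, card_H e] at hS
  have hflt : ∑ x : H, (if rot (e x) ∧ e x ≠ 1 then (-648 : ℂ) else 0) * conj ((χ : G → ℂ) x) =
      -648 * conj (∑ j : J, (χ : G → ℂ) j - (χ : G → ℂ) 1) := by
    simp only [ite_mul, zero_mul]
    have hs1 : ∑ j ∈ ({1} : Finset J)ᶜ, (χ : G → ℂ) j = ∑ j : J, (χ : G → ℂ) j - (χ : G → ℂ) 1 := by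
      rw [Fintype.sum_eq_add_sum_compl (1 : J)]; simp
    rw [← hs1, map_sum, ← Finset.sum_filter, ← Finset.mul_sum]
    congr 1
    refine Finset.sum_bij (fun x hx => ⟨x.1, (h.mem x).2 (Finset.mem_filter.1 hx).2.1⟩)
      (fun x hx => Finset.mem_compl.2 fun h1 => (Finset.mem_filter.1 hx).2.2 (by
        rw [show x = 1 from Subtype.ext
          ((congrArg Subtype.val (Finset.mem_singleton.1 h1 :)).trans rfl), map_one]))
      (fun _ _ _ _ e1 => Subtype.ext (congrArg Subtype.val e1 :))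
      (fun j hj => ⟨⟨j.1, h.le j.2⟩, Finset.mem_filter.2 ⟨Finset.mem_univ _, (h.mem _).1 j.2,
        fun z1 => Finset.mem_compl.1 hj (Finset.mem_singleton.2 (Subtype.ext
          (congrArg Subtype.val (e.injective (z1.trans (map_one e).symm)) :)))⟩, rfl⟩)
      (fun _ _ => rfl)
  rw [hflt, hsum, char_one_eq_deg (irr_isCharacter χ.2)] at hS
  simp only [map_sub, map_mul, map_natCast, map_ofNat] at hS
  have : ((∑ r : Fin 9, deg9.getD r 0 * z r : ℤ) : ℂ) = (((deg (χ : G → ℂ) : ℤ) - 27 * k : ℤ) : ℂ) := by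
    rw [hS]; push_cast; ring
  have := Int.cast_injective (α := ℂ) this
  omega

end Cfsg.Agent.Solv.Special.W648
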