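import Cfsg.Agent.Lib.Solv.Special.Z12
import Cfsg.Agent.Lib.Solv.Special.Model

/-!
The group `3³ : S₄` as the even part of a wreath product of symmetric groups of degree three.
-/

set_option autoImplicit false
set_option maxRecDepth 100000

namespace Cfsg.Agent.Solv.Special.W648

open Cfsg Cfsg.Agent.Char Cfsg.Agent.Solv.Special

/-- A tuple and a permutation of its places. -/
@[ext]
structure W where
  t : T3
  p : D3
  deriving DecidableEq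

/-- The places. -/
def pl (p : D3) (k : Fin 3) : Fin 3 := pi3 p k

/-- Move the places. -/
def perm (p : D3) (u : T3) : T3 := (co (pl p⁻¹ 0) u, co (pl p⁻¹ 1) u, co (pl p⁻¹ 2) u)

theorem co_perm (p : D3) (u : T3) (k : Fin 3) : co k (perm p u) = co (pl p⁻¹ k) u := by
  fin_cases k <;> rfl

theorem ext3 {a b : T3} (h : ∀ k, co k a = co k b) : a = b :=
  Prod.ext (h 0) (Prod.ext (h 1) (h 2))

theorem pl_mul : ∀ (p q : D3) (k : Fin 3), pl (p * q)⁻¹ k = pl q⁻¹ (pl p⁻¹ k) := by decide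
theorem pl_one : ∀ k : Fin 3, pl (1 : D3) k = k := by decide

instance : Mul W := ⟨fun g h => ⟨g.t * perm g.p h.t, g.p * h.p⟩⟩
instance : One W := ⟨⟨1, 1⟩⟩
instance : Inv W := ⟨fun g => ⟨perm g.p⁻¹ g.t⁻¹, g.p⁻¹⟩⟩

theorem mul_t (g h : W) : (g * h).t = g.t * perm g.p h.t := rfl
theorem mul_p (g h : W) : (g * h).p = g.p * h.p := rfl
theorem one_t : (1 : W).t = 1 := rfl
theorem one_p : (1 : W).p = 1 := rfl

instance : Group W where
  mul_assoc a b c := W.ext (ext3 fun k => by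
    simp only [mul_t, mul_p, map_mul, co_perm, pl_mul, mul_assoc]) (mul_assoc _ _ _)
  one_mul a := W.ext (ext3 fun k => by
    simp only [mul_t, one_t, one_p, map_mul, co_perm, inv_one, pl_one, map_one, one_mul])
    (one_mul _)
  mul_one a := W.ext (ext3 fun k => by
    simp only [mul_t, one_t, map_mul, co_perm, map_one, mul_one]) (mul_one _)
  inv_mul_cancel a := W.ext (ext3 fun k => by
    show co k (perm a.p⁻¹ a.t⁻¹ * perm a.p⁻¹ a.t) = co k 1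
    simp only [map_mul, co_perm, map_inv, inv_mul_cancel, map_one]) (inv_mul_cancel _)

instance : Fintype W :=
  Fintype.ofEquiv (T3 × D3)
    { toFun := fun x => ⟨x.1, x.2⟩, invFun := fun g => (g.t, g.p) }

/-- The sign. -/
def sgnW (g : W) : ℤ := sgn g.t.1 * sgn g.t.2.1 * sgn g.t.2.2 * sgn g.p

theorem sgnW_perm : ∀ (p : D3) (u : T3),
    sgn (perm p u).1 * sgn (perm p u).2.1 * sgn (perm p u).2.2 = sgn u.1 * sgn u.2.1 * sgn u.2.2 := by
  intro p u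
  show sgn (co (pl p⁻¹ 0) u) * sgn (co (pl p⁻¹ 1) u) * sgn (co (pl p⁻¹ 2) u) =
    sgn (co 0 u) * sgn (co 1 u) * sgn (co 2 u)
  have key : ∀ q : D3, (pl q 0 = 0 ∧ pl q 1 = 1 ∧ pl q 2 = 2) ∨ (pl q 0 = 1 ∧ pl q 1 = 2 ∧ pl q 2 = 0) ∨
    (pl q 0 = 2 ∧ pl q 1 = 0 ∧ pl q 2 = 1) ∨ (pl q 0 = 0 ∧ pl q 1 = 2 ∧ pl q 2 = 1) ∨
    (pl q 0 = 2 ∧ pl q 1 = 1 ∧ pl q 2 = 0) ∨ (pl q 0 = 1 ∧ pl q 1 = 0 ∧ pl q 2 = 2) := by decide
  rcases key p⁻¹ with ⟨a, b, c⟩ | ⟨a, b, c⟩ | ⟨a, b, c⟩ | ⟨a, b, c⟩ | ⟨a, b, c⟩ | ⟨a, b, c⟩ <;>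
    rw [a, b, c] <;> ring

theorem sgnW_mul (a b : W) : sgnW (a * b) = sgnW a * sgnW b := by
  have h1 : sgnW (a * b) = sgn a.t.1 * sgn (perm a.p b.t).1 * (sgn a.t.2.1 * sgn (perm a.p b.t).2.1) *
      (sgn a.t.2.2 * sgn (perm a.p b.t).2.2) * (sgn a.p * sgn b.p) := by
    simp only [sgnW, mul_t, mul_p, Prod.fst_mul, Prod.snd_mul, map_mul]
  rw [h1, sgnW, sgnW, ← sgnW_perm a.p b.t]
  ring

theorem sgnW_one : sgnW 1 = 1 := by decide

/-- The even part. -/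
def M648 : Subgroup W where
  carrier := {g | sgnW g = 1}
  one_mem' := sgnW_one
  mul_mem' := fun {a b} ha hb => by
    simp only [Set.mem_setOf_eq] at *
    rw [sgnW_mul, ha, hb, one_mul]
  inv_mem' := fun {a} ha => by
    simp only [Set.mem_setOf_eq] at *
    have h := sgnW_mul a⁻¹ a
    rw [inv_mul_cancel, sgnW_one, ha, mul_one] at h
    exact h.symm

instance : DecidablePred (· ∈ M648) := fun g => decidable_of_iff (sgnW g = 1) Iff.rfl

/-- The rotation number. -/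
def idx : D3 → ZMod 3
  | .r i => i
  | .sr i => i

/-- The normal subgroup of order 27. -/
def rot (m : M648) : Prop :=
  (m : W).p = 1 ∧ isRot (m : W).t.1 = true ∧ isRot (m : W).t.2.1 = true ∧ isRot (m : W).t.2.2 = true

instance : DecidablePred rot := fun m => inferInstanceAs (Decidable (_ ∧ _))

def tt (k : Fin 3) (m : M648) : D3 := co k (m : W).t
def pp (m : M648) : D3 := (m : W).p

/-- Stabilisers. -/
def S1 : Subgroup M648 where
  carrier := {m | pl (pp m) 0 = 0 ∧ isRot (tt 0 m) = true}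
  one_mem' := by decide +kernel
  mul_mem' := fun {a b} ha hb => (show ∀ a : M648, pl (pp a) 0 = 0 ∧ isRot (tt 0 a) = true →
      ∀ b : M648, pl (pp b) 0 = 0 ∧ isRot (tt 0 b) = true →
        pl (pp (a * b)) 0 = 0 ∧ isRot (tt 0 (a * b)) = true by decide +kernel) a ha b hb
  inv_mem' := fun {a} ha => (show ∀ a : M648, pl (pp a) 0 = 0 ∧ isRot (tt 0 a) = true →
      pl (pp a⁻¹) 0 = 0 ∧ isRot (tt 0 a⁻¹) = true by decide +kernel) a ha

instance : DecidablePred (· ∈ S1) := fun m =>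
  decidable_of_iff (pl (pp m) 0 = 0 ∧ isRot (tt 0 m) = true) Iff.rfl

/-- Stabilisers. -/
def S2 : Subgroup M648 where
  carrier := {m | isRot (pp m) = true ∧ isRot (tt 0 m) = true ∧ isRot (tt 1 m) = true ∧ isRot (tt 2 m) = true}
  one_mem' := by decide +kernel
  mul_mem' := fun {a b} ha hb => (show ∀ a : M648,
      (isRot (pp a) = true ∧ isRot (tt 0 a) = true ∧ isRot (tt 1 a) = true ∧ isRot (tt 2 a) = true) →
      ∀ b : M648, (isRot (pp b) = true ∧ isRot (tt 0 b) = true ∧ isRot (tt 1 b) = true ∧ isRot (tt 2 b) = true) →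
        (isRot (pp (a * b)) = true ∧ isRot (tt 0 (a * b)) = true ∧ isRot (tt 1 (a * b)) = true ∧
          isRot (tt 2 (a * b)) = true) by decide +kernel) a ha b hb
  inv_mem' := fun {a} ha => (show ∀ a : M648,
      (isRot (pp a) = true ∧ isRot (tt 0 a) = true ∧ isRot (tt 1 a) = true ∧ isRot (tt 2 a) = true) →
      (isRot (pp a⁻¹) = true ∧ isRot (tt 0 a⁻¹) = true ∧ isRot (tt 1 a⁻¹) = true ∧
          isRot (tt 2 a⁻¹) = true) by decide +kernel) a ha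

instance : DecidablePred (· ∈ S2) := fun m =>
  decidable_of_iff (isRot (pp m) = true ∧ isRot (tt 0 m) = true ∧ isRot (tt 1 m) = true ∧ isRot (tt 2 m) = true) Iff.rfl

/-- Stabilisers. -/
def S3 : Subgroup M648 where
  carrier := {m | pl (pp m) 2 = 2 ∧ isRot (tt 0 m) = true ∧ isRot (tt 1 m) = true}
  one_mem' := by decide +kernel
  mul_mem' := fun {a b} ha hb => (show ∀ a : M648,
      (pl (pp a) 2 = 2 ∧ isRot (tt 0 a) = true ∧ isRot (tt 1 a) = true) →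
      ∀ b : M648, (pl (pp b) 2 = 2 ∧ isRot (tt 0 b) = true ∧ isRot (tt 1 b) = true) →
        (pl (pp (a * b)) 2 = 2 ∧ isRot (tt 0 (a * b)) = true ∧ isRot (tt 1 (a * b)) = true)
      by decide +kernel) a ha b hb
  inv_mem' := fun {a} ha => (show ∀ a : M648,
      (pl (pp a) 2 = 2 ∧ isRot (tt 0 a) = true ∧ isRot (tt 1 a) = true) →
      (pl (pp a⁻¹) 2 = 2 ∧ isRot (tt 0 a⁻¹) = true ∧ isRot (tt 1 a⁻¹) = true)
      by decide +kernel) a ha

instance : DecidablePred (· ∈ S3) := fun m =>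
  decidable_of_iff (pl (pp m) 2 = 2 ∧ isRot (tt 0 m) = true ∧ isRot (tt 1 m) = true) Iff.rfl

/-- Stabilisers. -/
def S4 : Subgroup M648 where
  carrier := {m | pl (pp m) 0 = 0}
  one_mem' := by decide +kernel
  mul_mem' := fun {a b} ha hb => (show ∀ a b : D3, pl a 0 = 0 → pl b 0 = 0 → pl (a * b) 0 = 0 by decide)
    (pp a) (pp b) ha hb
  inv_mem' := fun {a} ha => (show ∀ a : D3, pl a 0 = 0 → pl a⁻¹ 0 = 0 by decide) (pp a) ha

instance : DecidablePred (· ∈ S4) := fun m => decidable_of_iff (pl (pp m) 0 = 0) Iff.rfl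

/-- The angle of the quarter turn. -/
def c4 (m : M648) : ZMod 12 :=
  if pp m = 1 then (if sgn (tt 1 m) = 1 then 0 else 6) else (if sgn (tt 1 m) = 1 then 3 else 9)

def i4 (p : D3) : ZMod 12 := 4 * ((idx p).val : ZMod 12)
def odd6 (p : D3) : ZMod 12 := if isRot p = true then 0 else 6

/-- Exponents of linear characters of the stabilisers. -/
def lam : Fin 11 → M648 → ZMod 12
  | 0 => fun m => i4 (tt 0 m)
  | 1 => fun m => i4 (tt 0 m) + odd6 (pp m)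
  | 2 => fun m => i4 (tt 0 m) + c4 m
  | 3 => fun m => i4 (tt 0 m) + 3 * c4 m
  | 4 => fun m => i4 (tt 0 m) + i4 (tt 1 m) + i4 (tt 2 m)
  | 5 => fun m => i4 (tt 0 m) + i4 (tt 1 m) + i4 (tt 2 m) + i4 (pp m)
  | 6 => fun m => i4 (tt 0 m) + i4 (tt 1 m) + i4 (tt 2 m) + 2 * i4 (pp m)
  | 7 => fun m => i4 (tt 0 m) + i4 (tt 1 m)
  | 8 => fun m => i4 (tt 0 m) + i4 (tt 1 m) + odd6 (pp m)
  | 9 => fun _ => 0
  | _ => fun m => odd6 (tt 0 m)

def mkM (t : T3) (p : D3) : M648 := if h : (⟨t, p⟩ : W) ∈ M648 then ⟨_, h⟩ else 1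

/-- Transversals. -/
def rep1 : Fin 6 → M648 :=
  ![mkM (.r 0, .r 0, .r 0) (.r 0),
    mkM (.r 0, .r 0, .r 0) (.r 1),
    mkM (.r 0, .r 0, .r 0) (.r 2),
    mkM (.r 0, .r 0, .sr 0) (.sr 1),
    mkM (.r 0, .sr 0, .r 0) (.sr 2),
    mkM (.sr 0, .r 0, .r 0) (.sr 0)]

/-- Transversals. -/
def rep2 : Fin 8 → M648 :=
  ![mkM (.r 0, .r 0, .r 0) (.r 0),
    mkM (.r 0, .r 0, .sr 0) (.sr 0),
    mkM (.r 0, .sr 0, .r 0) (.sr 0),
    mkM (.r 0, .sr 0, .sr 0) (.r 0),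
    mkM (.sr 0, .r 0, .r 0) (.sr 0),
    mkM (.sr 0, .r 0, .sr 0) (.r 0),
    mkM (.sr 0, .sr 0, .r 0) (.r 0),
    mkM (.sr 0, .sr 0, .sr 0) (.sr 0)]

/-- Transversals. -/
def rep3 : Fin 12 → M648 :=
  ![mkM (.r 0, .r 0, .r 0) (.r 0),
    mkM (.r 0, .r 0, .r 0) (.r 1),
    mkM (.r 0, .r 0, .r 0) (.r 2),
    mkM (.r 0, .r 0, .sr 0) (.sr 0),
    mkM (.r 0, .r 0, .sr 0) (.sr 1),
    mkM (.r 0, .sr 0, .r 0) (.sr 1),
    mkM (.r 0, .sr 0, .r 0) (.sr 2),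
    mkM (.r 0, .sr 0, .sr 0) (.r 1),
    mkM (.sr 0, .r 0, .r 0) (.sr 0),
    mkM (.sr 0, .r 0, .r 0) (.sr 2),
    mkM (.sr 0, .r 0, .sr 0) (.r 2),
    mkM (.sr 0, .sr 0, .r 0) (.r 0)]

/-- Transversals. -/
def rep4 : Fin 3 → M648 :=
  ![mkM (.r 0, .r 0, .r 0) (.r 0),
    mkM (.r 0, .r 0, .r 0) (.r 1),
    mkM (.r 0, .r 0, .r 0) (.r 2)]

theorem hom0 : ∀ a : M648, a ∈ S1 → ∀ b : M648, b ∈ S1 → lam 0 (a * b) = lam 0 a + lam 0 b := by
  decide +kernel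
theorem hom1 : ∀ a : M648, a ∈ S1 → ∀ b : M648, b ∈ S1 → lam 1 (a * b) = lam 1 a + lam 1 b := by
  decide +kernel
theorem hom2 : ∀ a : M648, a ∈ S1 → ∀ b : M648, b ∈ S1 → lam 2 (a * b) = lam 2 a + lam 2 b := by
  decide +kernel
theorem hom3 : ∀ a : M648, a ∈ S1 → ∀ b : M648, b ∈ S1 → lam 3 (a * b) = lam 3 a + lam 3 b := by
  decide +kernel
theorem hom4 : ∀ a : M648, a ∈ S2 → ∀ b : M648, b ∈ S2 → lam 4 (a * b) = lam 4 a + lam 4 b := by
  decide +kernel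
theorem hom5 : ∀ a : M648, a ∈ S2 → ∀ b : M648, b ∈ S2 → lam 5 (a * b) = lam 5 a + lam 5 b := by
  decide +kernel
theorem hom6 : ∀ a : M648, a ∈ S2 → ∀ b : M648, b ∈ S2 → lam 6 (a * b) = lam 6 a + lam 6 b := by
  decide +kernel
theorem hom7 : ∀ a : M648, a ∈ S3 → ∀ b : M648, b ∈ S3 → lam 7 (a * b) = lam 7 a + lam 7 b := by
  decide +kernel
theorem hom8 : ∀ a : M648, a ∈ S3 → ∀ b : M648, b ∈ S3 → lam 8 (a * b) = lam 8 a + lam 8 b := by
  decide +kernel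
theorem hom9 : ∀ a : M648, a ∈ S4 → ∀ b : M648, b ∈ S4 → lam 9 (a * b) = lam 9 a + lam 9 b := by
  decide +kernel
theorem hom10 : ∀ a : M648, a ∈ S4 → ∀ b : M648, b ∈ S4 → lam 10 (a * b) = lam 10 a + lam 10 b := by
  decide +kernel
theorem inj1 : ∀ i j, (rep1 i)⁻¹ * rep1 j ∈ S1 → i = j := by decide +kernel
theorem surj1 : ∀ g, ∃ i, (rep1 i)⁻¹ * g ∈ S1 := by decide +kernel
theorem inj2 : ∀ i j, (rep2 i)⁻¹ * rep2 j ∈ S2 → i = j := by decide +kernel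
theorem surj2 : ∀ g, ∃ i, (rep2 i)⁻¹ * g ∈ S2 := by decide +kernel
theorem inj3 : ∀ i j, (rep3 i)⁻¹ * rep3 j ∈ S3 → i = j := by decide +kernel
theorem surj3 : ∀ g, ∃ i, (rep3 i)⁻¹ * g ∈ S3 := by decide +kernel
theorem inj4 : ∀ i j, (rep4 i)⁻¹ * rep4 j ∈ S4 → i = j := by decide +kernel
theorem surj4 : ∀ g, ∃ i, (rep4 i)⁻¹ * g ∈ S4 := by decide +kernel

/-- The monomial characters. -/
def mono : Fin 11 → M648 → Z12
  | 0 => monoVal S1 (lam 0) rep1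
  | 1 => monoVal S1 (lam 1) rep1
  | 2 => monoVal S1 (lam 2) rep1
  | 3 => monoVal S1 (lam 3) rep1
  | 4 => monoVal S2 (lam 4) rep2
  | 5 => monoVal S2 (lam 5) rep2
  | 6 => monoVal S2 (lam 6) rep2
  | 7 => monoVal S3 (lam 7) rep3
  | 8 => monoVal S3 (lam 8) rep3
  | 9 => monoVal S4 (lam 9) rep4
  | 10 => monoVal S4 (lam 10) rep4

theorem isCharacter_monos : ∀ i, IsCharacter M648 fun g => Z12.toC (mono i g)
  | 0 => isCharacter_mono S1 (lam 0) rep1 hom0 inj1 surj1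
  | 1 => isCharacter_mono S1 (lam 1) rep1 hom1 inj1 surj1
  | 2 => isCharacter_mono S1 (lam 2) rep1 hom2 inj1 surj1
  | 3 => isCharacter_mono S1 (lam 3) rep1 hom3 inj1 surj1
  | 4 => isCharacter_mono S2 (lam 4) rep2 hom4 inj2 surj2
  | 5 => isCharacter_mono S2 (lam 5) rep2 hom5 inj2 surj2
  | 6 => isCharacter_mono S2 (lam 6) rep2 hom6 inj2 surj2
  | 7 => isCharacter_mono S3 (lam 7) rep3 hom7 inj3 surj3
  | 8 => isCharacter_mono S3 (lam 8) rep3 hom8 inj3 surj3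
  | 9 => isCharacter_mono S4 (lam 9) rep4 hom9 inj4 surj4
  | 10 => isCharacter_mono S4 (lam 10) rep4 hom10 inj4 surj4

end Cfsg.Agent.Solv.Special.W648
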