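import Cfsg.Agent.Lib.Char.Exceptional
import Cfsg.Agent.Lib.Char.GroupAlg
import Cfsg.Agent.Lib.Char.Induction
import Cfsg.Agent.Lib.Char.Coherence

/-!
Special classes of a subgroup controlling its fusion, and sums over pairs of involutions.
-/

set_option autoImplicit false
set_option linter.unusedSectionVars false

namespace Cfsg.Agent.Solv.Special

open Cfsg Cfsg.Agent.Char
open scoped ComplexConjugate

universe u

variable {G : Type u} [Group G]

/-- The elements with a nontrivial power in `J`. -/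
def Dom (J : Subgroup G) (x : G) : Prop :=
  ∃ n : ℕ, x ^ n ∈ J ∧ x ^ n ≠ 1

/-- Conjugation sends such an element of `H` to another one only from inside `H`. -/
def Ctl (H J : Subgroup G) : Prop :=
  ∀ x : G, x ∈ H → Dom J x → ∀ g : G, g * x * g⁻¹ ∈ H → Dom J (g * x * g⁻¹) → g ∈ H

/-- It suffices that conjugation can send a nontrivial element of `J` into `H` only from inside `H`. -/
theorem Ctl.of_forall {H J : Subgroup G}
    (h : ∀ j ∈ J, j ≠ 1 → ∀ g : G, g * j * g⁻¹ ∈ H → g ∈ H) : Ctl H J := by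
  rintro x - ⟨n, hn, hn1⟩ g hg -
  exact h _ hn hn1 g (by rw [← conj_pow]; exact H.pow_mem hg n)

/-- When `J` has exponent three it suffices to look at conjugations inside `J`. -/
theorem Ctl.of_three [Finite G] {H J : Subgroup G} (h3 : ∀ j ∈ J, j * j * j = 1)
    (h : ∀ j ∈ J, j ≠ 1 → ∀ g : G, g * j * g⁻¹ ∈ J → g ∈ H) : Ctl H J := by
  rintro x - ⟨n, hn, hn1⟩ g - ⟨m, hm, hm1⟩
  rw [conj_pow] at hm hm1
  refine h _ hn hn1 g ?_
  have hb1 : x ^ m ≠ 1 := fun z => hm1 (by rw [z]; group)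
  have hc3 : g * (x ^ m * x ^ m * x ^ m) * g⁻¹ = 1 := by
    rw [← h3 _ hm]; group
  have hb3 : x ^ (3 * m) = 1 := by
    have := congrArg (fun t => g⁻¹ * t * g) hc3
    rw [show 3 * m = m + m + m by ring, pow_add, pow_add]
    simpa [mul_assoc] using this
  have ha3 : x ^ (3 * n) = 1 := by
    rw [show 3 * n = n + n + n by ring, pow_add, pow_add, h3 _ hn]
  obtain ⟨k, hk⟩ := orderOf_dvd_of_pow_eq_one ha3
  obtain ⟨l, hl⟩ := orderOf_dvd_of_pow_eq_one hb3
  have h3N : 3 ∣ orderOf x := by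
    by_contra hnd
    have hcop : Nat.Coprime (orderOf x) 3 := (Nat.prime_three.coprime_iff_not_dvd.2 hnd).symm
    have : orderOf x ∣ n := hcop.dvd_of_dvd_mul_left ⟨k, hk⟩
    exact hn1 (orderOf_dvd_iff_pow_eq_one.1 this)
  obtain ⟨e, he⟩ := h3N
  have hne : n = e * k := by nlinarith [hk, he]
  have hme : m = e * l := by nlinarith [hl, he]
  have hl3 : ¬ 3 ∣ l := fun ⟨i, hi⟩ => hb1 (by
    rw [hme, hi, show e * (3 * i) = orderOf x * i by rw [he]; ring, pow_mul, pow_orderOf_eq_one, one_pow])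
  obtain ⟨i, hi⟩ : ∃ i, l * l = 3 * i + 1 := ⟨l * l / 3, by
    have : l % 3 = 1 ∨ l % 3 = 2 := by omega
    have : l * l % 3 = 1 := by rw [Nat.mul_mod]; rcases this with r | r <;> rw [r]
    omega⟩
  have hxn : x ^ n = (x ^ m) ^ (k * l) := by
    rw [← pow_mul, show m * (k * l) = n + orderOf x * (i * k) by rw [hme, hne, he]; linear_combination (e * k) * hi,
      pow_add, pow_mul, pow_orderOf_eq_one, one_pow, mul_one]
  rw [hxn, ← conj_pow]
  exact J.pow_mem hm _

/-- A function living on the elements with a power in `J`. -/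
def Supp (H J : Subgroup G) (α : H → ℂ) : Prop :=
  ∀ h : H, α h ≠ 0 → ∃ n : ℕ, (h : G) ^ n ∈ J ∧ (h : G) ^ n ≠ 1

section

variable {H J : Subgroup G} {α β : H → ℂ}

theorem mem_of_supp (hc : Ctl H J) (hs : Supp H J α) {h : H} (hh : α h ≠ 0) {g : G}
    (hg : g * (h : G) * g⁻¹ ∈ H) (hgD : Dom J (g * (h : G) * g⁻¹)) : g ∈ H :=
  hc _ h.2 (hs h hh) g hg hgD

/-- Inverting such an element forces an element into `H`. -/
theorem mem_of_invert (hc : Ctl H J) (hs : Supp H J α) {x y : G} (hx : x * x = 1) (hy : y * y = 1)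
    {h : H} (hh : α h ≠ 0) (hxy : x * y = (h : G)) : x ∈ H ∧ y ∈ H := by
  have e : x * (h : G) * x⁻¹ = (h : G)⁻¹ := by
    rw [← hxy, inv_eq_of_mul_eq_one_right hx, ← mul_assoc x x y, hx, one_mul,
      show y * x = (x * y)⁻¹ by
        rw [mul_inv_rev, inv_eq_of_mul_eq_one_right hx, inv_eq_of_mul_eq_one_right hy]]
  obtain ⟨n, hn, hn1⟩ := hs h hh
  have hxH : x ∈ H := mem_of_supp hc hs hh (g := x) (by rw [e]; exact H.inv_mem h.2)
    ⟨n, by rw [e, inv_pow]; exact J.inv_mem hn, by rwa [e, inv_pow, inv_ne_one]⟩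
  refine ⟨hxH, ?_⟩
  have : y = x⁻¹ * (h : G) := by rw [← hxy, inv_mul_cancel_left]
  rw [this]
  exact H.mul_mem (H.inv_mem hxH) h.2

variable [Fintype G] [Fintype H]

theorem indFun_eq (hc : Ctl H J) (hs : Supp H J α) (hα : IsClassFunction H α) (h : H)
    (hD : Dom J (h : G)) : indFun H α h = α h := by
  classical
  have key : ∀ k : G, extendByZero H α (k⁻¹ * (h : G) * k) = if k ∈ H then α h else 0 := by
    intro k
    split_ifs with hk
    · rw [extendByZero_mem H α (H.mul_mem (H.mul_mem (H.inv_mem hk) h.2) hk)]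
      rw [← hα h ⟨k⁻¹, H.inv_mem hk⟩]
      congr 1
      exact Subtype.ext (by simp)
    · by_cases hm : k⁻¹ * (h : G) * k ∈ H
      · rw [extendByZero_mem H α hm]
        by_contra hne
        have e : k * (k⁻¹ * (h : G) * k) * k⁻¹ = (h : G) := by group
        refine hk (mem_of_supp hc hs hne (g := k) ?_ ?_)
        · show k * (k⁻¹ * (h : G) * k) * k⁻¹ ∈ H
          rw [e]
          exact h.2
        · show Dom J (k * (k⁻¹ * (h : G) * k) * k⁻¹)
          rw [e]
          exact hD
      · exact extendByZero_not_mem H α hm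
  rw [indFun]
  simp only [key, Finset.sum_ite, Finset.sum_const_zero, add_zero, Finset.sum_const, nsmul_eq_mul]
  rw [← Fintype.card_subtype, ← Nat.card_eq_fintype_card, ← mul_assoc,
    show Nat.card {x : G // x ∈ H} = Nat.card H from rfl,
    inv_mul_cancel₀ (Nat.cast_ne_zero.mpr Nat.card_pos.ne'), one_mul]

/-- Induction is an isometry on these functions. -/
theorem isometry (hc : Ctl H J) (hα : Supp H J α) (hs : Supp H J β) (hβ : IsClassFunction H β) :
    classInner (indFun H α) (indFun H β) = classInner α β := by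
  rw [frobenius H α (isClassFunction_indFun H β)]
  simp only [classInner]
  congr 1
  refine Finset.sum_congr rfl fun h _ => ?_
  by_cases h0 : α h = 0
  · simp [h0]
  · rw [indFun_eq hc hs hβ h (hα h h0)]

theorem indFun_vanish {g : G} (hg : g * g = 1)
    (h2 : ∀ h : H, h * h = 1 → α h = 0) : indFun H α g = 0 := by
  rw [indFun, Finset.sum_eq_zero, mul_zero]
  intro x _
  by_cases hm : x⁻¹ * g * x ∈ H
  · rw [extendByZero_mem H α hm]
    refine h2 _ (Subtype.ext ?_)
    show x⁻¹ * g * x * (x⁻¹ * g * x) = 1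
    rw [show x⁻¹ * g * x * (x⁻¹ * g * x) = x⁻¹ * (g * g) * x by group, hg]
    group
  · exact extendByZero_not_mem H α hm

end

section Pairs

variable [Fintype G]

open scoped Classical in
/-- The elements of square one. -/
noncomputable def invs (G : Type u) [Group G] [Fintype G] : Finset G :=
  Finset.univ.filter fun g => g * g = 1

theorem mem_invs {g : G} : g ∈ invs G ↔ g * g = 1 := by simp [invs]

/-- The sum of a function over the elements of square one. -/
noncomputable def invSum (f : G → ℂ) : ℂ := ∑ x ∈ invs G, f x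

theorem invSum_one : invSum (fun _ : G => (1 : ℂ)) = ((invs G).card : ℂ) := by
  simp [invSum]

/-- Pairs of elements of square one weighted by a character. -/
theorem pair_sum_irr (χ : IrrCharacter G) :
    ∑ x ∈ invs G, ∑ y ∈ invs G, (χ : G → ℂ) (x * y) =
      invSum (χ : G → ℂ) ^ 2 / (χ : G → ℂ) 1 := by
  classical
  obtain ⟨n, ρ, hρ, hχ⟩ := χ.2
  have := hρ
  set f : G → ℂ := fun g => if g * g = 1 then 1 else 0 with hf
  have hfc : IsClassFunction G f := fun g k => by
    simp only [hf]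
    congr 1
    rw [show k * g * k⁻¹ * (k * g * k⁻¹) = k * (g * g) * k⁻¹ by group]
    exact propext ⟨fun e => by
      have := congrArg (fun t => k⁻¹ * t * k) e
      simpa [mul_assoc] using this, fun e => by rw [e]; group⟩
  have hop := rep_sum_eq_lam ρ hfc
  have e1 : (∑ g : G, f g • ρ g) = ∑ g ∈ invs G, ρ g := by
    rw [invs, Finset.sum_filter]
    exact Finset.sum_congr rfl fun g _ => by simp only [hf]; split_ifs <;> simp
  have e2 : ∑ g : G, f g * (χ : G → ℂ) g = invSum (χ : G → ℂ) := by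
    rw [invSum, invs, Finset.sum_filter]
    exact Finset.sum_congr rfl fun g _ => by simp only [hf]; split_ifs <;> simp
  rw [e1] at hop
  have hsq := congrArg (fun T => LinearMap.trace ℂ (Fin n → ℂ) (T * T)) hop
  simp only [Finset.sum_mul_sum, ← map_mul, map_sum, smul_mul_smul_comm, ← Module.End.one_eq_id,
    mul_one, map_smul, LinearMap.trace_one, smul_eq_mul] at hsq
  have hn : ((Module.finrank ℂ (Fin n → ℂ) : ℕ) : ℂ) = (χ : G → ℂ) 1 := by
    rw [← hχ, Representation.char_one]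
  rw [hn] at hsq
  rw [lam, hχ, e2] at hsq
  have hne := irr_one_ne_zero χ.2
  calc ∑ x ∈ invs G, ∑ y ∈ invs G, (χ : G → ℂ) (x * y)
      = ∑ x ∈ invs G, ∑ y ∈ invs G, LinearMap.trace ℂ (Fin n → ℂ) (ρ (x * y)) := by
        simp only [← hχ]; rfl
    _ = _ := by rw [hsq]; field_simp

/-- Pairs of elements of square one weighted by an induced function. -/
theorem pair_sum_ind {H J : Subgroup G} [Fintype H] [DecidableEq G] {α : H → ℂ} (hc : Ctl H J)
    (hs : Supp H J α) :
    ∑ x ∈ invs G, ∑ y ∈ invs G, indFun H α (x * y) = (H.index : ℂ) *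
      ∑ x ∈ invs H, ∑ y ∈ invs H, α (x * y) := by
  classical
  have hconj : ∀ k : G, ∀ F : G → G → ℂ,
      ∑ x ∈ invs G, ∑ y ∈ invs G, F (k⁻¹ * x * k) (k⁻¹ * y * k) =
        ∑ x ∈ invs G, ∑ y ∈ invs G, F x y := by
    intro k F
    have h2 : ∀ g : G, ∀ c : G, g * g = 1 → c⁻¹ * g * c * (c⁻¹ * g * c) = 1 := fun g c hg => by
      rw [show c⁻¹ * g * c * (c⁻¹ * g * c) = c⁻¹ * (g * g) * c by group, hg]; group
    have hh : ∀ F' : G → ℂ, ∑ x ∈ invs G, F' (k⁻¹ * x * k) = ∑ x ∈ invs G, F' x := fun F' =>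
      Finset.sum_nbij' (fun x => k⁻¹ * x * k) (fun x => k * x * k⁻¹)
        (fun x hx => mem_invs.2 (h2 x k (mem_invs.1 hx)))
        (fun x hx => mem_invs.2 (by simpa using h2 x k⁻¹ (mem_invs.1 hx)))
        (fun x _ => by group) (fun x _ => by group) (fun x _ => rfl)
    rw [hh (fun a => ∑ y ∈ invs G, F a (k⁻¹ * y * k))]
    exact Finset.sum_congr rfl fun a _ => hh (fun b => F a b)
  have step : ∑ x ∈ invs G, ∑ y ∈ invs G, indFun H α (x * y) =
      (Nat.card H : ℂ)⁻¹ * ((Nat.card G : ℂ) *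
        ∑ x ∈ invs G, ∑ y ∈ invs G, extendByZero H α (x * y)) := by
    simp only [indFun, ← Finset.mul_sum]
    congr 1
    rw [Finset.sum_congr rfl fun x _ => Finset.sum_comm, Finset.sum_comm]
    have e : ∀ k : G, ∑ x ∈ invs G, ∑ y ∈ invs G, extendByZero H α (k⁻¹ * (x * y) * k) =
        ∑ x ∈ invs G, ∑ y ∈ invs G, extendByZero H α (x * y) := fun k => by
      rw [← hconj k (fun a b => extendByZero H α (a * b))]
      refine Finset.sum_congr rfl fun x _ => Finset.sum_congr rfl fun y _ => congrArg _ ?_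
      group
    rw [Finset.sum_congr rfl fun k _ => e k, Finset.sum_const, Finset.card_univ, nsmul_eq_mul,
      Nat.card_eq_fintype_card]
  rw [step, ← mul_assoc]
  congr 1
  · have hH : (Nat.card H : ℂ) ≠ 0 := Nat.cast_ne_zero.mpr Nat.card_pos.ne'
    rw [← H.card_mul_index, Nat.cast_mul]
    field_simp
  set F : G → G → ℂ := fun x y => extendByZero H α (x * y) with hF
  have hres : ∀ x ∈ invs G, ∀ y ∈ invs G, F x y ≠ 0 → x ∈ H ∧ y ∈ H := by
    intro x hx y hy hne
    by_cases hm : x * y ∈ H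
    · rw [hF] at hne
      simp only [extendByZero_mem H α hm] at hne
      exact mem_of_invert hc hs (mem_invs.1 hx) (mem_invs.1 hy) hne rfl
    · exact absurd (extendByZero_not_mem H α hm) hne
  have hto : ∀ F' : G → ℂ, (∀ x ∈ invs G, F' x ≠ 0 → x ∈ H) →
      ∑ x ∈ invs G, F' x = ∑ x ∈ invs H, F' x := by
    intro F' hF'
    rw [← Finset.sum_filter_of_ne hF']
    refine Finset.sum_bij (fun x hx => ⟨x, (Finset.mem_filter.1 hx).2⟩)
      (fun x hx => mem_invs.2 (Subtype.ext (mem_invs.1 (Finset.mem_filter.1 hx).1)))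
      (fun _ _ _ _ e => Subtype.ext_iff.1 e)
      (fun b hb => ⟨b, Finset.mem_filter.2 ⟨mem_invs.2 (congrArg Subtype.val (mem_invs.1 hb)), b.2⟩,
        rfl⟩)
      (fun _ _ => rfl)
  rw [hto (fun x => ∑ y ∈ invs G, F x y) (fun x hx hne => by
    obtain ⟨y, hy, hy0⟩ := Finset.exists_ne_zero_of_sum_ne_zero hne
    exact (hres x hx y hy hy0).1)]
  refine Finset.sum_congr rfl fun x hx => ?_
  rw [hto (fun y => F x y) (fun y hy hne =>
    (hres x (mem_invs.2 (congrArg Subtype.val (mem_invs.1 hx))) y hy hne).2)]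
  exact Finset.sum_congr rfl fun y _ => extendByZero_mem H α (H.mul_mem x.2 y.2)

end Pairs

section Coords

variable [Fintype G] {H J : Subgroup G} [Fintype H] [DecidableEq G]

/-- The equations satisfied by the coordinates of an induced function. -/
theorem exists_coords {α : H → ℂ} (hgen : IsGeneralizedCharacter H α) (hc : Ctl H J)
    (hs : Supp H J α) (h2 : ∀ h : H, h * h = 1 → α h = 0) :
    ∃ z : IrrCharacter G → ℤ, (∀ χ : IrrCharacter G,
        classInner α (fun h : H => (χ : G → ℂ) h) = (z χ : ℂ)) ∧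
      indFun H α = ∑ χ, (z χ : ℂ) • (χ : G → ℂ) ∧
      ∑ χ, (z χ : ℂ) * (χ : G → ℂ) 1 = 0 ∧ ∑ χ, (z χ : ℂ) * invSum (χ : G → ℂ) = 0 ∧
      ∑ χ, (z χ : ℂ) * (invSum (χ : G → ℂ) ^ 2 / (χ : G → ℂ) 1) = (H.index : ℂ) *
        ∑ x ∈ invs H, ∑ y ∈ invs H, α (x * y) := by
  classical
  obtain ⟨a, b, ha, hb, rfl⟩ := hgen
  have hg : IsGeneralizedCharacter G (indFun H (a - b)) :=
    ⟨_, _, isCharacter_indFun H ha, isCharacter_indFun H hb, indFun_sub H a b⟩
  obtain ⟨z, hz, hzc⟩ := exists_int_coords hg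
  have hv : ∀ g : G, g * g = 1 → ∑ χ, (z χ : ℂ) * (χ : G → ℂ) g = 0 := fun g hg' => by
    have := congrFun hz g
    rw [indFun_vanish hg' h2, Finset.sum_apply] at this
    rw [this]
    rfl
  refine ⟨z, fun χ => ?_, hz, hv 1 (one_mul 1), ?_, ?_⟩
  · rw [← hzc, frobenius H _ (isClassFunction_character (irr_isCharacter χ.2))]
  · simp only [invSum, Finset.mul_sum]
    rw [Finset.sum_comm]
    exact Finset.sum_eq_zero fun g hg' => hv g (mem_invs.1 hg')
  · rw [← pair_sum_ind hc hs]
    simp only [← pair_sum_irr, Finset.mul_sum]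
    rw [Finset.sum_comm]
    refine Finset.sum_congr rfl fun x _ => ?_
    rw [Finset.sum_comm]
    refine Finset.sum_congr rfl fun y _ => ?_
    rw [hz, Finset.sum_apply]
    rfl

/-- Inner products of coordinates. -/
theorem coords_inner {α β : H → ℂ} {z w : IrrCharacter G → ℤ}
    (hz : indFun H α = ∑ χ, (z χ : ℂ) • (χ : G → ℂ))
    (hw : indFun H β = ∑ χ, (w χ : ℂ) • (χ : G → ℂ)) (hc : Ctl H J) (hα : Supp H J α) (hs : Supp H J β)
    (hβ : IsClassFunction H β) : ((∑ χ, z χ * w χ : ℤ) : ℂ) = classInner α β := by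
  classical
  rw [← isometry hc hα hs hβ, hz, hw, classInner_sum_left, Int.cast_sum]
  refine Finset.sum_congr rfl fun χ _ => ?_
  rw [classInner_smul_left, classInner_sum_right, Finset.sum_eq_single χ]
  · rw [classInner_smul_right, irr_self χ.2, mul_one, Int.cast_mul, map_intCast]
  · intro ψ _ hne
    rw [classInner_smul_right, irrC_orth, if_neg hne.symm, mul_zero]
  · simp

end Coords

end Cfsg.Agent.Solv.Special
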