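import Cfsg.Agent.Lib.Solv.Special.Char648

/-!
A subgroup `3³ : S₄` containing the centralisers of its normal three-subgroup is everything.
-/

set_option autoImplicit false
set_option maxRecDepth 100000
set_option linter.unusedSectionVars false

namespace Cfsg.Agent.Solv.Special.W648

open Cfsg Cfsg.Agent.Char Cfsg.Agent.Solv.Special

universe u

variable {G : Type u} [Group G] [Finite G] {H J : Subgroup G} {e : H ≃* M648} (h : Emb H J e)

include h

theorem Emb.card_J : Nat.card J = 27 := by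
  classical
  rw [← card_rot, ← Fintype.card_subtype, ← Nat.card_eq_fintype_card]
  exact Nat.card_congr
    { toFun := fun j => ⟨e ⟨j.1, h.le j.2⟩, (h.mem _).1 j.2⟩
      invFun := fun m => ⟨((e.symm m.1 : H) : G), (h.mem _).2 (by simpa using m.2)⟩
      left_inv := fun j => Subtype.ext (by simp)
      right_inv := fun m => Subtype.ext (by simp) }

theorem Emb.eq_top : H = ⊤ := by
  classical
  haveI := Fintype.ofFinite G
  haveI := Fintype.ofFinite H
  haveI := Fintype.ofFinite J
  obtain ⟨χ, hχ1, hχJ, x0, hx0, hx3⟩ := h.exists_char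
  obtain ⟨n, ρ, hρ, hρχ⟩ := χ.2
  have hfin : (Module.finrank ℂ (Fin n → ℂ) : ℂ) = 3 := by
    rw [← hχ1, ← hρχ, Representation.char_one]
  set R : Subgroup G := MonoidHom.ker ρ with hR
  have hmem : ∀ g, g ∈ R ↔ (χ : G → ℂ) g = 3 := fun g => by
    rw [hR, MonoidHom.mem_ker, Module.End.one_eq_id, ← eq_id_iff ρ g, hfin, hρχ]
  have hJR : J ≤ R := fun j hj => (hmem j).2 (hχJ j hj)
  have hRH : ∀ g ∈ R, g ∈ H → g ∈ J := by
    intro g hgR hgH
    by_contra hgJ
    obtain ⟨k, -, hu1, hu2⟩ := to_four (e ⟨g, hgH⟩) (fun hr => hgJ ((h.mem _).2 hr))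
    set N : Subgroup H := R.subgroupOf H with hN
    have hNn : N.Normal := inferInstance
    have hcm : ∀ x ∈ N, ∀ y : H, x * y * x⁻¹ * y⁻¹ ∈ N := fun x hx y => by
      have := N.mul_mem hx (hNn.conj_mem x⁻¹ (N.inv_mem hx) y)
      simpa [mul_assoc] using this
    have hrotN : ∀ m, rot m → e.symm m ∈ N := fun m hm =>
      Subgroup.mem_subgroupOf.2 (hJR ((h.mem _).2 (by simpa using hm)))
    have hf : e.symm f1 ∈ N := by
      obtain ⟨w, -, hw⟩ := four_conj _ hu1 hu2
      have hu : e.symm (e ⟨g, hgH⟩ * k * (e ⟨g, hgH⟩)⁻¹ * k⁻¹) ∈ N := by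
        simp only [map_mul, map_inv, MulEquiv.symm_apply_apply]
        exact hcm _ (Subgroup.mem_subgroupOf.2 hgR) _
      have h2 := hrotN _ hw
      have h3 : e.symm (w * f1 * w⁻¹) ∈ N := by
        have := N.mul_mem (N.inv_mem h2) hu
        rw [← map_inv, ← map_mul, mul_inv_rev, inv_inv, inv_mul_cancel_right] at this
        exact this
      rw [map_mul, map_mul, map_inv] at h3
      have := hNn.conj_mem _ h3 (e.symm w)⁻¹
      simpa [mul_assoc] using this
    obtain ⟨w, -, hw⟩ := four_conj (e x0) hx0.1 hx0.2.1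
    have h2 := hrotN _ hw
    simp only [map_mul, map_inv, MulEquiv.symm_apply_apply] at h2
    have h3 := N.mul_mem h2 (hNn.conj_mem _ hf (e.symm w))
    rw [inv_mul_cancel_right] at h3
    exact hx3 ((hmem _).1 (Subgroup.mem_subgroupOf.1 h3))
  have hcomm : ∀ a ∈ J, ∀ b ∈ J, a * b = b * a := fun a ha b hb => by
    have := (rot_mul _ ((h.mem ⟨a, h.le ha⟩).1 ha) _ ((h.mem ⟨b, h.le hb⟩).1 hb)).2
    rw [← map_mul, ← map_mul] at this
    exact congrArg Subtype.val (e.injective this)
  have hcube : ∀ a ∈ J, a * a * a = 1 := fun a ha => by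
    have := (rot_inv _ ((h.mem ⟨a, h.le ha⟩).1 ha)).2
    rw [← map_mul, ← map_mul, ← map_one e] at this
    exact congrArg Subtype.val (e.injective this)
  obtain ⟨j0, hj0, hj01⟩ : ∃ j ∈ J, j ≠ 1 := by
    refine J.bot_or_exists_ne_one.resolve_left fun hb => ?_
    have := h.card_J
    rw [hb, Subgroup.card_bot] at this
    norm_num at this
  have hnorm : ∀ g ∈ Subgroup.normalizer (J : Set G), g ∈ H := fun g hg =>
    h.ctlJ hj0 hj01 ((Subgroup.mem_normalizer_iff.1 hg j0).1 hj0)
  haveI : R.Normal := inferInstanceAs (MonoidHom.ker ρ).Normal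
  have hJeq : J = R := eq_of_centralisers J R hJR h.card_J hcomm hcube
    (fun g hgR hgN => hRH g hgR (hnorm g hgN))
    (fun t ht ht1 g hgR hgt => hRH g hgR (h.cent t ht ht1 (Subgroup.mem_centralizer_singleton_iff.2 hgt)))
  refine top_unique fun g _ => hnorm g ?_
  rw [hJeq, Subgroup.normalizer_eq_top]
  exact Subgroup.mem_top g

end Cfsg.Agent.Solv.Special.W648
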