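import Cfsg.Agent.Lib.Char.Linear
import Cfsg.Agent.Lib.Lead.GL2Ind

/-!
Exact sums of twelfth roots of unity, and monomial characters with such values.
-/

set_option autoImplicit false

namespace Cfsg.Agent.Solv.Special

open Cfsg Cfsg.Agent.Char
open scoped ComplexConjugate

/-- Coefficients in the powers `1, ζ, ζ², ζ³`. -/
abbrev Z12 := ℤ × ℤ × ℤ × ℤ

namespace Z12

/-- The powers of the primitive root. -/
def pow (k : ZMod 12) : Z12 :=
  match (k : Fin 12).val with
  | 0 => (1, 0, 0, 0)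
  | 1 => (0, 1, 0, 0)
  | 2 => (0, 0, 1, 0)
  | 3 => (0, 0, 0, 1)
  | 4 => (-1, 0, 1, 0)
  | 5 => (0, -1, 0, 1)
  | 6 => (-1, 0, 0, 0)
  | 7 => (0, -1, 0, 0)
  | 8 => (0, 0, -1, 0)
  | 9 => (0, 0, 0, -1)
  | 10 => (1, 0, -1, 0)
  | _ => (0, 1, 0, -1)

/-- A primitive twelfth root of unity. -/
noncomputable def ζ : ℂ := (Real.sqrt 3 : ℂ) / 2 + Complex.I / 2

/-- The value. -/
noncomputable def toC : Z12 →+ ℂ where
  toFun z := (z.1 : ℂ) + (z.2.1 : ℂ) * ζ + (z.2.2.1 : ℂ) * ζ ^ 2 + (z.2.2.2 : ℂ) * ζ ^ 3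
  map_zero' := by simp
  map_add' x y := by simp only [Prod.fst_add, Prod.snd_add, Int.cast_add]; ring

theorem sqrt3_sq : (Real.sqrt 3 : ℂ) * (Real.sqrt 3 : ℂ) = 3 := by
  rw [← Complex.ofReal_mul, Real.mul_self_sqrt (by norm_num)]; norm_num

theorem zeta_four : ζ ^ 4 = ζ ^ 2 - 1 := by
  have hI : Complex.I * Complex.I = -1 := Complex.I_mul_I
  have h3 := sqrt3_sq
  set r := (Real.sqrt 3 : ℂ)
  have h2 : ζ ^ 2 = (1 + r * Complex.I) / 2 := by
    rw [ζ]; linear_combination h3 / 4 + hI / 4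
  rw [show (4 : ℕ) = 2 * 2 from rfl, pow_mul, h2]
  linear_combination (r * r / 4) * hI - h3 / 4

theorem sqrt3_eq : (Real.sqrt 3 : ℂ) = 2 * ζ - ζ ^ 3 := by
  have hI : Complex.I * Complex.I = -1 := Complex.I_mul_I
  have h3 := sqrt3_sq
  set r := (Real.sqrt 3 : ℂ)
  rw [ζ]
  linear_combination (3 * r / 8 + Complex.I / 8) * hI + (r / 8 + 3 * Complex.I / 8) * h3

theorem zeta_twelve : ζ ^ 12 = 1 := by
  linear_combination (ζ ^ 8 + ζ ^ 6 - ζ ^ 2 - 1) * zeta_four

theorem toC_pow (k : ZMod 12) : toC (pow k) = ζ ^ k.val := by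
  have h := zeta_four
  fin_cases k <;> simp [toC, pow, ZMod.val] <;> (try grind)

/-- An element `g + h√3`. -/
def real3 (v : ℤ × ℤ) : Z12 := (v.1, 2 * v.2, 0, -v.2)

theorem toC_real3 (v : ℤ × ℤ) : toC (real3 v) = (v.1 : ℂ) + (v.2 : ℂ) * (Real.sqrt 3 : ℂ) := by
  rw [sqrt3_eq]
  simp [toC, real3]
  ring

end Z12

section

variable {M : Type} [Group M] [Fintype M]

/-- A monomial character given by a coset transversal and exponents. -/
def monoVal {n : ℕ} (S : Subgroup M) [DecidablePred (· ∈ S)] (lam : M → ZMod 12) (r : Fin n → M)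
    (g : M) : Z12 :=
  ((List.finRange n).map fun i =>
    if (r i)⁻¹ * g * r i ∈ S then Z12.pow (lam ((r i)⁻¹ * g * r i)) else 0).sum

theorem isCharacter_mono {n : ℕ} (S : Subgroup M) [DecidablePred (· ∈ S)] (lam : M → ZMod 12)
    (r : Fin n → M) (hadd : ∀ a : M, a ∈ S → ∀ b : M, b ∈ S → lam (a * b) = lam a + lam b)
    (hinj : ∀ i j, (r i)⁻¹ * r j ∈ S → i = j) (hsurj : ∀ g, ∃ i, (r i)⁻¹ * g ∈ S) :
    IsCharacter M fun g => Z12.toC (monoVal S lam r g) := by
  classical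
  haveI : Fintype S := Fintype.ofFinite _
  have h0 : lam 1 = 0 := by
    have := hadd 1 S.one_mem 1 S.one_mem
    rw [one_mul] at this
    exact left_eq_add.1 this
  have hpow : ∀ a b : ZMod 12, Z12.ζ ^ (a + b).val = Z12.ζ ^ a.val * Z12.ζ ^ b.val := fun a b => by
    rw [← pow_add, ZMod.val_add]
    conv_rhs => rw [← Nat.div_add_mod (a.val + b.val) 12, pow_add, pow_mul, Z12.zeta_twelve,
      one_pow, one_mul]
  let φ : S →* ℂ :=
    { toFun := fun a => Z12.ζ ^ (lam a).val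
      map_one' := by simp [h0]
      map_mul' := fun a b => by rw [Subgroup.coe_mul, hadd a a.2 b b.2, hpow] }
  have hchar : IsCharacter S fun a => Z12.ζ ^ (lam a).val := by
    have := isCharacter_linear φ.toHomUnits
    exact this
  have hr : Function.Bijective fun i => (r i : M ⧸ S) :=
    ⟨fun i j e => hinj i j (QuotientGroup.eq.1 e), fun q => by
      obtain ⟨g, rfl⟩ := QuotientGroup.mk_surjective q
      obtain ⟨i, hi⟩ := hsurj g
      exact ⟨i, QuotientGroup.eq.2 hi⟩⟩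
  have hind := isCharacter_indFun S hchar
  convert hind using 1
  funext g
  rw [Lead.GL2.indFun_eq_sum_reps S _ (fun h k => by
    simp only [Subgroup.coe_mul, hadd _ (S.mul_mem (S.inv_mem k.2) h.2) _ k.2, Subgroup.coe_inv]
    rw [hadd _ (S.inv_mem k.2) _ h.2]
    have := hadd _ (S.inv_mem k.2) _ k.2
    rw [inv_mul_cancel, h0] at this
    congr 2
    linear_combination -this) r hr g, monoVal, map_list_sum, List.map_map, Fin.sum_univ_def]
  refine congrArg List.sum (List.map_congr_left fun i _ => ?_)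
  simp only [Function.comp]
  split_ifs with hm
  · rw [extendByZero_mem S _ hm, Z12.toC_pow]
  · rw [extendByZero_not_mem S _ hm, map_zero]

end

end Cfsg.Agent.Solv.Special
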